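import Cfsg.Agent.Lib.Helper3.G24.L1D
import Cfsg.Agent.Lib.Helper3.G24.Net

set_option autoImplicit false
set_option maxRecDepth 100000

namespace Cfsg.Agent.Lib.Helper3.G24.L1

open Cfsg.Agent.Lib.Helper11 Cfsg.Agent.Lib.Helper3

set_option maxHeartbeats 0
set_option Elab.async false

noncomputable def fc (i : ℕ) : ℕ := (Bool.rec (fc0_0 i) (fc0_1 i) (Nat.ble 16 i))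
noncomputable def sc (i : ℕ) : ℕ := (Bool.rec (sc0_0 i) (sc0_1 i) (Nat.ble 16 i))
noncomputable def nc (i : ℕ) : ℕ := (nc0_0 i)
noncomputable def cc (i : ℕ) : ℕ := (Bool.rec (cc0_0 i) (Bool.rec (cc0_1 i) (cc0_2 i) (Nat.ble 32 i)) (Nat.ble 16 i))

def isH (l : ℕ) : Bool := decide (l ∈ [4, 6])
def gens : List ℕ := [1, 2]
def hl : List ℕ := [4, 6]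
def dl : List (List ℕ × ℕ) := [([2], 3), ([3, 1, 2, 2, 2, 1, 2, 2, 2, 1, 3, 3, 3], 5), ([5], 4), ([2, 1, 2, 2, 1, 3, 1, 3, 3, 1, 2, 2, 2, 2], 7), ([7], 6), ([6, 6, 4, 4, 7, 5, 7], 9), ([9], 8), ([5, 7, 7, 5, 6, 5, 5, 7], 11), ([11], 10)]
def BR_0 : List (List ℕ) := [[], [3, 1, 2, 2, 2, 1, 2, 2, 2, 1, 3, 3, 3, 5], [2, 1, 2, 2, 1, 3, 1, 3, 3, 1, 2, 2, 2, 2, 7], [6, 6, 4, 4, 7, 5, 7, 9], [5, 7, 7, 5, 6, 5, 5, 7, 11], [2, 2, 2, 2, 2, 2, 2, 2, 2, 2, 2, 2, 2, 2, 2, 2, 2, 2, 2, 2, 2], [3, 3, 3, 3, 3, 3, 3, 3, 3, 3, 3, 3, 3, 3, 3, 3, 3, 3, 3, 3, 3], [1, 2, 1, 2, 1, 2, 1, 2, 1, 2, 1, 2, 1, 2, 1, 2, 1, 2, 1, 2, 1, 2, 1, 2, 1, 2], [1, 3, 1, 3, 1, 3, 1, 3, 1, 3, 1, 3, 1,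 3, 1, 3, 1, 3, 1, 3, 1, 3, 1, 3, 1, 3], [1, 2, 1, 3, 1, 2, 1, 3, 1, 2, 1, 3], [1, 2, 2, 2, 1, 2, 2, 2, 1, 2, 2, 2, 1, 2, 2, 2, 1, 2, 2, 2, 1, 2, 2, 2, 1, 2, 2, 2], [1, 3, 3, 3, 1, 3, 3, 3, 1, 3, 3, 3, 1, 3, 3, 3, 1, 3, 3, 3, 1, 3, 3, 3, 1, 3, 3, 3], [1, 9, 11, 11, 8, 11, 5, 6, 6, 6], [3, 3, 1, 3, 1, 2, 1, 2, 2, 8, 10, 9, 6, 6, 5, 5], [2, 1, 3, 3, 1, 2, 2, 1, 3, 8, 11, 8, 11, 8, 10, 4, 6], [3, 3, 3, 1, 3, 3, 1, 3, 3, 1, 2, 1, 3, 9, 10, 10, 9, 10, 6, 5, 6, 5, 6], [3, 3, 1, 3, 3, 1, 2, 2, 1, 2, 1, 2, 2, 2, 11, 8, 11, 8, 10, 10, 6, 6, 6, 5, 7], [3, 1, 3, 3, 1, 2, 2, 2, 2, 1, 3, 3, 1, 3, 8, 10, 9, 10, 7, 7, 4, 7], [3, 1, 2, 1, 3, 3, 1, 2, 2, 2, 1, 2, 2, 2, 11, 11,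 7, 7, 4, 4, 4, 7, 7], [2, 1, 2, 1, 3, 3, 1, 2, 2, 1, 3, 1, 3, 3, 8, 11, 8, 6, 6, 6, 4], [3, 1, 2, 1, 2, 1, 2, 2, 2, 1, 2, 2, 2, 2, 11, 8, 10, 9, 11, 4, 4, 4, 4, 7], [2, 1, 3, 3, 3, 3, 1, 2, 2, 2, 2, 1, 3, 3, 11, 11, 8, 11, 4, 7, 4, 4, 4, 4, 6], [3, 3, 3, 1, 2, 2, 2, 2, 1, 2, 1, 2, 2, 2, 2, 10, 9, 10, 9, 11, 4, 4, 7, 4, 7, 4], [2, 1, 3, 1, 3, 3, 1, 2, 1, 2, 2, 1, 2, 1, 2, 8, 10, 10, 8, 11, 9, 5, 6, 5, 6, 6, 6], [2, 1, 2, 2, 2, 2, 1, 2, 2, 2, 2, 2, 1, 2, 2, 9, 11, 8, 11, 9, 4, 4, 6, 6, 4, 6, 4], [3, 1, 2, 1, 2, 1, 2, 1, 2, 2, 2, 2, 2, 2, 2, 5, 5, 7, 7, 5, 7, 4], [3, 1, 2, 1, 2, 2, 2, 1, 3, 3, 3, 1, 3, 1, 2, 11, 8, 5, 5, 7, 4, 7, 4], [2, 2, 1, 3, 1, 2, 2, 2, 1, 3,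 3, 3, 3, 3, 1, 3, 10, 9, 10, 10, 8, 7, 5, 6, 5, 7, 7, 5], [3, 1, 2, 2, 1, 3, 3, 3, 1, 3, 1, 2, 2, 1, 2, 2, 11, 11, 11, 11, 11, 7, 5, 5, 6, 4, 7], [2, 2, 2, 1, 3, 3, 1, 2, 2, 1, 3, 3, 3, 1, 2, 2, 11, 11, 11, 8, 6, 6, 6, 5, 5, 7], [3, 1, 3, 3, 1, 2, 1, 2, 1, 2, 2, 1, 3, 3, 1, 3, 11, 8, 10, 10, 4, 4, 7, 4, 4, 4, 6], [2, 1, 2, 2, 1, 2, 1, 2, 2, 1, 2, 1, 2, 1, 3, 3, 9, 10, 9, 11, 5, 6, 6, 4, 6, 4], [3, 3, 1, 2, 1, 3, 3, 1, 2, 2, 1, 2, 2, 1, 3, 3, 9, 11, 11, 9, 5, 6, 6, 5, 6, 6], [3, 3, 3, 3, 1, 2, 1, 2, 1, 3, 1, 3, 1, 2, 1, 2, 11, 9, 10, 8, 11, 4, 4, 7, 5, 7, 4], [2, 1, 2, 2, 1, 3, 1, 2, 2, 1, 3, 3, 1, 3, 1, 2, 8, 11, 9, 10, 4, 6, 5, 5, 7, 7], [3, 1, 3, 3, 3, 1, 2,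 2, 2, 1, 3, 3, 1, 3, 1, 3, 10, 10, 4, 6, 4, 7, 5, 7], [2, 2, 2, 2, 2, 2, 2, 2, 2, 1, 3, 1, 2, 2, 2, 2, 9, 10, 9, 11, 11, 11, 4, 4, 4, 4, 7], [2, 1, 3, 1, 3, 1, 2, 2, 1, 2, 2, 1, 3, 3, 3, 1, 2, 8, 10, 9, 10, 9, 11, 6, 5, 5, 6, 6, 6, 4], [2, 2, 2, 1, 2, 1, 2, 2, 1, 2, 2, 2, 1, 3, 3, 3, 3, 8, 11, 4, 6, 5, 5, 7, 7, 5], [2, 2, 1, 2, 2, 2, 1, 2, 1, 2, 1, 3, 3, 1, 3, 3, 3, 10, 9, 10, 10, 5], [2, 1, 3, 3, 3, 1, 3, 1, 2, 2, 1, 3, 3, 1, 2, 2, 2, 9, 10, 9, 10, 9, 10, 5, 6, 6, 4, 6], [3, 1, 3, 3, 1, 3, 1, 2, 2, 1, 2, 1, 2, 1, 2, 1, 2, 8, 11, 8, 10, 10, 10, 6, 4, 4, 4, 4, 6], [3, 1, 3, 1, 3, 1, 2, 1, 2, 1, 2, 1, 3, 3, 3, 1, 2, 9, 10, 9, 4, 7, 4, 6, 4], [2, 2, 1, 2, 2, 2, 2,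 2, 1, 3, 3, 3, 3, 3, 1, 3, 3, 9, 10, 10, 8, 6, 5, 6, 5, 5, 7], [2, 2, 2, 1, 2, 2, 1, 2, 1, 2, 1, 2, 2, 2, 1, 2, 1, 3, 10, 9, 10, 9, 10, 9, 4, 6, 5, 7, 4, 4], [2, 1, 3, 1, 3, 3, 3, 1, 2, 1, 2, 1, 2, 1, 3, 3, 3, 3, 10, 9, 11, 11, 11, 4, 6, 4, 4, 4, 6, 4], [2, 1, 3, 3, 3, 3, 3, 1, 3, 1, 2, 1, 3, 3, 3, 1, 3, 3, 10, 10, 9, 10, 9, 4, 6, 6, 6], [3, 1, 3, 3, 3, 1, 3, 3, 1, 2, 1, 3, 3, 3, 3, 3, 3, 3, 8, 10, 9, 10, 9, 5, 6, 4, 7], [3, 1, 2, 2, 2, 2, 1, 3, 1, 3, 1, 3, 3, 3, 3, 1, 3, 3, 8, 11, 11, 8, 6, 6, 4, 6, 4, 4], [3, 1, 3, 1, 2, 1, 2, 2, 1, 3, 3, 3, 3, 3, 1, 2, 1, 3, 10, 9, 10, 10, 8, 7, 5, 7, 4, 7], [2, 2, 1, 3, 3, 3, 1, 2, 1, 2, 2, 1, 3, 1, 3, 3, 1, 3, 10, 10, 10,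 5, 5, 6, 5, 7, 7], [3, 1, 3, 3, 3, 1, 2, 1, 2, 2, 1, 3, 1, 2, 1, 2, 1, 2, 9, 10, 10, 10, 10, 9, 5, 5, 7, 5, 5, 6], [2, 2, 1, 2, 2, 1, 3, 3, 1, 2, 1, 3, 3, 1, 3, 3, 1, 3, 8, 10, 8, 11, 4, 4, 4, 6, 4, 7, 7], [3, 3, 1, 2, 2, 1, 2, 2, 2, 1, 2, 2, 2, 2, 2, 2, 2, 2, 9, 11, 8, 11, 8, 11, 4, 4, 6, 6, 6, 4], [3, 1, 3, 3, 3, 1, 3, 1, 2, 1, 2, 2, 1, 3, 1, 2, 1, 2, 8, 10, 9, 11, 11, 9, 4, 7, 5, 6, 4, 6], [2, 1, 3, 3, 3, 1, 2, 1, 2, 2, 1, 3, 3, 1, 3, 1, 2, 2, 10, 9, 10, 10, 8, 4, 4, 4, 4, 7, 5, 7], [2, 2, 1, 2, 2, 2, 2, 1, 3, 1, 3, 1, 2, 1, 2, 2, 1, 2, 8, 11, 11, 8, 4, 4, 4, 6, 5, 6, 6], [3, 1, 3, 3, 1, 3, 1, 3, 1, 3, 3, 1, 3, 3, 1, 3, 3, 3, 9, 11, 11, 5, 5, 6, 4, 6, 4], [2,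 1, 3, 1, 3, 1, 3, 1, 2, 2, 2, 2, 1, 2, 2, 2, 2, 2, 8, 11, 11, 8, 11, 6, 4, 6, 6, 4], [2, 2, 2, 1, 3, 1, 3, 1, 2, 2, 2, 1, 3, 1, 3, 1, 3, 3, 8, 11, 11, 11, 8, 5, 7, 4, 7], [2, 1, 3, 3, 3, 1, 2, 2, 1, 2, 2, 2, 1, 3, 3, 3, 1, 3, 9, 11, 11, 5, 6, 4, 6, 6, 5], [3, 1, 2, 1, 2, 2, 1, 2, 2, 1, 2, 1, 2, 2, 1, 2, 1, 3, 10, 9, 11, 11, 11, 11, 4, 7, 4, 6, 5, 7, 7], [3, 3, 1, 2, 2, 2, 2, 2, 2, 1, 2, 1, 2, 2, 2, 2, 1, 3, 9, 10, 8, 7, 5, 6, 4, 6, 4], [3, 3, 3, 3, 3, 1, 3, 1, 2, 1, 2, 1, 2, 2, 1, 3, 1, 2, 11, 8, 11, 8, 11, 4, 7, 4, 4], [2, 2, 2, 2, 1, 2, 2, 1, 2, 2, 2, 2, 2, 2, 1, 3, 1, 3, 10, 9, 11, 11, 11, 7], [3, 3, 1, 2, 2, 1, 2, 2, 1, 2, 2, 2, 2, 2, 2, 2, 2, 2, 10, 9, 11,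 8, 10, 4, 6, 5, 6, 4, 7], [2, 1, 3, 1, 3, 3, 3, 3, 3, 1, 3, 3, 1, 2, 1, 2, 2, 2, 11, 11, 11, 11, 11, 6, 4, 7, 5, 7], [3, 3, 1, 2, 1, 2, 2, 2, 2, 2, 1, 2, 2, 2, 1, 3, 1, 3, 11, 8, 11, 8, 11, 8, 6, 5], [2, 1, 2, 1, 3, 3, 3, 1, 2, 2, 1, 3, 1, 3, 3, 3, 3, 3, 8, 10, 10, 8, 11, 7, 7, 5, 7, 4, 6], [2, 2, 1, 3, 1, 2, 2, 1, 2, 2, 2, 1, 2, 2, 2, 2, 2, 2, 8, 10, 10, 8, 6, 4, 6, 6, 4], [2, 1, 2, 1, 2, 1, 2, 2, 2, 2, 2, 2, 2, 2, 2, 2, 1, 2, 9, 10, 10, 10, 10, 5, 5, 5, 5, 7, 5], [2, 2, 1, 2, 2, 1, 3, 1, 2, 2, 2, 2, 1, 2, 1, 2, 1, 3, 9, 11, 11, 9, 10, 4, 4, 6, 6, 5, 7, 4], [3, 1, 3, 1, 2, 2, 1, 2, 1, 3, 3, 3, 1, 2, 2, 2, 1, 3, 9, 11, 8, 11, 6, 4, 7, 5, 7, 7], [2, 2, 2, 1, 3,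 1, 2, 2, 2, 2, 2, 1, 3, 1, 2, 2, 1, 2, 11, 11, 8, 4, 7, 4, 4, 6, 6, 5, 5], [2, 1, 2, 2, 2, 1, 3, 1, 2, 2, 1, 3, 1, 3, 1, 3, 3, 3, 8, 11, 11, 11, 11, 4, 6, 6, 4, 4, 7, 7], [2, 2, 1, 3, 1, 3, 1, 2, 2, 2, 2, 2, 1, 3, 1, 3, 3, 3, 3, 8, 11, 11, 11, 11, 5, 5, 7, 5, 5, 5], [2, 2, 1, 3, 3, 1, 2, 2, 2, 1, 2, 1, 2, 2, 1, 2, 1, 3, 3, 8, 11, 11, 11, 6, 5, 5, 6, 4, 7, 7], [3, 1, 3, 3, 3, 3, 1, 2, 2, 2, 2, 2, 2, 1, 3, 3, 1, 2, 2, 11, 8, 10, 6, 6, 5, 6, 4, 7], [3, 3, 1, 3, 3, 1, 3, 3, 3, 1, 3, 3, 1, 3, 3, 3, 1, 2, 2, 10, 5, 5, 5, 7, 7, 5], [2, 1, 2, 2, 2, 2, 2, 2, 2, 1, 2, 1, 3, 3, 3, 3, 1, 2, 2, 8, 11, 8, 10, 4, 7, 5, 6, 6], [2, 1, 2, 1, 2, 2, 1, 2, 2, 1, 2, 2, 2, 2, 1, 3,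 3, 3, 3, 8, 10, 9, 11, 8, 4, 4, 7, 7, 5], [3, 3, 1, 3, 3, 3, 1, 3, 1, 2, 1, 2, 2, 1, 2, 2, 2, 1, 3, 9, 10, 8, 4, 7, 4, 7, 5, 5], [2, 1, 3, 1, 3, 1, 3, 1, 3, 1, 3, 3, 3, 1, 2, 2, 2, 2, 2, 11, 11, 11, 11, 8, 7, 7, 5, 5, 6], [2, 1, 3, 1, 3, 1, 2, 2, 2, 2, 1, 3, 3, 3, 3, 1, 2, 1, 2, 11, 5, 7, 7, 4, 4, 4], [3, 1, 3, 1, 2, 2, 2, 1, 3, 1, 3, 1, 3, 1, 3, 3, 1, 3, 3, 9, 11, 8, 10, 10, 8, 6, 5, 6, 6, 4, 7], [3, 1, 3, 1, 3, 1, 2, 2, 1, 2, 2, 1, 3, 3, 3, 1, 2, 2, 2, 11, 8, 11, 5, 5, 6, 5, 7], [3, 3, 3, 1, 2, 2, 1, 3, 1, 2, 2, 2, 2, 2, 1, 3, 3, 1, 2, 8, 11, 8, 11, 8, 7, 5, 6, 4, 6, 6], [2, 1, 3, 3, 3, 3, 3, 1, 2, 2, 2, 2, 2, 1, 2, 2, 1, 2, 2, 9, 11, 8, 10, 10, 10, 4, 4, 4,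 6], [2, 1, 2, 1, 2, 2, 2, 2, 1, 2, 2, 2, 1, 3, 1, 3, 3, 1, 3, 10, 9, 10, 10, 10, 7, 7, 5, 7, 5], [3, 1, 3, 1, 2, 1, 2, 1, 2, 1, 2, 2, 1, 2, 2, 1, 2, 1, 3, 8, 11, 8, 11, 8, 6, 6, 6, 4, 4, 7], [2, 1, 3, 1, 2, 2, 2, 1, 2, 1, 2, 2, 2, 2, 1, 2, 2, 1, 2, 11, 11, 11, 8, 4, 4, 6, 4, 4, 6], [2, 1, 3, 1, 2, 2, 2, 1, 2, 2, 1, 3, 3, 3, 3, 3, 3, 1, 2, 11, 8, 11, 8, 11, 4, 4, 4, 6, 5, 6, 4], [2, 2, 1, 2, 1, 2, 1, 2, 2, 2, 2, 1, 2, 1, 2, 1, 3, 3, 3, 8, 10, 9, 11, 8, 4, 4, 6, 4, 4, 6], [2, 1, 2, 1, 3, 1, 2, 2, 2, 2, 2, 2, 1, 2, 1, 3, 3, 1, 2, 8, 11, 8, 10, 10, 8, 4, 7, 4, 7, 4, 6, 4], [2, 2, 2, 1, 3, 1, 3, 3, 3, 1, 3, 1, 2, 2, 2, 2, 1, 2, 2, 8, 11, 8, 10, 10, 8, 4, 4, 4, 6, 4,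 7], [2, 2, 2, 1, 2, 2, 1, 2, 2, 2, 2, 2, 1, 3, 3, 3, 3, 3, 3, 8, 10, 9, 10, 8, 6, 4, 4, 4, 7, 4], [2, 1, 2, 2, 2, 1, 2, 2, 2, 2, 2, 2, 2, 1, 3, 3, 3, 1, 3, 8, 11, 9, 6, 6, 6, 4, 6], [3, 3, 1, 3, 3, 3, 3, 1, 2, 2, 2, 2, 2, 2, 2, 2, 2, 1, 3, 8, 11, 8, 10, 10, 8, 7, 5, 6], [2, 2, 1, 2, 1, 2, 2, 2, 2, 1, 2, 1, 2, 2, 1, 2, 2, 1, 2, 10, 10, 8, 11, 4, 6, 6, 4, 7, 4], [2, 1, 2, 1, 3, 1, 3, 3, 1, 2, 2, 2, 1, 2, 1, 3, 1, 3, 3, 11, 8, 10, 10, 10, 5, 7, 5, 6], [2, 1, 2, 1, 2, 2, 1, 3, 1, 2, 2, 1, 2, 1, 2, 2, 1, 3, 3, 8, 10, 9, 10, 8, 4, 4, 4, 7, 5, 6, 4], [2, 1, 3, 1, 3, 1, 3, 3, 1, 2, 1, 2, 1, 2, 2, 2, 1, 2, 2, 9, 10, 8, 7, 7, 5, 6, 4, 6], [2, 2, 1, 2, 1, 3, 1, 2, 2, 1,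 2, 2, 1, 2, 2, 2, 2, 1, 2, 9, 10, 8, 11, 4, 7, 4, 4, 4, 4, 6], [2, 1, 2, 2, 1, 2, 2, 1, 2, 1, 3, 1, 3, 3, 3, 1, 3, 3, 3, 8, 10, 10, 9, 5, 6, 4, 6, 4, 4, 7], [3, 3, 3, 3, 3, 1, 2, 1, 2, 2, 2, 1, 2, 1, 3, 1, 3, 3, 3, 9, 10, 10, 9, 5, 6, 4, 6, 4, 4], [2, 1, 2, 1, 3, 3, 1, 3, 1, 2, 1, 3, 3, 3, 3, 3, 3, 3, 3, 8, 10, 8, 6, 6, 6, 4, 7, 4], [3, 3, 3, 3, 3, 1, 2, 2, 1, 2, 2, 2, 1, 2, 2, 2, 1, 3, 3, 8, 11, 11, 11, 11, 4, 6, 5, 5, 5, 5, 7]]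
def BR_1 : List (List ℕ) := [[3, 1, 3, 1, 3, 1, 3, 1, 2, 1, 3, 3, 3, 3, 1, 3, 3, 1, 3, 11, 11, 8, 11, 11, 4, 4, 4, 4, 6, 6, 6], [3, 3, 3, 3, 3, 3, 1, 2, 2, 2, 2, 1, 3, 3, 1, 2, 1, 3, 3, 9, 10, 9, 11, 11, 7, 5, 5], [2, 2, 2, 1, 3, 3, 1, 3, 3, 1, 2, 2, 1, 2, 2, 1, 3, 3, 3, 10, 9, 11, 11, 4, 6, 4, 6, 5, 7, 4], [3, 1, 3, 1, 2, 1, 2, 2, 2, 1, 2, 1, 2, 2, 2, 2, 2, 1, 2, 8, 11, 8, 11, 8, 7, 4, 4, 6, 6, 5], [3, 1, 2, 2, 1, 2, 1, 2, 2, 1, 3, 1, 2, 2, 1, 3, 3, 3, 3, 8, 11, 8, 11, 8, 4, 7, 4, 4, 4, 6, 6], [2, 2, 2, 2, 1, 3, 3, 1, 2, 2, 2, 2, 1, 2, 1, 2, 2, 1, 2, 10, 10, 9, 4, 6, 6, 4, 4, 6], [2, 2, 2, 2, 1, 2, 2, 2, 2, 1, 3, 3, 3, 1, 3, 1, 3, 3, 3, 9, 11, 11, 9, 7, 4, 7,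 7, 5, 5], [2, 2, 1, 3, 1, 2, 2, 1, 2, 1, 2, 1, 2, 1, 3, 1, 3, 1, 3, 8, 11, 11, 5, 6, 4, 6, 5, 5], [2, 1, 2, 1, 2, 1, 2, 2, 2, 1, 3, 3, 3, 1, 3, 1, 3, 1, 3, 9, 5, 7, 7, 5, 7, 4], [3, 3, 1, 2, 2, 1, 3, 3, 1, 2, 2, 1, 2, 2, 1, 3, 3, 1, 2, 9, 10, 9, 10, 8, 4, 6, 4, 6, 5, 6, 6], [3, 3, 3, 3, 3, 3, 1, 2, 1, 2, 2, 1, 2, 2, 1, 2, 2, 1, 2, 9, 11, 8, 11, 5, 5, 6, 5, 6, 6, 4], [3, 1, 2, 2, 2, 2, 1, 2, 2, 1, 2, 1, 3, 3, 1, 2, 2, 1, 3, 3, 9, 10, 9, 10, 5, 6, 5, 6, 5, 7], [2, 2, 2, 1, 2, 1, 3, 3, 1, 2, 2, 1, 3, 3, 3, 3, 1, 3, 1, 2, 11, 9, 6, 4, 7, 7], [3, 3, 1, 2, 2, 1, 2, 1, 2, 2, 2, 2, 1, 3, 1, 3, 1, 3, 1, 3, 10, 9, 11, 11, 4, 4, 4, 7, 5, 6, 5], [2, 2, 1, 3, 3, 1, 3, 3, 3,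 1, 2, 2, 1, 2, 1, 3, 3, 3, 1, 3, 8, 11, 11, 11, 11, 8, 5, 5, 5, 5, 6, 6], [2, 1, 2, 2, 2, 1, 3, 1, 3, 1, 2, 1, 2, 1, 3, 1, 3, 3, 1, 2, 10, 10, 8, 4, 7, 4, 4, 6, 6], [2, 2, 2, 2, 1, 2, 1, 2, 1, 2, 2, 2, 1, 3, 1, 2, 2, 1, 3, 3, 8, 11, 8, 10, 10, 8, 5, 7, 5, 5, 7, 4], [3, 3, 3, 3, 1, 3, 1, 2, 1, 2, 2, 1, 3, 3, 3, 3, 1, 3, 1, 3, 9, 11, 8, 10, 10, 8, 7, 7, 5, 7, 4, 4, 4], [3, 1, 2, 2, 1, 3, 1, 3, 3, 1, 3, 1, 2, 1, 2, 2, 1, 3, 1, 2, 8, 10, 10, 9, 10, 7, 4, 6, 5, 7, 4, 4], [3, 1, 3, 1, 2, 2, 1, 2, 2, 1, 3, 3, 3, 1, 2, 2, 2, 1, 3, 3, 11, 11, 11, 11, 6, 4, 7, 5, 7, 4], [2, 2, 2, 2, 2, 1, 3, 3, 3, 1, 2, 2, 1, 3, 1, 2, 2, 2, 1, 2, 9, 11, 11, 9, 10, 4, 6, 5, 6, 6, 5, 7],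 [2, 2, 2, 1, 3, 3, 1, 3, 1, 2, 2, 2, 1, 3, 3, 3, 1, 2, 1, 3, 8, 10, 10, 9, 6, 4, 4, 4, 7, 4, 4], [3, 1, 3, 1, 2, 1, 3, 3, 3, 1, 3, 1, 2, 2, 1, 3, 3, 3, 3, 3, 8, 11, 8, 10, 10, 6, 6, 4, 6, 6, 6], [2, 1, 3, 3, 3, 1, 2, 1, 3, 3, 1, 2, 2, 2, 1, 3, 3, 3, 1, 2, 10, 9, 10, 9, 11, 11, 4, 7, 5, 5], [3, 1, 3, 1, 2, 1, 3, 3, 1, 2, 1, 2, 2, 1, 3, 1, 3, 1, 2, 2, 8, 10, 9, 11, 8, 10, 4, 7, 7, 4, 6, 4, 4], [3, 1, 3, 1, 2, 1, 3, 3, 1, 2, 2, 1, 2, 1, 3, 1, 3, 1, 2, 2, 10, 9, 10, 10, 10, 5, 7, 5, 6, 6], [3, 1, 2, 2, 1, 3, 1, 3, 1, 3, 1, 3, 1, 2, 1, 2, 2, 1, 2, 2, 8, 10, 10, 10, 10, 9, 5, 7, 7, 4, 4], [3, 3, 1, 2, 1, 3, 3, 3, 1, 2, 2, 2, 1, 2, 2, 1, 3, 3, 3, 3, 9, 10, 10, 10, 4,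 4, 6, 5, 7, 7], [2, 2, 1, 2, 1, 2, 2, 2, 2, 2, 2, 1, 3, 3, 1, 2, 2, 2, 2, 2, 8, 10, 9, 10, 9, 4, 6, 4, 4, 4, 4, 6], [2, 2, 2, 1, 3, 1, 2, 2, 1, 2, 2, 2, 1, 3, 1, 2, 2, 2, 2, 2, 11, 11, 11, 8, 11, 6, 4, 6, 6, 6], [2, 2, 2, 1, 2, 1, 3, 1, 2, 2, 2, 1, 3, 3, 3, 3, 3, 1, 2, 2, 8, 11, 8, 10, 10, 9, 5, 6, 6, 5, 6, 5, 7], [2, 2, 2, 1, 2, 1, 2, 1, 2, 2, 2, 2, 1, 3, 3, 3, 3, 3, 3, 3, 9, 11, 9, 10, 6, 5, 7, 7, 4, 7], [3, 3, 1, 2, 2, 1, 3, 3, 3, 1, 3, 1, 2, 1, 2, 1, 3, 3, 1, 2, 11, 11, 9, 10, 8, 5, 6, 4, 4, 4], [2, 2, 1, 2, 2, 1, 2, 2, 2, 2, 1, 2, 2, 1, 3, 3, 3, 3, 3, 3, 9, 11, 11, 9, 10, 4, 4, 6, 5, 5, 5, 5], [2, 1, 2, 2, 2, 2, 2, 2, 1, 2, 1, 3, 3, 3, 1, 2, 1, 3, 1, 3, 11,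 8, 11, 9, 6, 5, 5, 6, 5], [2, 2, 1, 2, 1, 2, 1, 2, 2, 1, 3, 1, 3, 1, 3, 1, 3, 3, 1, 3, 10, 9, 11, 11, 11, 11, 4, 6, 4, 4, 7, 7, 4], [2, 2, 1, 3, 3, 1, 2, 1, 2, 1, 2, 1, 2, 2, 1, 3, 1, 3, 1, 3, 10, 10, 10, 10, 9, 5, 5, 6, 6, 4], [2, 2, 1, 3, 3, 1, 2, 2, 2, 2, 2, 1, 2, 1, 2, 2, 2, 2, 1, 2, 8, 11, 8, 11, 8, 11, 5, 6, 6, 5, 5], [3, 3, 1, 2, 1, 2, 1, 2, 1, 2, 2, 2, 1, 3, 3, 3, 1, 3, 1, 3, 9, 11, 8, 11, 4, 7, 7, 4, 6, 6, 5], [2, 2, 1, 3, 1, 3, 1, 2, 1, 2, 2, 2, 2, 2, 2, 2, 1, 3, 1, 2, 11, 8, 11, 8, 10, 5, 7, 5, 6, 5], [3, 3, 1, 2, 2, 2, 2, 1, 2, 2, 2, 1, 2, 2, 1, 3, 1, 3, 1, 2, 9, 10, 10, 9, 5, 6, 4, 6, 5, 5], [3, 3, 1, 3, 3, 3, 1, 2, 2, 2, 2, 1, 3, 3, 1, 2, 1, 3, 3,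 3, 10, 9, 11, 4, 4, 7, 4, 4, 4, 6], [2, 2, 1, 3, 1, 3, 3, 1, 2, 2, 2, 2, 2, 2, 2, 1, 2, 1, 3, 3, 8, 10, 10, 9, 10, 5, 7, 5, 5, 5], [3, 3, 1, 3, 3, 1, 3, 1, 2, 2, 2, 2, 1, 3, 3, 1, 3, 1, 3, 3, 9, 10, 9, 10, 9, 4, 7, 7, 4], [2, 1, 3, 1, 3, 1, 3, 1, 3, 3, 1, 3, 3, 1, 3, 1, 3, 1, 2, 2, 8, 11, 8, 11, 11, 9, 4, 4, 4], [3, 1, 3, 1, 2, 2, 2, 2, 2, 2, 2, 1, 2, 1, 3, 3, 3, 3, 3, 3, 8, 11, 11, 11, 11, 4, 7, 4, 4, 6, 6, 5], [2, 2, 1, 2, 1, 3, 1, 2, 2, 2, 2, 1, 2, 2, 1, 2, 1, 3, 1, 3, 8, 10, 10, 10, 10, 6, 6, 5, 7, 7, 4], [3, 1, 2, 1, 3, 3, 3, 1, 2, 2, 2, 2, 1, 2, 2, 2, 1, 2, 1, 2, 8, 11, 8, 11, 8, 10, 7, 7, 5, 5], [3, 1, 2, 2, 2, 2, 2, 1, 2, 2, 1, 2, 2, 1, 2, 1, 3, 3, 3,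 3, 8, 10, 10, 9, 10, 9, 4, 4, 7, 5, 7, 7, 5], [3, 3, 1, 2, 1, 2, 1, 2, 2, 2, 1, 2, 1, 3, 1, 3, 1, 3, 1, 3, 10, 8, 11, 9, 10, 6, 4, 7, 4, 7], [2, 2, 1, 3, 1, 2, 2, 1, 3, 1, 2, 2, 1, 3, 3, 1, 3, 3, 3, 3, 11, 8, 11, 8, 5, 7, 4, 6], [3, 3, 3, 1, 2, 2, 1, 2, 1, 2, 2, 1, 3, 1, 3, 3, 1, 3, 1, 3, 11, 8, 10, 10, 10, 5, 6, 4, 6, 4, 4, 7], [3, 1, 2, 2, 1, 3, 1, 2, 2, 1, 3, 1, 2, 2, 2, 2, 1, 3, 1, 3, 11, 11, 11, 11, 6, 4, 4, 4, 6, 6, 4], [3, 1, 3, 1, 2, 1, 2, 2, 2, 2, 2, 2, 2, 2, 1, 3, 1, 3, 3, 3, 10, 9, 11, 11, 11, 5, 6, 5, 6, 6, 6], [3, 3, 1, 2, 1, 2, 2, 1, 2, 1, 3, 1, 3, 3, 1, 3, 3, 1, 3, 3, 11, 11, 11, 8, 11, 5, 7, 4, 6, 4, 4], [3, 3, 1, 2, 1, 2, 2, 1, 2, 2, 2, 1, 2,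 2, 2, 2, 1, 2, 1, 3, 10, 9, 11, 11, 8, 7, 5, 7, 5, 5], [3, 3, 3, 1, 3, 1, 2, 1, 2, 1, 2, 2, 1, 3, 3, 1, 3, 3, 1, 2, 9, 10, 9, 10, 9, 4, 7, 7, 5, 5, 5, 5], [3, 1, 2, 2, 1, 2, 2, 2, 1, 3, 1, 3, 1, 2, 2, 1, 2, 2, 1, 2, 8, 11, 8, 10, 10, 10, 7, 4, 7, 4, 4], [2, 1, 2, 2, 2, 2, 1, 3, 3, 3, 1, 2, 1, 2, 2, 2, 1, 3, 1, 2, 9, 11, 11, 9, 10, 4, 4, 4, 4, 4, 7], [2, 2, 2, 2, 2, 1, 3, 3, 1, 3, 1, 2, 2, 2, 1, 2, 1, 2, 1, 2, 8, 10, 9, 11, 8, 4, 4, 4, 7, 4, 4], [2, 2, 1, 2, 1, 2, 1, 3, 3, 1, 2, 2, 2, 2, 2, 1, 3, 1, 2, 2, 9, 5, 7, 5, 6, 5, 5], [2, 2, 2, 2, 2, 1, 2, 1, 2, 2, 1, 2, 2, 2, 2, 2, 2, 2, 1, 3, 9, 11, 8, 11, 11, 7, 5, 5, 7, 5], [3, 1, 2, 2, 1, 2, 2, 2, 1, 2, 1, 2, 2, 1,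 3, 1, 3, 3, 1, 2, 10, 9, 11, 11, 6, 5, 6, 6, 4, 4, 4], [3, 1, 3, 3, 3, 3, 1, 2, 1, 2, 2, 2, 1, 2, 1, 3, 3, 3, 1, 3, 10, 9, 4, 6, 6, 4, 6, 4], [3, 3, 1, 3, 3, 3, 1, 2, 1, 2, 1, 2, 2, 1, 3, 1, 3, 3, 3, 3, 10, 9, 10, 9, 4, 7, 7, 4, 6, 4, 6], [2, 2, 2, 2, 2, 1, 2, 2, 2, 2, 2, 1, 2, 2, 1, 3, 1, 3, 1, 3, 11, 11, 8, 5, 7, 5, 6], [2, 2, 1, 2, 2, 2, 2, 2, 2, 1, 2, 1, 2, 2, 1, 3, 3, 1, 2, 2, 11, 11, 9, 10, 8, 5, 5, 7, 4], [2, 2, 1, 2, 2, 2, 1, 3, 3, 1, 2, 2, 2, 1, 3, 1, 3, 3, 1, 2, 9, 10, 8, 6, 4, 7, 5, 7, 5], [3, 3, 3, 1, 2, 2, 1, 2, 2, 2, 1, 2, 1, 3, 1, 3, 3, 3, 1, 3, 8, 10, 9, 10, 9, 10, 7, 5, 5, 5, 7, 5], [2, 1, 2, 1, 3, 1, 2, 2, 1, 2, 1, 2, 1, 3, 3, 3, 1, 3, 1, 2,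 2, 9, 10, 7, 5, 5, 6, 4, 7], [3, 3, 1, 3, 3, 3, 3, 1, 3, 3, 1, 3, 3, 1, 2, 1, 3, 1, 3, 3, 3, 10, 10, 10, 4, 7, 4, 4, 4, 4, 6], [2, 2, 2, 2, 1, 2, 1, 3, 1, 2, 2, 1, 2, 1, 3, 3, 1, 3, 3, 1, 2, 9, 10, 10, 5, 5, 7, 5, 6, 4], [2, 2, 2, 1, 2, 1, 3, 3, 1, 2, 1, 3, 3, 1, 2, 1, 3, 3, 1, 2, 2, 10, 10, 9, 10, 9, 4, 7, 5, 6, 6, 5, 5], [2, 2, 1, 2, 1, 2, 2, 2, 1, 2, 2, 1, 3, 3, 3, 1, 3, 3, 3, 1, 3, 9, 11, 11, 11, 5, 5, 6, 6, 5, 6], [3, 1, 3, 1, 3, 3, 1, 2, 2, 2, 2, 2, 1, 2, 1, 2, 2, 1, 3, 3, 3, 9, 10, 10, 10, 10, 9, 6, 5, 7, 4, 6, 5], [3, 3, 1, 3, 3, 1, 3, 3, 1, 3, 1, 3, 3, 1, 3, 1, 3, 1, 3, 3, 3, 8, 11, 8, 11, 8, 4, 4, 7, 5], [2, 2, 2, 2, 1, 3, 1, 2, 2, 2, 1, 2, 2, 2, 2,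 1, 3, 1, 3, 3, 3, 10, 10, 10, 5, 5, 6, 5, 7, 7], [3, 1, 3, 1, 3, 3, 1, 2, 1, 2, 2, 2, 2, 1, 3, 3, 3, 3, 3, 1, 2, 10, 10, 8, 11, 7, 5, 6, 5, 5, 5], [2, 2, 1, 3, 3, 1, 2, 1, 2, 2, 1, 3, 3, 1, 2, 2, 2, 1, 3, 1, 2, 10, 8, 6, 4, 7, 4, 6, 5, 5], [2, 1, 2, 1, 3, 1, 3, 1, 2, 2, 1, 2, 1, 3, 1, 3, 3, 1, 3, 1, 3, 11, 8, 11, 9, 4, 6, 5, 6, 4, 4, 4], [3, 1, 2, 1, 3, 3, 3, 3, 1, 3, 1, 3, 1, 2, 2, 2, 2, 2, 2, 1, 2, 9, 11, 8, 11, 4, 7, 4, 4, 7, 4], [2, 1, 2, 1, 2, 1, 3, 3, 1, 2, 1, 2, 2, 2, 1, 2, 2, 2, 1, 2, 2, 11, 11, 11, 11, 8, 5, 5, 7, 5, 6, 4], [2, 1, 2, 2, 2, 1, 2, 1, 2, 2, 1, 3, 1, 3, 1, 3, 3, 3, 1, 2, 2, 10, 9, 11, 11, 8, 4, 7, 5, 5, 7, 5], [2, 2, 1, 2, 1, 2, 1, 2, 1,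 3, 1, 3, 3, 3, 1, 3, 1, 3, 3, 3, 3, 11, 8, 10, 9, 6, 4, 7, 5, 6, 6, 4], [2, 2, 2, 1, 3, 3, 1, 3, 3, 3, 1, 2, 1, 2, 1, 2, 2, 1, 3, 3, 3, 8, 10, 9, 11, 8, 4, 4, 6, 6, 5, 7, 4, 7], [2, 2, 1, 2, 2, 1, 3, 3, 3, 3, 1, 2, 2, 2, 2, 1, 3, 1, 2, 1, 2, 9, 11, 11, 11, 4, 4, 6, 6, 5, 7, 7], [2, 2, 1, 3, 1, 3, 3, 1, 3, 3, 1, 3, 3, 1, 3, 3, 1, 3, 1, 3, 3, 9, 10, 10, 10, 4, 6, 4, 4, 6, 6, 5], [3, 1, 3, 1, 2, 2, 2, 1, 3, 3, 1, 3, 3, 1, 3, 3, 3, 1, 3, 1, 3, 11, 8, 10, 9, 11, 7, 5, 6, 5, 6, 6, 5], [3, 1, 3, 1, 2, 2, 2, 1, 2, 2, 1, 2, 1, 2, 2, 2, 1, 2, 1, 3, 3, 10, 10, 10, 10, 10, 6, 6, 5, 5, 7, 7], [2, 2, 2, 2, 1, 3, 3, 1, 3, 3, 1, 3, 3, 3, 3, 3, 3, 1, 3, 3, 3, 11, 11, 11, 11, 4,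 4, 6, 5, 6], [3, 3, 3, 1, 2, 2, 1, 2, 1, 3, 1, 2, 2, 1, 2, 1, 2, 2, 2, 2, 2, 9, 11, 8, 10, 10, 8, 7, 5, 6, 4], [2, 2, 2, 2, 2, 1, 2, 2, 1, 2, 1, 2, 1, 3, 1, 3, 3, 3, 1, 2, 2, 11, 11, 11, 11, 6, 6, 5]]
def BR_2 : List (List ℕ) := [[3, 3, 1, 2, 2, 1, 3, 1, 2, 2, 2, 2, 1, 3, 1, 3, 3, 1, 3, 1, 2, 8, 11, 11, 8, 11, 4, 6, 6, 6, 4], [3, 3, 1, 3, 3, 1, 3, 3, 1, 2, 2, 1, 3, 1, 3, 1, 3, 3, 3, 1, 3, 8, 10, 9, 10, 8, 7, 7, 4, 4, 4, 7], [3, 1, 2, 1, 2, 2, 2, 2, 2, 1, 2, 1, 3, 3, 1, 2, 2, 2, 1, 2, 2, 10, 9, 4, 6, 6, 6, 4, 6, 5], [3, 1, 3, 3, 1, 3, 3, 1, 2, 2, 2, 2, 2, 2, 1, 2, 1, 3, 3, 3, 3, 8, 11, 11, 11, 11, 8, 5, 6, 6, 6, 4, 4], [2, 2, 2, 2, 1, 2, 2, 2, 1, 2, 2, 2, 1, 3,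 1, 3, 1, 3, 3, 3, 3, 11, 11, 8, 11, 6, 5, 6, 5, 5, 6, 5], [2, 1, 2, 1, 2, 1, 2, 2, 1, 2, 2, 2, 2, 1, 2, 1, 3, 1, 3, 1, 3, 10, 8, 11, 9, 4, 7, 4, 6, 5, 7], [2, 1, 2, 1, 2, 2, 2, 1, 2, 2, 2, 2, 1, 3, 1, 3, 1, 3, 1, 2, 2, 11, 8, 11, 9, 4, 6, 6, 6, 5, 6], [3, 1, 2, 1, 2, 1, 3, 3, 1, 2, 2, 2, 2, 1, 3, 3, 3, 3, 1, 2, 2, 8, 10, 10, 9, 10, 9, 7, 4, 6, 5, 7, 4, 4], [2, 2, 1, 2, 2, 2, 2, 1, 2, 2, 2, 2, 2, 2, 2, 2, 2, 1, 2, 1, 3, 8, 11, 9, 10, 5, 5, 5, 5, 6], [3, 3, 1, 2, 2, 2, 1, 2, 2, 2, 2, 1, 2, 1, 2, 2, 2, 1, 2, 1, 2, 11, 11, 8, 11, 5, 5, 7, 5, 5, 5, 7], [3, 1, 2, 1, 3, 3, 3, 3, 3, 1, 2, 2, 1, 3, 3, 1, 3, 3, 3, 3, 3, 10, 8, 11, 9, 10, 4, 7, 5, 7, 5], [2, 1, 3, 1, 3,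 1, 2, 2, 2, 1, 2, 1, 2, 2, 2, 2, 2, 1, 2, 1, 2, 8, 11, 11, 9, 10, 6, 6, 6, 4, 4, 6], [3, 1, 2, 2, 2, 1, 3, 1, 2, 2, 2, 2, 2, 1, 2, 2, 2, 2, 2, 1, 2, 10, 10, 10, 4, 6, 4, 7, 5, 7], [2, 2, 1, 3, 3, 1, 3, 1, 2, 2, 2, 2, 2, 1, 2, 1, 2, 2, 2, 1, 3, 9, 11, 8, 11, 11, 5, 6, 6, 5, 6, 6, 4], [2, 1, 3, 1, 2, 2, 2, 2, 1, 2, 2, 1, 2, 1, 3, 3, 1, 2, 1, 3, 3, 8, 10, 9, 10, 4, 7, 7, 4, 6, 6, 5], [3, 1, 3, 3, 1, 3, 3, 3, 1, 3, 1, 3, 1, 3, 3, 1, 3, 3, 3, 1, 3, 8, 11, 9, 10, 8, 11, 4, 7, 5, 5, 7, 5], [2, 2, 2, 1, 3, 3, 1, 2, 1, 2, 2, 1, 2, 1, 3, 3, 3, 3, 3, 1, 2, 8, 10, 9, 11, 11, 9, 4, 4, 6, 4, 4, 6, 4], [3, 3, 1, 2, 1, 3, 3, 3, 1, 3, 1, 3, 1, 3, 3, 3, 3, 3, 3, 1, 2, 9, 10, 9,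 11, 4, 6, 4, 4], [2, 1, 2, 1, 2, 1, 2, 1, 2, 2, 2, 2, 2, 2, 1, 3, 3, 3, 1, 3, 3, 10, 9, 11, 11, 11, 5, 5, 6, 4, 4, 4, 4], [2, 1, 2, 1, 2, 2, 1, 2, 1, 2, 2, 2, 1, 2, 2, 2, 2, 2, 2, 1, 3, 9, 10, 10, 8, 11, 4, 6, 6], [3, 1, 3, 1, 3, 3, 3, 3, 1, 3, 1, 2, 2, 1, 3, 1, 3, 3, 3, 1, 3, 8, 10, 9, 10, 9, 11, 6, 5, 5, 6, 5], [2, 2, 1, 2, 2, 2, 1, 2, 2, 1, 2, 1, 3, 1, 2, 2, 2, 2, 2, 1, 3, 8, 11, 8, 11, 8, 11, 4, 6, 5, 7, 7], [2, 1, 3, 3, 3, 3, 1, 3, 3, 1, 2, 2, 2, 2, 1, 3, 3, 3, 3, 1, 3, 9, 4, 7, 4, 4, 7, 4], [2, 2, 1, 2, 2, 2, 1, 2, 2, 2, 2, 1, 2, 2, 2, 2, 1, 3, 1, 2, 2, 11, 11, 8, 11, 7], [3, 1, 3, 1, 3, 3, 3, 3, 1, 2, 2, 2, 1, 3, 1, 2, 2, 2, 1, 2, 2, 11, 8, 4, 4, 4, 7,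 7, 4, 4], [2, 2, 2, 1, 2, 1, 2, 2, 2, 2, 2, 2, 1, 2, 1, 3, 3, 3, 3, 1, 3, 10, 10, 9, 10, 10, 4, 7, 5], [2, 2, 1, 3, 1, 3, 3, 3, 1, 2, 2, 2, 2, 2, 2, 1, 3, 1, 3, 1, 2, 8, 10, 9, 10, 9, 11, 11, 5, 5], [2, 2, 1, 2, 2, 1, 3, 3, 3, 1, 2, 1, 2, 2, 1, 2, 2, 1, 3, 1, 3, 10, 10, 8, 11, 9, 4, 6, 6, 4, 6, 4, 6], [2, 1, 2, 1, 2, 2, 2, 1, 2, 1, 2, 2, 2, 1, 3, 3, 3, 1, 2, 1, 2, 8, 11, 11, 9, 5, 6, 5, 6], [2, 2, 2, 1, 3, 1, 3, 3, 1, 2, 1, 2, 2, 2, 2, 2, 2, 1, 2, 1, 2, 9, 11, 11, 9, 7, 7, 4, 4, 4, 7], [3, 1, 2, 2, 1, 3, 1, 2, 2, 2, 2, 1, 2, 2, 2, 1, 2, 1, 3, 1, 3, 11, 11, 9, 10, 5, 6, 6, 5, 5, 5], [2, 2, 2, 2, 2, 1, 3, 1, 2, 2, 2, 2, 2, 1, 2, 2, 2, 1, 2, 1, 3, 8, 10, 8, 11, 4,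 4, 6], [2, 1, 3, 3, 3, 1, 3, 3, 1, 2, 2, 2, 1, 2, 1, 2, 2, 2, 1, 3, 3, 9, 11, 8, 11, 8, 4, 6, 5, 5, 7, 5, 6], [3, 1, 2, 2, 1, 2, 1, 2, 2, 2, 1, 3, 3, 3, 1, 3, 1, 3, 3, 1, 2, 9, 5, 7, 7, 5, 7, 4], [2, 1, 2, 1, 2, 2, 2, 2, 2, 2, 2, 1, 3, 1, 3, 1, 2, 2, 2, 1, 3, 8, 10, 10, 8, 6, 4, 4, 4, 6, 6]]
def BR : List (List ℕ) := BR_0 ++ BR_1 ++ BR_2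
set_option maxRecDepth 10000000 in
noncomputable def rt : RT := (.node 281 (.node 140 (.node 70 (.node 35 (.node 17 (.node 8 (.node 4 (.node 2 (.node 1 (.leaf 0 0 []) (.leaf 2 7 [3, 3, 1, 2, 2, 2, 2, 7, 2, 1, 2, 2, 1, 3, 1])) (.node 3 (.leaf 1 6 [2, 2, 2, 1, 3, 3, 3, 5, 3, 1, 2, 2, 2, 1]) (.leaf 2 14 [7, 2, 1, 2, 2, 1, 3, 1, 3, 3, 1, 2, 2, 2, 2]))) (.node 6 (.node 5 (.leaf 9 6 [1, 3, 1, 2, 1, 3, 1, 2, 1, 3, 1, 2]) (.leaf 9 8 [1, 2, 1, 3, 1, 2, 1, 3, 1, 2, 1, 3])) (.node 7 (.leaf 1 13 [5, 3, 1, 2, 2, 2, 1, 2, 2, 2, 1, 3, 3, 3]) (.leaf 3 7 [9, 6, 6, 4, 4, 7, 5, 7])))) (.node 12 (.node 10 (.node 9 (.leaf 4 8 [11, 5, 7, 7, 5, 6, 5, 5, 7]) (.leaf 12 0 [1, 9, 11, 11,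 8, 11, 5, 6, 6, 6])) (.node 11 (.leaf 13 4 [1, 2, 1, 2, 2, 8, 10, 9, 6, 6, 5, 5, 3, 3, 1, 3]) (.leaf 14 4 [1, 2, 2, 1, 3, 8, 11, 8, 11, 8, 10, 4, 6, 2, 1, 3, 3]))) (.node 14 (.node 13 (.leaf 15 6 [1, 3, 3, 1, 2, 1, 3, 9, 10, 10, 9, 10, 6, 5, 6, 5, 6, 3, 3, 3, 1, 3, 3]) (.leaf 16 7 [2, 1, 2, 1, 2, 2, 2, 11, 8, 11, 8, 10, 10, 6, 6, 6, 5, 7, 3, 3, 1, 3, 3, 1, 2])) (.node 15 (.leaf 17 6 [2, 2, 2, 1, 3, 3, 1, 3, 8, 10, 9, 10, 7, 7, 4, 7, 3, 1, 3, 3, 1, 2]) (.node 16 (.leaf 18 7 [2, 2, 2, 1, 2, 2, 2, 11, 11, 7, 7, 4, 4, 4, 7, 7, 3, 1, 2, 1, 3, 3, 1]) (.leaf 19 7 [2, 2, 1, 3, 1, 3, 3, 8, 11, 8, 6, 6, 6, 4, 2, 1, 2, 1, 3, 3, 1])))))) (.node 26 (.node 21 (.node 19 (.node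 18 (.leaf 9 5 [2, 1, 3, 1, 2, 1, 3, 1, 2, 1, 3, 1]) (.leaf 20 7 [2, 2, 1, 2, 2, 2, 2, 11, 8, 10, 9, 11, 4, 4, 4, 4, 7, 3, 1, 2, 1, 2, 1, 2])) (.node 20 (.leaf 10 22 [2, 2, 1, 2, 2, 2, 1, 2, 2, 2, 1, 2, 2, 2, 1, 2, 2, 2, 1, 2, 2, 2, 1, 2, 2, 2, 1, 2]) (.leaf 21 7 [2, 2, 2, 2, 1, 3, 3, 11, 11, 8, 11, 4, 7, 4, 4, 4, 4, 6, 2, 1, 3, 3, 3, 3, 1]))) (.node 23 (.node 22 (.leaf 22 7 [2, 1, 2, 1, 2, 2, 2, 2, 10, 9, 10, 9, 11, 4, 4, 7, 4, 7, 4, 3, 3, 3, 1, 2, 2, 2]) (.leaf 23 7 [2, 1, 2, 2, 1, 2, 1, 2, 8, 10, 10, 8, 11, 9, 5, 6, 5, 6, 6, 6, 2, 1, 3, 1, 3, 3, 1])) (.node 24 (.leaf 24 7 [2, 2, 2, 2, 2, 1, 2, 2, 9, 11, 8, 11, 9, 4, 4, 6, 6, 4, 6, 4, 2, 1, 2, 2, 2, 2, 1]) (.node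 25 (.leaf 25 7 [1, 2, 2, 2, 2, 2, 2, 2, 5, 5, 7, 7, 5, 7, 4, 3, 1, 2, 1, 2, 1, 2]) (.leaf 26 7 [1, 3, 3, 3, 1, 3, 1, 2, 11, 8, 5, 5, 7, 4, 7, 4, 3, 1, 2, 1, 2, 2, 2]))))) (.node 30 (.node 28 (.node 27 (.leaf 27 7 [2, 1, 3, 3, 3, 3, 3, 1, 3, 10, 9, 10, 10, 8, 7, 5, 6, 5, 7, 7, 5, 2, 2, 1, 3, 1, 2, 2]) (.leaf 28 8 [1, 3, 1, 2, 2, 1, 2, 2, 11, 11, 11, 11, 11, 7, 5, 5, 6, 4, 7, 3, 1, 2, 2, 1, 3, 3, 3])) (.node 29 (.leaf 9 0 [1, 2, 1, 3, 1, 2, 1, 3, 1, 2, 1, 3]) (.leaf 29 8 [2, 1, 3, 3, 3, 1, 2, 2, 11, 11, 11, 8, 6, 6, 6, 5, 5, 7, 2, 2, 2, 1, 3, 3, 1, 2]))) (.node 32 (.node 31 (.leaf 9 9 [2, 1, 3, 1, 2, 1, 3, 1, 2, 1, 3, 1]) (.leaf 30 7 [2, 1, 2, 2, 1, 3, 3, 1, 3,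 11, 8, 10, 10, 4, 4, 7, 4, 4, 4, 6, 3, 1, 3, 3, 1, 2, 1])) (.node 33 (.leaf 31 8 [2, 1, 2, 1, 2, 1, 3, 3, 9, 10, 9, 11, 5, 6, 6, 4, 6, 4, 2, 1, 2, 2, 1, 2, 1, 2]) (.node 34 (.leaf 32 7 [1, 2, 2, 1, 2, 2, 1, 3, 3, 9, 11, 11, 9, 5, 6, 6, 5, 6, 6, 3, 3, 1, 2, 1, 3, 3]) (.leaf 33 7 [2, 1, 3, 1, 3, 1, 2, 1, 2, 11, 9, 10, 8, 11, 4, 4, 7, 5, 7, 4, 3, 3, 3, 3, 1, 2, 1]))))))) (.node 52 (.node 43 (.node 39 (.node 37 (.node 36 (.leaf 9 7 [3, 1, 2, 1, 3, 1, 2, 1, 3, 1, 2, 1]) (.leaf 34 8 [2, 1, 3, 3, 1, 3, 1, 2, 8, 11, 9, 10, 4, 6, 5, 5, 7, 7, 2, 1, 2, 2, 1, 3, 1, 2])) (.node 38 (.leaf 35 7 [2, 2, 1, 3, 3, 1, 3, 1, 3, 10, 10, 4, 6, 4, 7, 5, 7, 3, 1, 3, 3, 3, 1, 2]) (.leaf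 36 8 [2, 1, 3, 1, 2, 2, 2, 2, 9, 10, 9, 11, 11, 11, 4, 4, 4, 4, 7, 2, 2, 2, 2, 2, 2, 2, 2]))) (.node 41 (.node 40 (.leaf 9 11 [3, 1, 2, 1, 3, 1, 2, 1, 3, 1, 2, 1]) (.leaf 37 8 [1, 2, 2, 1, 3, 3, 3, 1, 2, 8, 10, 9, 10, 9, 11, 6, 5, 5, 6, 6, 6, 4, 2, 1, 3, 1, 3, 1, 2, 2])) (.node 42 (.leaf 38 8 [1, 2, 2, 2, 1, 3, 3, 3, 3, 8, 11, 4, 6, 5, 5, 7, 7, 5, 2, 2, 2, 1, 2, 1, 2, 2]) (.leaf 39 8 [1, 2, 1, 3, 3, 1, 3, 3, 3, 10, 9, 10, 10, 5, 2, 2, 1, 2, 2, 2, 1, 2])))) (.node 47 (.node 45 (.node 44 (.leaf 40 8 [2, 2, 1, 3, 3, 1, 2, 2, 2, 9, 10, 9, 10, 9, 10, 5, 6, 6, 4, 6, 2, 1, 3, 3, 3, 1, 3, 1]) (.leaf 9 3 [3, 1, 2, 1, 3, 1, 2, 1, 3, 1, 2, 1])) (.node 46 (.leaf 41 8 [2,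 1, 2, 1, 2, 1, 2, 1, 2, 8, 11, 8, 10, 10, 10, 6, 4, 4, 4, 4, 6, 3, 1, 3, 3, 1, 3, 1, 2]) (.leaf 42 8 [2, 1, 2, 1, 3, 3, 3, 1, 2, 9, 10, 9, 4, 7, 4, 6, 4, 3, 1, 3, 1, 3, 1, 2, 1]))) (.node 49 (.node 48 (.leaf 43 8 [1, 3, 3, 3, 3, 3, 1, 3, 3, 9, 10, 10, 8, 6, 5, 6, 5, 5, 7, 2, 2, 1, 2, 2, 2, 2, 2]) (.leaf 44 8 [1, 2, 1, 2, 2, 2, 1, 2, 1, 3, 10, 9, 10, 9, 10, 9, 4, 6, 5, 7, 4, 4, 2, 2, 2, 1, 2, 2, 1, 2])) (.node 50 (.leaf 7 18 [1, 2, 1, 2, 1, 2, 1, 2, 1, 2, 1, 2, 1, 2, 1, 2, 1, 2, 1, 2, 1, 2, 1, 2, 1, 2]) (.node 51 (.leaf 45 9 [1, 2, 1, 2, 1, 3, 3, 3, 3, 10, 9, 11, 11, 11, 4, 6, 4, 4, 4, 6, 4, 2, 1, 3, 1, 3, 3, 3, 1, 2]) (.leaf 46 9 [1, 2, 1, 3, 3, 3, 1, 3, 3, 10,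 10, 9, 10, 9, 4, 6, 6, 6, 2, 1, 3, 3, 3, 3, 3, 1, 3])))))) (.node 61 (.node 56 (.node 54 (.node 53 (.leaf 47 8 [1, 2, 1, 3, 3, 3, 3, 3, 3, 3, 8, 10, 9, 10, 9, 5, 6, 4, 7, 3, 1, 3, 3, 3, 1, 3, 3]) (.leaf 48 8 [1, 3, 1, 3, 3, 3, 3, 1, 3, 3, 8, 11, 11, 8, 6, 6, 4, 6, 4, 4, 3, 1, 2, 2, 2, 2, 1, 3])) (.node 55 (.leaf 49 8 [1, 3, 3, 3, 3, 3, 1, 2, 1, 3, 10, 9, 10, 10, 8, 7, 5, 7, 4, 7, 3, 1, 3, 1, 2, 1, 2, 2]) (.leaf 50 8 [1, 2, 2, 1, 3, 1, 3, 3, 1, 3, 10, 10, 10, 5, 5, 6, 5, 7, 7, 2, 2, 1, 3, 3, 3, 1, 2]))) (.node 58 (.node 57 (.leaf 51 8 [2, 2, 1, 3, 1, 2, 1, 2, 1, 2, 9, 10, 10, 10, 10, 9, 5, 5, 7, 5, 5, 6, 3, 1, 3, 3, 3, 1, 2, 1]) (.leaf 52 8 [1, 2, 1, 3, 3, 1, 3,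 3, 1, 3, 8, 10, 8, 11, 4, 4, 4, 6, 4, 7, 7, 2, 2, 1, 2, 2, 1, 3, 3])) (.node 59 (.leaf 53 9 [1, 2, 2, 2, 2, 2, 2, 2, 2, 9, 11, 8, 11, 8, 11, 4, 4, 6, 6, 6, 4, 3, 3, 1, 2, 2, 1, 2, 2, 2]) (.node 60 (.leaf 9 10 [1, 3, 1, 2, 1, 3, 1, 2, 1, 3, 1, 2]) (.leaf 54 8 [2, 1, 2, 2, 1, 3, 1, 2, 1, 2, 8, 10, 9, 11, 11, 9, 4, 7, 5, 6, 4, 6, 3, 1, 3, 3, 3, 1, 3, 1]))))) (.node 65 (.node 63 (.node 62 (.leaf 55 9 [2, 1, 3, 3, 1, 3, 1, 2, 2, 10, 9, 10, 10, 8, 4, 4, 4, 4, 7, 5, 7, 2, 1, 3, 3, 3, 1, 2, 1, 2]) (.leaf 56 9 [1, 3, 1, 2, 1, 2, 2, 1, 2, 8, 11, 11, 8, 4, 4, 4, 6, 5, 6, 6, 2, 2, 1, 2, 2, 2, 2, 1, 3])) (.node 64 (.leaf 9 4 [1, 2, 1, 3, 1, 2, 1, 3, 1, 2, 1, 3]) (.leaf 57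 8 [1, 3, 3, 1, 3, 3, 1, 3, 3, 3, 9, 11, 11, 5, 5, 6, 4, 6, 4, 3, 1, 3, 3, 1, 3, 1, 3]))) (.node 67 (.node 66 (.leaf 58 9 [2, 2, 2, 1, 2, 2, 2, 2, 2, 8, 11, 11, 8, 11, 6, 4, 6, 6, 4, 2, 1, 3, 1, 3, 1, 3, 1, 2]) (.leaf 59 8 [2, 2, 2, 1, 3, 1, 3, 1, 3, 3, 8, 11, 11, 11, 8, 5, 7, 4, 7, 2, 2, 2, 1, 3, 1, 3, 1])) (.node 68 (.leaf 60 8 [1, 2, 2, 2, 1, 3, 3, 3, 1, 3, 9, 11, 11, 5, 6, 4, 6, 6, 5, 2, 1, 3, 3, 3, 1, 2, 2]) (.node 69 (.leaf 61 8 [2, 1, 2, 1, 2, 2, 1, 2, 1, 3, 10, 9, 11, 11, 11, 11, 4, 7, 4, 6, 5, 7, 7, 3, 1, 2, 1, 2, 2, 1, 2]) (.leaf 62 8 [2, 1, 2, 1, 2, 2, 2, 2, 1, 3, 9, 10, 8, 7, 5, 6, 4, 6, 4, 3, 3, 1, 2, 2, 2, 2, 2])))))))) (.node 105 (.node 87 (.node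 78 (.node 74 (.node 72 (.node 71 (.leaf 63 8 [2, 1, 2, 1, 2, 2, 1, 3, 1, 2, 11, 8, 11, 8, 11, 4, 7, 4, 4, 3, 3, 3, 3, 3, 1, 3, 1]) (.leaf 64 8 [2, 2, 2, 2, 2, 2, 1, 3, 1, 3, 10, 9, 11, 11, 11, 7, 2, 2, 2, 2, 1, 2, 2, 1])) (.node 73 (.leaf 65 9 [2, 2, 2, 2, 2, 2, 2, 2, 2, 10, 9, 11, 8, 10, 4, 6, 5, 6, 4, 7, 3, 3, 1, 2, 2, 1, 2, 2, 1]) (.leaf 5 20 [2, 2, 2, 2, 2, 2, 2, 2, 2, 2, 2, 2, 2, 2, 2, 2, 2, 2, 2, 2, 2]))) (.node 76 (.node 75 (.leaf 66 9 [1, 3, 3, 1, 2, 1, 2, 2, 2, 11, 11, 11, 11, 11, 6, 4, 7, 5, 7, 2, 1, 3, 1, 3, 3, 3, 3, 3]) (.leaf 67 8 [2, 2, 1, 2, 2, 2, 1, 3, 1, 3, 11, 8, 11, 8, 11, 8, 6, 5, 3, 3, 1, 2, 1, 2, 2, 2])) (.node 77 (.leaf 68 9 [2, 1, 3, 1,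 3, 3, 3, 3, 3, 8, 10, 10, 8, 11, 7, 7, 5, 7, 4, 6, 2, 1, 2, 1, 3, 3, 3, 1, 2]) (.leaf 69 9 [2, 2, 1, 2, 2, 2, 2, 2, 2, 8, 10, 10, 8, 6, 4, 6, 6, 4, 2, 2, 1, 3, 1, 2, 2, 1, 2])))) (.node 82 (.node 80 (.node 79 (.leaf 10 16 [1, 2, 2, 2, 1, 2, 2, 2, 1, 2, 2, 2, 1, 2, 2, 2, 1, 2, 2, 2, 1, 2, 2, 2, 1, 2, 2, 2]) (.leaf 70 9 [2, 2, 2, 2, 2, 2, 2, 1, 2, 9, 10, 10, 10, 10, 5, 5, 5, 5, 7, 5, 2, 1, 2, 1, 2, 1, 2, 2, 2])) (.node 81 (.leaf 5 14 [2, 2, 2, 2, 2, 2, 2, 2, 2, 2, 2, 2, 2, 2, 2, 2, 2, 2, 2, 2, 2]) (.leaf 71 8 [2, 2, 2, 2, 1, 2, 1, 2, 1, 3, 9, 11, 11, 9, 10, 4, 4, 6, 6, 5, 7, 4, 2, 2, 1, 2, 2, 1, 3, 1]))) (.node 84 (.node 83 (.leaf 11 2 [3, 3, 1, 3, 3, 3, 1, 3, 3,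 3, 1, 3, 3, 3, 1, 3, 3, 3, 1, 3, 3, 3, 1, 3, 3, 3, 1, 3]) (.leaf 72 8 [1, 3, 3, 3, 1, 2, 2, 2, 1, 3, 9, 11, 8, 11, 6, 4, 7, 5, 7, 7, 3, 1, 3, 1, 2, 2, 1, 2])) (.node 85 (.leaf 73 9 [2, 2, 1, 3, 1, 2, 2, 1, 2, 11, 11, 8, 4, 7, 4, 4, 6, 6, 5, 5, 2, 2, 2, 1, 3, 1, 2, 2, 2]) (.node 86 (.leaf 74 9 [2, 1, 3, 1, 3, 1, 3, 3, 3, 8, 11, 11, 11, 11, 4, 6, 6, 4, 4, 7, 7, 2, 1, 2, 2, 2, 1, 3, 1, 2]) (.leaf 75 9 [2, 2, 2, 1, 3, 1, 3, 3, 3, 3, 8, 11, 11, 11, 11, 5, 5, 7, 5, 5, 5, 2, 2, 1, 3, 1, 3, 1, 2, 2])))))) (.node 96 (.node 91 (.node 89 (.node 88 (.leaf 76 9 [1, 2, 1, 2, 2, 1, 2, 1, 3, 3, 8, 11, 11, 11, 6, 5, 5, 6, 4, 7, 7, 2, 2, 1, 3, 3, 1, 2, 2, 2]) (.leaf 77 9 [2, 2,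 2, 2, 1, 3, 3, 1, 2, 2, 11, 8, 10, 6, 6, 5, 6, 4, 7, 3, 1, 3, 3, 3, 3, 1, 2, 2])) (.node 90 (.leaf 78 9 [1, 3, 3, 1, 3, 3, 3, 1, 2, 2, 10, 5, 5, 5, 7, 7, 5, 3, 3, 1, 3, 3, 1, 3, 3, 3]) (.leaf 79 9 [1, 2, 1, 3, 3, 3, 3, 1, 2, 2, 8, 11, 8, 10, 4, 7, 5, 6, 6, 2, 1, 2, 2, 2, 2, 2, 2, 2]))) (.node 93 (.node 92 (.leaf 80 9 [1, 2, 2, 2, 2, 1, 3, 3, 3, 3, 8, 10, 9, 11, 8, 4, 4, 7, 7, 5, 2, 1, 2, 1, 2, 2, 1, 2, 2]) (.leaf 81 9 [2, 1, 2, 2, 1, 2, 2, 2, 1, 3, 9, 10, 8, 4, 7, 4, 7, 5, 5, 3, 3, 1, 3, 3, 3, 1, 3, 1])) (.node 94 (.leaf 82 9 [1, 3, 3, 3, 1, 2, 2, 2, 2, 2, 11, 11, 11, 11, 8, 7, 7, 5, 5, 6, 2, 1, 3, 1, 3, 1, 3, 1, 3]) (.node 95 (.leaf 11 23 [3, 1, 3, 3, 3, 1, 3,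 3, 3, 1, 3, 3, 3, 1, 3, 3, 3, 1, 3, 3, 3, 1, 3, 3, 3, 1, 3, 3]) (.leaf 83 9 [2, 1, 3, 3, 3, 3, 1, 2, 1, 2, 11, 5, 7, 7, 4, 4, 4, 2, 1, 3, 1, 3, 1, 2, 2, 2]))))) (.node 100 (.node 98 (.node 97 (.leaf 84 9 [1, 3, 1, 3, 1, 3, 3, 1, 3, 3, 9, 11, 8, 10, 10, 8, 6, 5, 6, 6, 4, 7, 3, 1, 3, 1, 2, 2, 2, 1, 3]) (.leaf 9 1 [2, 1, 3, 1, 2, 1, 3, 1, 2, 1, 3, 1])) (.node 99 (.leaf 85 9 [2, 2, 1, 3, 3, 3, 1, 2, 2, 2, 11, 8, 11, 5, 5, 6, 5, 7, 3, 1, 3, 1, 3, 1, 2, 2, 1]) (.leaf 86 9 [2, 2, 2, 2, 2, 1, 3, 3, 1, 2, 8, 11, 8, 11, 8, 7, 5, 6, 4, 6, 6, 3, 3, 3, 1, 2, 2, 1, 3, 1]))) (.node 102 (.node 101 (.leaf 87 9 [2, 2, 2, 2, 1, 2, 2, 1, 2, 2, 9, 11, 8, 10, 10, 10, 4, 4, 4, 6, 2,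 1, 3, 3, 3, 3, 3, 1, 2]) (.leaf 88 9 [2, 2, 2, 1, 3, 1, 3, 3, 1, 3, 10, 9, 10, 10, 10, 7, 7, 5, 7, 5, 2, 1, 2, 1, 2, 2, 2, 2, 1])) (.node 103 (.leaf 89 9 [1, 2, 2, 1, 2, 2, 1, 2, 1, 3, 8, 11, 8, 11, 8, 6, 6, 6, 4, 4, 7, 3, 1, 3, 1, 2, 1, 2, 1, 2]) (.node 104 (.leaf 90 9 [1, 2, 2, 2, 2, 1, 2, 2, 1, 2, 11, 11, 11, 8, 4, 4, 6, 4, 4, 6, 2, 1, 3, 1, 2, 2, 2, 1, 2]) (.leaf 91 9 [2, 1, 3, 3, 3, 3, 3, 3, 1, 2, 11, 8, 11, 8, 11, 4, 4, 4, 6, 5, 6, 4, 2, 1, 3, 1, 2, 2, 2, 1, 2]))))))) (.node 122 (.node 113 (.node 109 (.node 107 (.node 106 (.leaf 92 9 [2, 2, 1, 2, 1, 2, 1, 3, 3, 3, 8, 10, 9, 11, 8, 4, 4, 6, 4, 4, 6, 2, 2, 1, 2, 1, 2, 1, 2, 2]) (.leaf 93 9 [2, 2, 2, 1, 2,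 1, 3, 3, 1, 2, 8, 11, 8, 10, 10, 8, 4, 7, 4, 7, 4, 6, 4, 2, 1, 2, 1, 3, 1, 2, 2, 2])) (.node 108 (.leaf 94 9 [1, 3, 1, 2, 2, 2, 2, 1, 2, 2, 8, 11, 8, 10, 10, 8, 4, 4, 4, 6, 4, 7, 2, 2, 2, 1, 3, 1, 3, 3, 3]) (.leaf 95 9 [2, 2, 2, 1, 3, 3, 3, 3, 3, 3, 8, 10, 9, 10, 8, 6, 4, 4, 4, 7, 4, 2, 2, 2, 1, 2, 2, 1, 2, 2]))) (.node 111 (.node 110 (.leaf 5 15 [2, 2, 2, 2, 2, 2, 2, 2, 2, 2, 2, 2, 2, 2, 2, 2, 2, 2, 2, 2, 2]) (.leaf 96 9 [2, 2, 2, 2, 1, 3, 3, 3, 1, 3, 8, 11, 9, 6, 6, 6, 4, 6, 2, 1, 2, 2, 2, 1, 2, 2, 2])) (.node 112 (.leaf 97 9 [2, 2, 2, 2, 2, 2, 2, 2, 1, 3, 8, 11, 8, 10, 10, 8, 7, 5, 6, 3, 3, 1, 3, 3, 3, 3, 1, 2]) (.leaf 5 16 [2, 2, 2, 2, 2, 2, 2, 2, 2, 2, 2,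 2, 2, 2, 2, 2, 2, 2, 2, 2, 2])))) (.node 117 (.node 115 (.node 114 (.leaf 98 9 [1, 2, 1, 2, 2, 1, 2, 2, 1, 2, 10, 10, 8, 11, 4, 6, 6, 4, 7, 4, 2, 2, 1, 2, 1, 2, 2, 2, 2]) (.leaf 99 9 [2, 2, 2, 1, 2, 1, 3, 1, 3, 3, 11, 8, 10, 10, 10, 5, 7, 5, 6, 2, 1, 2, 1, 3, 1, 3, 3, 1])) (.node 116 (.leaf 100 9 [2, 2, 1, 2, 1, 2, 2, 1, 3, 3, 8, 10, 9, 10, 8, 4, 4, 4, 7, 5, 6, 4, 2, 1, 2, 1, 2, 2, 1, 3, 1]) (.leaf 101 9 [2, 1, 2, 1, 2, 2, 2, 1, 2, 2, 9, 10, 8, 7, 7, 5, 6, 4, 6, 2, 1, 3, 1, 3, 1, 3, 3, 1]))) (.node 119 (.node 118 (.leaf 102 9 [1, 2, 2, 1, 2, 2, 2, 2, 1, 2, 9, 10, 8, 11, 4, 7, 4, 4, 4, 4, 6, 2, 2, 1, 2, 1, 3, 1, 2, 2]) (.leaf 103 9 [1, 3, 1, 3, 3, 3, 1, 3, 3, 3,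 8, 10, 10, 9, 5, 6, 4, 6, 4, 4, 7, 2, 1, 2, 2, 1, 2, 2, 1, 2])) (.node 120 (.leaf 104 9 [2, 2, 1, 2, 1, 3, 1, 3, 3, 3, 9, 10, 10, 9, 5, 6, 4, 6, 4, 4, 3, 3, 3, 3, 3, 1, 2, 1, 2]) (.node 121 (.leaf 10 18 [2, 2, 1, 2, 2, 2, 1, 2, 2, 2, 1, 2, 2, 2, 1, 2, 2, 2, 1, 2, 2, 2, 1, 2, 2, 2, 1, 2]) (.leaf 105 9 [2, 1, 3, 3, 3, 3, 3, 3, 3, 3, 8, 10, 8, 6, 6, 6, 4, 7, 4, 2, 1, 2, 1, 3, 3, 1, 3, 1])))))) (.node 131 (.node 126 (.node 124 (.node 123 (.leaf 106 9 [2, 2, 2, 1, 2, 2, 2, 1, 3, 3, 8, 11, 11, 11, 11, 4, 6, 5, 5, 5, 5, 7, 3, 3, 3, 3, 3, 1, 2, 2, 1]) (.leaf 107 9 [1, 3, 3, 3, 3, 1, 3, 3, 1, 3, 11, 11, 8, 11, 11, 4, 4, 4, 4, 6, 6, 6, 3, 1, 3, 1, 3, 1, 3, 1, 2])) (.node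 125 (.leaf 108 9 [2, 2, 1, 3, 3, 1, 2, 1, 3, 3, 9, 10, 9, 11, 11, 7, 5, 5, 3, 3, 3, 3, 3, 3, 1, 2, 2]) (.leaf 109 9 [1, 2, 2, 1, 2, 2, 1, 3, 3, 3, 10, 9, 11, 11, 4, 6, 4, 6, 5, 7, 4, 2, 2, 2, 1, 3, 3, 1, 3, 3]))) (.node 128 (.node 127 (.leaf 110 9 [1, 2, 1, 2, 2, 2, 2, 2, 1, 2, 8, 11, 8, 11, 8, 7, 4, 4, 6, 6, 5, 3, 1, 3, 1, 2, 1, 2, 2, 2]) (.leaf 111 9 [1, 3, 1, 2, 2, 1, 3, 3, 3, 3, 8, 11, 8, 11, 8, 4, 7, 4, 4, 4, 6, 6, 3, 1, 2, 2, 1, 2, 1, 2, 2])) (.node 129 (.leaf 112 9 [2, 2, 2, 1, 2, 1, 2, 2, 1, 2, 10, 10, 9, 4, 6, 6, 4, 4, 6, 2, 2, 2, 2, 1, 3, 3, 1, 2]) (.node 130 (.leaf 113 9 [1, 3, 3, 3, 1, 3, 1, 3, 3, 3, 9, 11, 11, 9, 7, 4, 7, 7, 5, 5, 2, 2, 2, 2, 1, 2,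 2, 2, 2]) (.leaf 114 9 [1, 2, 1, 2, 1, 3, 1, 3, 1, 3, 8, 11, 11, 5, 6, 4, 6, 5, 5, 2, 2, 1, 3, 1, 2, 2, 1, 2]))))) (.node 135 (.node 133 (.node 132 (.leaf 115 9 [1, 3, 3, 3, 1, 3, 1, 3, 1, 3, 9, 5, 7, 7, 5, 7, 4, 2, 1, 2, 1, 2, 1, 2, 2, 2]) (.leaf 116 9 [2, 2, 1, 2, 2, 1, 3, 3, 1, 2, 9, 10, 9, 10, 8, 4, 6, 4, 6, 5, 6, 6, 3, 3, 1, 2, 2, 1, 3, 3, 1])) (.node 134 (.leaf 117 9 [2, 2, 1, 2, 2, 1, 2, 2, 1, 2, 9, 11, 8, 11, 5, 5, 6, 5, 6, 6, 4, 3, 3, 3, 3, 3, 3, 1, 2, 1]) (.leaf 7 5 [2, 1, 2, 1, 2, 1, 2, 1, 2, 1, 2, 1, 2, 1, 2, 1, 2, 1, 2, 1, 2, 1, 2, 1, 2, 1]))) (.node 137 (.node 136 (.leaf 118 9 [1, 2, 1, 3, 3, 1, 2, 2, 1, 3, 3, 9, 10, 9, 10, 5, 6, 5, 6, 5, 7, 3, 1,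 2, 2, 2, 2, 1, 2, 2]) (.leaf 119 10 [2, 1, 3, 3, 3, 3, 1, 3, 1, 2, 11, 9, 6, 4, 7, 7, 2, 2, 2, 1, 2, 1, 3, 3, 1, 2])) (.node 138 (.leaf 120 9 [2, 2, 2, 1, 3, 1, 3, 1, 3, 1, 3, 10, 9, 11, 11, 4, 4, 4, 7, 5, 6, 5, 3, 3, 1, 2, 2, 1, 2, 1, 2]) (.node 139 (.leaf 121 9 [1, 2, 2, 1, 2, 1, 3, 3, 3, 1, 3, 8, 11, 11, 11, 11, 8, 5, 5, 5, 5, 6, 6, 2, 2, 1, 3, 3, 1, 3, 3, 3]) (.leaf 122 10 [2, 1, 2, 1, 3, 1, 3, 3, 1, 2, 10, 10, 8, 4, 7, 4, 4, 6, 6, 2, 1, 2, 2, 2, 1, 3, 1, 3, 1]))))))))) (.node 210 (.node 175 (.node 157 (.node 148 (.node 144 (.node 142 (.node 141 (.leaf 123 9 [2, 2, 2, 1, 3, 1, 2, 2, 1, 3, 3, 8, 11, 8, 10, 10, 8, 5, 7, 5, 5, 7, 4, 2, 2, 2, 2, 1, 2, 1, 2, 1])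 (.leaf 124 9 [2, 2, 1, 3, 3, 3, 3, 1, 3, 1, 3, 9, 11, 8, 10, 10, 8, 7, 7, 5, 7, 4, 4, 4, 3, 3, 3, 3, 1, 3, 1, 2, 1])) (.node 143 (.leaf 125 9 [1, 3, 1, 2, 1, 2, 2, 1, 3, 1, 2, 8, 10, 10, 9, 10, 7, 4, 6, 5, 7, 4, 4, 3, 1, 2, 2, 1, 3, 1, 3, 3]) (.leaf 126 9 [1, 3, 3, 3, 1, 2, 2, 2, 1, 3, 3, 11, 11, 11, 11, 6, 4, 7, 5, 7, 4, 3, 1, 3, 1, 2, 2, 1, 2, 2]))) (.node 146 (.node 145 (.leaf 127 10 [2, 2, 1, 3, 1, 2, 2, 2, 1, 2, 9, 11, 11, 9, 10, 4, 6, 5, 6, 6, 5, 7, 2, 2, 2, 2, 2, 1, 3, 3, 3, 1]) (.leaf 7 25 [2, 1, 2, 1, 2, 1, 2, 1, 2, 1, 2, 1, 2, 1, 2, 1, 2, 1, 2, 1, 2, 1, 2, 1, 2, 1])) (.node 147 (.leaf 128 9 [2, 2, 2, 1, 3, 3, 3, 1, 2, 1, 3, 8, 10, 10, 9, 6, 4, 4, 4,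 7, 4, 4, 2, 2, 2, 1, 3, 3, 1, 3, 1]) (.leaf 9 2 [1, 3, 1, 2, 1, 3, 1, 2, 1, 3, 1, 2])))) (.node 152 (.node 150 (.node 149 (.leaf 129 9 [1, 3, 1, 2, 2, 1, 3, 3, 3, 3, 3, 8, 11, 8, 10, 10, 6, 6, 4, 6, 6, 6, 3, 1, 3, 1, 2, 1, 3, 3, 3]) (.leaf 130 10 [1, 2, 2, 2, 1, 3, 3, 3, 1, 2, 10, 9, 10, 9, 11, 11, 4, 7, 5, 5, 2, 1, 3, 3, 3, 1, 2, 1, 3, 3])) (.node 151 (.leaf 131 10 [1, 2, 2, 1, 3, 1, 3, 1, 2, 2, 8, 10, 9, 11, 8, 10, 4, 7, 7, 4, 6, 4, 4, 3, 1, 3, 1, 2, 1, 3, 3, 1, 2]) (.leaf 132 10 [2, 1, 2, 1, 3, 1, 3, 1, 2, 2, 10, 9, 10, 10, 10, 5, 7, 5, 6, 6, 3, 1, 3, 1, 2, 1, 3, 3, 1, 2]))) (.node 154 (.node 153 (.leaf 133 10 [1, 3, 1, 2, 1, 2, 2, 1, 2, 2, 8, 10, 10, 10, 10,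 9, 5, 7, 7, 4, 4, 3, 1, 2, 2, 1, 3, 1, 3, 1, 3]) (.leaf 134 9 [2, 2, 2, 1, 2, 2, 1, 3, 3, 3, 3, 9, 10, 10, 10, 4, 4, 6, 5, 7, 7, 3, 3, 1, 2, 1, 3, 3, 3, 1])) (.node 155 (.leaf 135 10 [2, 1, 3, 3, 1, 2, 2, 2, 2, 2, 8, 10, 9, 10, 9, 4, 6, 4, 4, 4, 4, 6, 2, 2, 1, 2, 1, 2, 2, 2, 2, 2]) (.node 156 (.leaf 5 8 [2, 2, 2, 2, 2, 2, 2, 2, 2, 2, 2, 2, 2, 2, 2, 2, 2, 2, 2, 2, 2]) (.leaf 136 10 [2, 2, 1, 3, 1, 2, 2, 2, 2, 2, 11, 11, 11, 8, 11, 6, 4, 6, 6, 6, 2, 2, 2, 1, 3, 1, 2, 2, 1, 2])))))) (.node 166 (.node 161 (.node 159 (.node 158 (.leaf 137 10 [2, 1, 3, 3, 3, 3, 3, 1, 2, 2, 8, 11, 8, 10, 10, 9, 5, 6, 6, 5, 6, 5, 7, 2, 2, 2, 1, 2, 1, 3, 1, 2, 2]) (.leaf 138 10 [2, 2,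 1, 3, 3, 3, 3, 3, 3, 3, 9, 11, 9, 10, 6, 5, 7, 7, 4, 7, 2, 2, 2, 1, 2, 1, 2, 1, 2, 2])) (.node 160 (.leaf 10 21 [2, 2, 2, 1, 2, 2, 2, 1, 2, 2, 2, 1, 2, 2, 2, 1, 2, 2, 2, 1, 2, 2, 2, 1, 2, 2, 2, 1]) (.leaf 139 9 [1, 3, 1, 2, 1, 2, 1, 3, 3, 1, 2, 11, 11, 9, 10, 8, 5, 6, 4, 4, 4, 3, 3, 1, 2, 2, 1, 3, 3, 3]))) (.node 163 (.node 162 (.leaf 140 10 [1, 2, 2, 1, 3, 3, 3, 3, 3, 3, 9, 11, 11, 9, 10, 4, 4, 6, 5, 5, 5, 5, 2, 2, 1, 2, 2, 1, 2, 2, 2, 2]) (.leaf 141 9 [2, 1, 3, 3, 3, 1, 2, 1, 3, 1, 3, 11, 8, 11, 9, 6, 5, 5, 6, 5, 2, 1, 2, 2, 2, 2, 2, 2, 1])) (.node 164 (.leaf 142 9 [1, 3, 1, 3, 1, 3, 1, 3, 3, 1, 3, 10, 9, 11, 11, 11, 11, 4, 6, 4, 4, 7, 7, 4, 2, 2, 1, 2, 1, 2,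 1, 2, 2]) (.node 165 (.leaf 8 23 [3, 1, 3, 1, 3, 1, 3, 1, 3, 1, 3, 1, 3, 1, 3, 1, 3, 1, 3, 1, 3, 1, 3, 1, 3, 1]) (.leaf 143 9 [1, 2, 1, 2, 2, 1, 3, 1, 3, 1, 3, 10, 10, 10, 10, 9, 5, 5, 6, 6, 4, 2, 2, 1, 3, 3, 1, 2, 1, 2]))))) (.node 170 (.node 168 (.node 167 (.leaf 144 10 [2, 1, 2, 1, 2, 2, 2, 2, 1, 2, 8, 11, 8, 11, 8, 11, 5, 6, 6, 5, 5, 2, 2, 1, 3, 3, 1, 2, 2, 2, 2]) (.leaf 145 9 [2, 2, 2, 1, 3, 3, 3, 1, 3, 1, 3, 9, 11, 8, 11, 4, 7, 7, 4, 6, 6, 5, 3, 3, 1, 2, 1, 2, 1, 2, 1])) (.node 169 (.leaf 7 2 [1, 2, 1, 2, 1, 2, 1, 2, 1, 2, 1, 2, 1, 2, 1, 2, 1, 2, 1, 2, 1, 2, 1, 2, 1, 2]) (.leaf 146 10 [2, 2, 2, 2, 2, 2, 1, 3, 1, 2, 11, 8, 11, 8, 10, 5, 7, 5, 6, 5, 2, 2,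 1, 3, 1, 3, 1, 2, 1, 2]))) (.node 172 (.node 171 (.leaf 147 9 [2, 2, 1, 2, 2, 1, 3, 1, 3, 1, 2, 9, 10, 10, 9, 5, 6, 4, 6, 5, 5, 3, 3, 1, 2, 2, 2, 2, 1, 2]) (.leaf 148 9 [2, 2, 1, 3, 3, 1, 2, 1, 3, 3, 3, 10, 9, 11, 4, 4, 7, 4, 4, 4, 6, 3, 3, 1, 3, 3, 3, 1, 2, 2])) (.node 173 (.leaf 149 10 [2, 2, 2, 2, 2, 1, 2, 1, 3, 3, 8, 10, 10, 9, 10, 5, 7, 5, 5, 5, 2, 2, 1, 3, 1, 3, 3, 1, 2, 2]) (.node 174 (.leaf 150 9 [2, 2, 2, 1, 3, 3, 1, 3, 1, 3, 3, 9, 10, 9, 10, 9, 4, 7, 7, 4, 3, 3, 1, 3, 3, 1, 3, 1, 2]) (.leaf 151 10 [1, 3, 3, 1, 3, 1, 3, 1, 2, 2, 8, 11, 8, 11, 11, 9, 4, 4, 4, 2, 1, 3, 1, 3, 1, 3, 1, 3, 3]))))))) (.node 192 (.node 183 (.node 179 (.node 177 (.node 176 (.leaf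 152 9 [2, 2, 1, 2, 1, 3, 3, 3, 3, 3, 3, 8, 11, 11, 11, 11, 4, 7, 4, 4, 6, 6, 5, 3, 1, 3, 1, 2, 2, 2, 2, 2]) (.leaf 153 9 [2, 2, 1, 2, 2, 1, 2, 1, 3, 1, 3, 8, 10, 10, 10, 10, 6, 6, 5, 7, 7, 4, 2, 2, 1, 2, 1, 3, 1, 2, 2])) (.node 178 (.leaf 154 10 [2, 2, 1, 2, 2, 2, 1, 2, 1, 2, 8, 11, 8, 11, 8, 10, 7, 7, 5, 5, 3, 1, 2, 1, 3, 3, 3, 1, 2, 2]) (.leaf 155 9 [2, 1, 2, 2, 1, 2, 1, 3, 3, 3, 3, 8, 10, 10, 9, 10, 9, 4, 4, 7, 5, 7, 7, 5, 3, 1, 2, 2, 2, 2, 2, 1, 2]))) (.node 181 (.node 180 (.leaf 156 9 [2, 1, 2, 1, 3, 1, 3, 1, 3, 1, 3, 10, 8, 11, 9, 10, 6, 4, 7, 4, 7, 3, 3, 1, 2, 1, 2, 1, 2, 2]) (.leaf 7 13 [2, 1, 2, 1, 2, 1, 2, 1, 2, 1, 2, 1, 2, 1, 2, 1, 2, 1, 2, 1, 2, 1,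 2, 1, 2, 1])) (.node 182 (.leaf 157 10 [2, 2, 1, 3, 3, 1, 3, 3, 3, 3, 11, 8, 11, 8, 5, 7, 4, 6, 2, 2, 1, 3, 1, 2, 2, 1, 3, 1]) (.leaf 158 9 [2, 2, 1, 3, 1, 3, 3, 1, 3, 1, 3, 11, 8, 10, 10, 10, 5, 6, 4, 6, 4, 4, 7, 3, 3, 3, 1, 2, 2, 1, 2, 1])))) (.node 187 (.node 185 (.node 184 (.leaf 159 9 [1, 3, 1, 2, 2, 2, 2, 1, 3, 1, 3, 11, 11, 11, 11, 6, 4, 4, 4, 6, 6, 4, 3, 1, 2, 2, 1, 3, 1, 2, 2]) (.leaf 160 9 [2, 2, 2, 2, 2, 1, 3, 1, 3, 3, 3, 10, 9, 11, 11, 11, 5, 6, 5, 6, 6, 6, 3, 1, 3, 1, 2, 1, 2, 2, 2])) (.node 186 (.leaf 161 9 [1, 3, 1, 3, 3, 1, 3, 3, 1, 3, 3, 11, 11, 11, 8, 11, 5, 7, 4, 6, 4, 4, 3, 3, 1, 2, 1, 2, 2, 1, 2]) (.leaf 162 9 [2, 2, 1, 2, 2, 2, 2, 1, 2, 1,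 3, 10, 9, 11, 11, 8, 7, 5, 7, 5, 5, 3, 3, 1, 2, 1, 2, 2, 1, 2]))) (.node 189 (.node 188 (.leaf 163 9 [1, 2, 2, 1, 3, 3, 1, 3, 3, 1, 2, 9, 10, 9, 10, 9, 4, 7, 7, 5, 5, 5, 5, 3, 3, 3, 1, 3, 1, 2, 1, 2]) (.leaf 164 10 [1, 3, 1, 2, 2, 1, 2, 2, 1, 2, 8, 11, 8, 10, 10, 10, 7, 4, 7, 4, 4, 3, 1, 2, 2, 1, 2, 2, 2, 1, 3])) (.node 190 (.leaf 165 10 [1, 2, 1, 2, 2, 2, 1, 3, 1, 2, 9, 11, 11, 9, 10, 4, 4, 4, 4, 4, 7, 2, 1, 2, 2, 2, 2, 1, 3, 3, 3]) (.node 191 (.leaf 166 10 [1, 2, 2, 2, 1, 2, 1, 2, 1, 2, 8, 10, 9, 11, 8, 4, 4, 4, 7, 4, 4, 2, 2, 2, 2, 2, 1, 3, 3, 1, 3]) (.leaf 167 10 [2, 2, 2, 2, 2, 1, 3, 1, 2, 2, 9, 5, 7, 5, 6, 5, 5, 2, 2, 1, 2, 1, 2, 1, 3, 3, 1])))))) (.node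 201 (.node 196 (.node 194 (.node 193 (.leaf 168 9 [2, 1, 2, 2, 2, 2, 2, 2, 2, 1, 3, 9, 11, 8, 11, 11, 7, 5, 5, 7, 5, 2, 2, 2, 2, 2, 1, 2, 1, 2]) (.leaf 169 9 [2, 1, 2, 2, 1, 3, 1, 3, 3, 1, 2, 10, 9, 11, 11, 6, 5, 6, 6, 4, 4, 4, 3, 1, 2, 2, 1, 2, 2, 2, 1])) (.node 195 (.leaf 10 3 [2, 1, 2, 2, 2, 1, 2, 2, 2, 1, 2, 2, 2, 1, 2, 2, 2, 1, 2, 2, 2, 1, 2, 2, 2, 1, 2, 2]) (.leaf 170 9 [2, 2, 2, 1, 2, 1, 3, 3, 3, 1, 3, 10, 9, 4, 6, 6, 4, 6, 4, 3, 1, 3, 3, 3, 3, 1, 2, 1]))) (.node 198 (.node 197 (.leaf 7 14 [1, 2, 1, 2, 1, 2, 1, 2, 1, 2, 1, 2, 1, 2, 1, 2, 1, 2, 1, 2, 1, 2, 1, 2, 1, 2]) (.leaf 171 9 [2, 1, 2, 2, 1, 3, 1, 3, 3, 3, 3, 10, 9, 10, 9, 4, 7, 7, 4, 6, 4, 6, 3, 3,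 1, 3, 3, 3, 1, 2, 1])) (.node 199 (.leaf 172 9 [2, 2, 1, 2, 2, 1, 3, 1, 3, 1, 3, 11, 11, 8, 5, 7, 5, 6, 2, 2, 2, 2, 2, 1, 2, 2, 2]) (.node 200 (.leaf 173 10 [2, 1, 2, 2, 1, 3, 3, 1, 2, 2, 11, 11, 9, 10, 8, 5, 5, 7, 4, 2, 2, 1, 2, 2, 2, 2, 2, 2, 1]) (.leaf 174 10 [2, 2, 2, 1, 3, 1, 3, 3, 1, 2, 9, 10, 8, 6, 4, 7, 5, 7, 5, 2, 2, 1, 2, 2, 2, 1, 3, 3, 1]))))) (.node 205 (.node 203 (.node 202 (.leaf 175 9 [2, 1, 2, 1, 3, 1, 3, 3, 3, 1, 3, 8, 10, 9, 10, 9, 10, 7, 5, 5, 5, 7, 5, 3, 3, 3, 1, 2, 2, 1, 2, 2]) (.leaf 176 10 [1, 2, 1, 3, 3, 3, 1, 3, 1, 2, 2, 9, 10, 7, 5, 5, 6, 4, 7, 2, 1, 2, 1, 3, 1, 2, 2, 1, 2])) (.node 204 (.leaf 177 10 [1, 3, 3, 1, 2, 1, 3, 1, 3, 3, 3,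 10, 10, 10, 4, 7, 4, 4, 4, 4, 6, 3, 3, 1, 3, 3, 3, 3, 1, 3, 3]) (.leaf 11 10 [3, 3, 1, 3, 3, 3, 1, 3, 3, 3, 1, 3, 3, 3, 1, 3, 3, 3, 1, 3, 3, 3, 1, 3, 3, 3, 1, 3]))) (.node 207 (.node 206 (.leaf 178 10 [2, 1, 2, 1, 3, 3, 1, 3, 3, 1, 2, 9, 10, 10, 5, 5, 7, 5, 6, 4, 2, 2, 2, 2, 1, 2, 1, 3, 1, 2]) (.leaf 179 10 [1, 3, 3, 1, 2, 1, 3, 3, 1, 2, 2, 10, 10, 9, 10, 9, 4, 7, 5, 6, 6, 5, 5, 2, 2, 2, 1, 2, 1, 3, 3, 1, 2])) (.node 208 (.leaf 7 4 [1, 2, 1, 2, 1, 2, 1, 2, 1, 2, 1, 2, 1, 2, 1, 2, 1, 2, 1, 2, 1, 2, 1, 2, 1, 2]) (.node 209 (.leaf 10 14 [2, 2, 1, 2, 2, 2, 1, 2, 2, 2, 1, 2, 2, 2, 1, 2, 2, 2, 1, 2, 2, 2, 1, 2, 2, 2, 1, 2]) (.leaf 11 27 [3, 1, 3, 3, 3, 1, 3, 3, 3, 1,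 3, 3, 3, 1, 3, 3, 3, 1, 3, 3, 3, 1, 3, 3, 3, 1, 3, 3])))))))) (.node 245 (.node 227 (.node 218 (.node 214 (.node 212 (.node 211 (.leaf 5 9 [2, 2, 2, 2, 2, 2, 2, 2, 2, 2, 2, 2, 2, 2, 2, 2, 2, 2, 2, 2, 2]) (.leaf 180 10 [2, 1, 3, 3, 3, 1, 3, 3, 3, 1, 3, 9, 11, 11, 11, 5, 5, 6, 6, 5, 6, 2, 2, 1, 2, 1, 2, 2, 2, 1, 2])) (.node 213 (.leaf 10 13 [2, 2, 2, 1, 2, 2, 2, 1, 2, 2, 2, 1, 2, 2, 2, 1, 2, 2, 2, 1, 2, 2, 2, 1, 2, 2, 2, 1]) (.leaf 181 10 [2, 2, 1, 2, 1, 2, 2, 1, 3, 3, 3, 9, 10, 10, 10, 10, 9, 6, 5, 7, 4, 6, 5, 3, 1, 3, 1, 3, 3, 1, 2, 2, 2]))) (.node 216 (.node 215 (.leaf 10 27 [2, 1, 2, 2, 2, 1, 2, 2, 2, 1, 2, 2, 2, 1, 2, 2, 2, 1, 2, 2, 2, 1, 2, 2, 2, 1, 2, 2])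 (.leaf 182 10 [1, 3, 3, 1, 3, 1, 3, 1, 3, 3, 3, 8, 11, 8, 11, 8, 4, 4, 7, 5, 3, 3, 1, 3, 3, 1, 3, 3, 1, 3])) (.node 217 (.leaf 8 5 [3, 1, 3, 1, 3, 1, 3, 1, 3, 1, 3, 1, 3, 1, 3, 1, 3, 1, 3, 1, 3, 1, 3, 1, 3, 1]) (.leaf 10 26 [2, 2, 1, 2, 2, 2, 1, 2, 2, 2, 1, 2, 2, 2, 1, 2, 2, 2, 1, 2, 2, 2, 1, 2, 2, 2, 1, 2])))) (.node 222 (.node 220 (.node 219 (.leaf 11 0 [1, 3, 3, 3, 1, 3, 3, 3, 1, 3, 3, 3, 1, 3, 3, 3, 1, 3, 3, 3, 1, 3, 3, 3, 1, 3, 3, 3]) (.leaf 183 10 [1, 2, 2, 2, 2, 1, 3, 1, 3, 3, 3, 10, 10, 10, 5, 5, 6, 5, 7, 7, 2, 2, 2, 2, 1, 3, 1, 2, 2, 2])) (.node 221 (.leaf 184 10 [2, 2, 2, 1, 3, 3, 3, 3, 3, 1, 2, 10, 10, 8, 11, 7, 5, 6, 5, 5, 5, 3, 1, 3, 1, 3, 3, 1, 2,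 1, 2]) (.leaf 185 10 [1, 3, 3, 1, 2, 2, 2, 1, 3, 1, 2, 10, 8, 6, 4, 7, 4, 6, 5, 5, 2, 2, 1, 3, 3, 1, 2, 1, 2, 2]))) (.node 224 (.node 223 (.leaf 186 10 [1, 2, 1, 3, 1, 3, 3, 1, 3, 1, 3, 11, 8, 11, 9, 4, 6, 5, 6, 4, 4, 4, 2, 1, 2, 1, 3, 1, 3, 1, 2, 2]) (.leaf 187 10 [1, 3, 1, 2, 2, 2, 2, 2, 2, 1, 2, 9, 11, 8, 11, 4, 7, 4, 4, 7, 4, 3, 1, 2, 1, 3, 3, 3, 3, 1, 3])) (.node 225 (.leaf 188 10 [1, 2, 2, 2, 1, 2, 2, 2, 1, 2, 2, 11, 11, 11, 11, 8, 5, 5, 7, 5, 6, 4, 2, 1, 2, 1, 2, 1, 3, 3, 1, 2]) (.node 226 (.leaf 189 10 [1, 3, 1, 3, 1, 3, 3, 3, 1, 2, 2, 10, 9, 11, 11, 8, 4, 7, 5, 5, 7, 5, 2, 1, 2, 2, 2, 1, 2, 1, 2, 2]) (.leaf 190 10 [1, 3, 3, 3, 1, 3, 1, 3, 3, 3, 3, 11,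 8, 10, 9, 6, 4, 7, 5, 6, 6, 4, 2, 2, 1, 2, 1, 2, 1, 2, 1, 3])))))) (.node 236 (.node 231 (.node 229 (.node 228 (.leaf 191 10 [1, 2, 1, 2, 1, 2, 2, 1, 3, 3, 3, 8, 10, 9, 11, 8, 4, 4, 6, 6, 5, 7, 4, 7, 2, 2, 2, 1, 3, 3, 1, 3, 3, 3]) (.leaf 192 10 [1, 2, 2, 2, 2, 1, 3, 1, 2, 1, 2, 9, 11, 11, 11, 4, 4, 6, 6, 5, 7, 7, 2, 2, 1, 2, 2, 1, 3, 3, 3, 3])) (.node 230 (.leaf 193 10 [1, 3, 3, 1, 3, 3, 1, 3, 1, 3, 3, 9, 10, 10, 10, 4, 6, 4, 4, 6, 6, 5, 2, 2, 1, 3, 1, 3, 3, 1, 3, 3]) (.leaf 194 10 [1, 3, 3, 1, 3, 3, 3, 1, 3, 1, 3, 11, 8, 10, 9, 11, 7, 5, 6, 5, 6, 6, 5, 3, 1, 3, 1, 2, 2, 2, 1, 3, 3]))) (.node 233 (.node 232 (.leaf 8 25 [3, 1, 3, 1, 3, 1, 3, 1, 3, 1, 3, 1, 3, 1,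 3, 1, 3, 1, 3, 1, 3, 1, 3, 1, 3, 1]) (.leaf 195 10 [1, 2, 1, 2, 2, 2, 1, 2, 1, 3, 3, 10, 10, 10, 10, 10, 6, 6, 5, 5, 7, 7, 3, 1, 3, 1, 2, 2, 2, 1, 2, 2])) (.node 234 (.leaf 196 10 [1, 3, 3, 3, 3, 3, 3, 1, 3, 3, 3, 11, 11, 11, 11, 4, 4, 6, 5, 6, 2, 2, 2, 2, 1, 3, 3, 1, 3, 3]) (.node 235 (.leaf 197 10 [1, 2, 2, 1, 2, 1, 2, 2, 2, 2, 2, 9, 11, 8, 10, 10, 8, 7, 5, 6, 4, 3, 3, 3, 1, 2, 2, 1, 2, 1, 3]) (.leaf 198 10 [1, 2, 1, 3, 1, 3, 3, 3, 1, 2, 2, 11, 11, 11, 11, 6, 6, 5, 2, 2, 2, 2, 2, 1, 2, 2, 1, 2]))))) (.node 240 (.node 238 (.node 237 (.leaf 7 11 [2, 1, 2, 1, 2, 1, 2, 1, 2, 1, 2, 1, 2, 1, 2, 1, 2, 1, 2, 1, 2, 1, 2, 1, 2, 1]) (.leaf 7 24 [1, 2, 1, 2, 1, 2, 1, 2,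 1, 2, 1, 2, 1, 2, 1, 2, 1, 2, 1, 2, 1, 2, 1, 2, 1, 2])) (.node 239 (.leaf 199 10 [2, 2, 1, 3, 1, 3, 3, 1, 3, 1, 2, 8, 11, 11, 8, 11, 4, 6, 6, 6, 4, 3, 3, 1, 2, 2, 1, 3, 1, 2, 2]) (.leaf 7 20 [1, 2, 1, 2, 1, 2, 1, 2, 1, 2, 1, 2, 1, 2, 1, 2, 1, 2, 1, 2, 1, 2, 1, 2, 1, 2]))) (.node 242 (.node 241 (.leaf 200 10 [2, 1, 3, 1, 3, 1, 3, 3, 3, 1, 3, 8, 10, 9, 10, 8, 7, 7, 4, 4, 4, 7, 3, 3, 1, 3, 3, 1, 3, 3, 1, 2]) (.leaf 201 10 [2, 1, 3, 3, 1, 2, 2, 2, 1, 2, 2, 10, 9, 4, 6, 6, 6, 4, 6, 5, 3, 1, 2, 1, 2, 2, 2, 2, 2, 1])) (.node 243 (.leaf 202 10 [2, 2, 2, 2, 1, 2, 1, 3, 3, 3, 3, 8, 11, 11, 11, 11, 8, 5, 6, 6, 6, 4, 4, 3, 1, 3, 3, 1, 3, 3, 1, 2, 2]) (.node 244 (.leaf 203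 10 [2, 2, 1, 3, 1, 3, 1, 3, 3, 3, 3, 11, 11, 8, 11, 6, 5, 6, 5, 5, 6, 5, 2, 2, 2, 2, 1, 2, 2, 2, 1, 2]) (.leaf 10 9 [2, 2, 2, 1, 2, 2, 2, 1, 2, 2, 2, 1, 2, 2, 2, 1, 2, 2, 2, 1, 2, 2, 2, 1, 2, 2, 2, 1]))))))) (.node 263 (.node 254 (.node 249 (.node 247 (.node 246 (.leaf 5 18 [2, 2, 2, 2, 2, 2, 2, 2, 2, 2, 2, 2, 2, 2, 2, 2, 2, 2, 2, 2, 2]) (.leaf 204 10 [2, 2, 2, 1, 2, 1, 3, 1, 3, 1, 3, 10, 8, 11, 9, 4, 7, 4, 6, 5, 7, 2, 1, 2, 1, 2, 1, 2, 2, 1, 2])) (.node 248 (.leaf 10 11 [2, 1, 2, 2, 2, 1, 2, 2, 2, 1, 2, 2, 2, 1, 2, 2, 2, 1, 2, 2, 2, 1, 2, 2, 2, 1, 2, 2]) (.leaf 205 10 [2, 2, 1, 3, 1, 3, 1, 3, 1, 2, 2, 11, 8, 11, 9, 4, 6, 6, 6, 5, 6, 2, 1, 2, 1, 2, 2, 2, 1, 2,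 2]))) (.node 251 (.node 250 (.leaf 206 10 [2, 2, 2, 1, 3, 3, 3, 3, 1, 2, 2, 8, 10, 10, 9, 10, 9, 7, 4, 6, 5, 7, 4, 4, 3, 1, 2, 1, 2, 1, 3, 3, 1, 2]) (.leaf 207 10 [2, 2, 2, 2, 2, 2, 2, 1, 2, 1, 3, 8, 11, 9, 10, 5, 5, 5, 5, 6, 2, 2, 1, 2, 2, 2, 2, 1, 2, 2])) (.node 252 (.leaf 208 10 [2, 1, 2, 1, 2, 2, 2, 1, 2, 1, 2, 11, 11, 8, 11, 5, 5, 7, 5, 5, 5, 7, 3, 3, 1, 2, 2, 2, 1, 2, 2, 2]) (.node 253 (.leaf 209 10 [2, 2, 1, 3, 3, 1, 3, 3, 3, 3, 3, 10, 8, 11, 9, 10, 4, 7, 5, 7, 5, 3, 1, 2, 1, 3, 3, 3, 3, 3, 1]) (.leaf 210 10 [2, 1, 2, 2, 2, 2, 2, 1, 2, 1, 2, 8, 11, 11, 9, 10, 6, 6, 6, 4, 4, 6, 2, 1, 3, 1, 3, 1, 2, 2, 2, 1]))))) (.node 258 (.node 256 (.node 255 (.leaf 211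 10 [2, 2, 2, 1, 2, 2, 2, 2, 2, 1, 2, 10, 10, 10, 4, 6, 4, 7, 5, 7, 3, 1, 2, 2, 2, 1, 3, 1, 2, 2]) (.leaf 10 12 [1, 2, 2, 2, 1, 2, 2, 2, 1, 2, 2, 2, 1, 2, 2, 2, 1, 2, 2, 2, 1, 2, 2, 2, 1, 2, 2, 2])) (.node 257 (.leaf 11 9 [3, 3, 3, 1, 3, 3, 3, 1, 3, 3, 3, 1, 3, 3, 3, 1, 3, 3, 3, 1, 3, 3, 3, 1, 3, 3, 3, 1]) (.leaf 212 10 [2, 2, 2, 1, 2, 1, 2, 2, 2, 1, 3, 9, 11, 8, 11, 11, 5, 6, 6, 5, 6, 6, 4, 2, 2, 1, 3, 3, 1, 3, 1, 2, 2]))) (.node 260 (.node 259 (.leaf 213 10 [2, 1, 2, 1, 3, 3, 1, 2, 1, 3, 3, 8, 10, 9, 10, 4, 7, 7, 4, 6, 6, 5, 2, 1, 3, 1, 2, 2, 2, 2, 1, 2]) (.leaf 214 10 [1, 3, 1, 3, 3, 1, 3, 3, 3, 1, 3, 8, 11, 9, 10, 8, 11, 4, 7, 5, 5, 7, 5, 3, 1, 3, 3, 1, 3,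 3, 3, 1, 3])) (.node 261 (.leaf 215 10 [2, 1, 2, 1, 3, 3, 3, 3, 3, 1, 2, 8, 10, 9, 11, 11, 9, 4, 4, 6, 4, 4, 6, 4, 2, 2, 2, 1, 3, 3, 1, 2, 1, 2]) (.node 262 (.leaf 5 11 [2, 2, 2, 2, 2, 2, 2, 2, 2, 2, 2, 2, 2, 2, 2, 2, 2, 2, 2, 2, 2]) (.leaf 10 17 [2, 2, 2, 1, 2, 2, 2, 1, 2, 2, 2, 1, 2, 2, 2, 1, 2, 2, 2, 1, 2, 2, 2, 1, 2, 2, 2, 1])))))) (.node 272 (.node 267 (.node 265 (.node 264 (.leaf 5 7 [2, 2, 2, 2, 2, 2, 2, 2, 2, 2, 2, 2, 2, 2, 2, 2, 2, 2, 2, 2, 2]) (.leaf 7 19 [2, 1, 2, 1, 2, 1, 2, 1, 2, 1, 2, 1, 2, 1, 2, 1, 2, 1, 2, 1, 2, 1, 2, 1, 2, 1])) (.node 266 (.leaf 216 10 [1, 3, 1, 3, 3, 3, 3, 3, 3, 1, 2, 9, 10, 9, 11, 4, 6, 4, 4, 3, 3, 1, 2, 1, 3, 3, 3, 1, 3]) (.leaf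 217 10 [2, 2, 2, 2, 1, 3, 3, 3, 1, 3, 3, 10, 9, 11, 11, 11, 5, 5, 6, 4, 4, 4, 4, 2, 1, 2, 1, 2, 1, 2, 1, 2, 2]))) (.node 269 (.node 268 (.leaf 218 10 [2, 2, 1, 2, 2, 2, 2, 2, 2, 1, 3, 9, 10, 10, 8, 11, 4, 6, 6, 2, 1, 2, 1, 2, 2, 1, 2, 1, 2]) (.leaf 219 10 [1, 2, 2, 1, 3, 1, 3, 3, 3, 1, 3, 8, 10, 9, 10, 9, 11, 6, 5, 5, 6, 5, 3, 1, 3, 1, 3, 3, 3, 3, 1, 3])) (.node 270 (.leaf 8 2 [1, 3, 1, 3, 1, 3, 1, 3, 1, 3, 1, 3, 1, 3, 1, 3, 1, 3, 1, 3, 1, 3, 1, 3, 1, 3]) (.node 271 (.leaf 220 10 [2, 1, 3, 1, 2, 2, 2, 2, 2, 1, 3, 8, 11, 8, 11, 8, 11, 4, 6, 5, 7, 7, 2, 2, 1, 2, 2, 2, 1, 2, 2, 1]) (.leaf 221 10 [2, 2, 2, 2, 1, 3, 3, 3, 3, 1, 3, 9, 4, 7, 4, 4, 7, 4, 2, 1, 3, 3, 3,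 3, 1, 3, 3, 1]))))) (.node 276 (.node 274 (.node 273 (.leaf 222 10 [2, 1, 2, 2, 2, 2, 1, 3, 1, 2, 2, 11, 11, 8, 11, 7, 2, 2, 1, 2, 2, 2, 1, 2, 2, 2]) (.leaf 6 5 [3, 3, 3, 3, 3, 3, 3, 3, 3, 3, 3, 3, 3, 3, 3, 3, 3, 3, 3, 3, 3])) (.node 275 (.leaf 6 2 [3, 3, 3, 3, 3, 3, 3, 3, 3, 3, 3, 3, 3, 3, 3, 3, 3, 3, 3, 3, 3]) (.leaf 223 10 [2, 2, 1, 3, 1, 2, 2, 2, 1, 2, 2, 11, 8, 4, 4, 4, 7, 7, 4, 4, 3, 1, 3, 1, 3, 3, 3, 3, 1, 2]))) (.node 278 (.node 277 (.leaf 10 24 [1, 2, 2, 2, 1, 2, 2, 2, 1, 2, 2, 2, 1, 2, 2, 2, 1, 2, 2, 2, 1, 2, 2, 2, 1, 2, 2, 2]) (.leaf 224 10 [2, 2, 1, 2, 1, 3, 3, 3, 3, 1, 3, 10, 10, 9, 10, 10, 4, 7, 5, 2, 2, 2, 1, 2, 1, 2, 2, 2, 2])) (.node 279 (.leaf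 5 4 [2, 2, 2, 2, 2, 2, 2, 2, 2, 2, 2, 2, 2, 2, 2, 2, 2, 2, 2, 2, 2]) (.node 280 (.leaf 10 20 [1, 2, 2, 2, 1, 2, 2, 2, 1, 2, 2, 2, 1, 2, 2, 2, 1, 2, 2, 2, 1, 2, 2, 2, 1, 2, 2, 2]) (.leaf 11 21 [3, 3, 3, 1, 3, 3, 3, 1, 3, 3, 3, 1, 3, 3, 3, 1, 3, 3, 3, 1, 3, 3, 3, 1, 3, 3, 3, 1])))))))))) (.node 422 (.node 351 (.node 316 (.node 298 (.node 289 (.node 285 (.node 283 (.node 282 (.leaf 11 4 [1, 3, 3, 3, 1, 3, 3, 3, 1, 3, 3, 3, 1, 3, 3, 3, 1, 3, 3, 3, 1, 3, 3, 3, 1, 3, 3, 3]) (.leaf 6 19 [3, 3, 3, 3, 3, 3, 3, 3, 3, 3, 3, 3, 3, 3, 3, 3, 3, 3, 3, 3, 3])) (.node 284 (.leaf 11 22 [3, 3, 1, 3, 3, 3, 1, 3, 3, 3, 1, 3, 3, 3, 1, 3, 3, 3, 1, 3, 3, 3, 1, 3, 3, 3, 1, 3]) (.leaf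 225 10 [2, 2, 2, 2, 2, 1, 3, 1, 3, 1, 2, 8, 10, 9, 10, 9, 11, 11, 5, 5, 2, 2, 1, 3, 1, 3, 3, 3, 1, 2]))) (.node 287 (.node 286 (.leaf 5 17 [2, 2, 2, 2, 2, 2, 2, 2, 2, 2, 2, 2, 2, 2, 2, 2, 2, 2, 2, 2, 2]) (.leaf 10 0 [1, 2, 2, 2, 1, 2, 2, 2, 1, 2, 2, 2, 1, 2, 2, 2, 1, 2, 2, 2, 1, 2, 2, 2, 1, 2, 2, 2])) (.node 288 (.leaf 226 10 [2, 1, 2, 2, 1, 2, 2, 1, 3, 1, 3, 10, 10, 8, 11, 9, 4, 6, 6, 4, 6, 4, 6, 2, 2, 1, 2, 2, 1, 3, 3, 3, 1]) (.leaf 7 21 [2, 1, 2, 1, 2, 1, 2, 1, 2, 1, 2, 1, 2, 1, 2, 1, 2, 1, 2, 1, 2, 1, 2, 1, 2, 1])))) (.node 293 (.node 291 (.node 290 (.leaf 227 10 [2, 2, 2, 1, 3, 3, 3, 1, 2, 1, 2, 8, 11, 11, 9, 5, 6, 5, 6, 2, 1, 2, 1, 2, 2, 2, 1, 2, 1]) (.leaf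 228 10 [1, 2, 2, 2, 2, 2, 2, 1, 2, 1, 2, 9, 11, 11, 9, 7, 7, 4, 4, 4, 7, 2, 2, 2, 1, 3, 1, 3, 3, 1, 2])) (.node 292 (.leaf 10 23 [2, 1, 2, 2, 2, 1, 2, 2, 2, 1, 2, 2, 2, 1, 2, 2, 2, 1, 2, 2, 2, 1, 2, 2, 2, 1, 2, 2]) (.leaf 11 8 [1, 3, 3, 3, 1, 3, 3, 3, 1, 3, 3, 3, 1, 3, 3, 3, 1, 3, 3, 3, 1, 3, 3, 3, 1, 3, 3, 3]))) (.node 295 (.node 294 (.leaf 229 10 [2, 1, 2, 2, 2, 1, 2, 1, 3, 1, 3, 11, 11, 9, 10, 5, 6, 6, 5, 5, 5, 3, 1, 2, 2, 1, 3, 1, 2, 2, 2]) (.leaf 230 10 [2, 2, 2, 1, 2, 2, 2, 1, 2, 1, 3, 8, 10, 8, 11, 4, 4, 6, 2, 2, 2, 2, 2, 1, 3, 1, 2, 2])) (.node 296 (.leaf 231 10 [2, 2, 1, 2, 1, 2, 2, 2, 1, 3, 3, 9, 11, 8, 11, 8, 4, 6, 5, 5, 7, 5, 6, 2, 1, 3, 3, 3, 1, 3,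 3, 1, 2]) (.node 297 (.leaf 232 10 [1, 3, 3, 3, 1, 3, 1, 3, 3, 1, 2, 9, 5, 7, 7, 5, 7, 4, 3, 1, 2, 2, 1, 2, 1, 2, 2, 2]) (.leaf 7 1 [2, 1, 2, 1, 2, 1, 2, 1, 2, 1, 2, 1, 2, 1, 2, 1, 2, 1, 2, 1, 2, 1, 2, 1, 2, 1])))))) (.node 307 (.node 302 (.node 300 (.node 299 (.leaf 10 7 [2, 1, 2, 2, 2, 1, 2, 2, 2, 1, 2, 2, 2, 1, 2, 2, 2, 1, 2, 2, 2, 1, 2, 2, 2, 1, 2, 2]) (.leaf 25 1 [1, 2, 1, 2, 1, 2, 1, 2, 2, 2, 2, 2, 2, 2, 5, 5, 7, 7, 5, 7, 4, 3])) (.node 301 (.leaf 233 10 [2, 1, 3, 1, 3, 1, 2, 2, 2, 1, 3, 8, 10, 10, 8, 6, 4, 4, 4, 6, 6, 2, 1, 2, 1, 2, 2, 2, 2, 2, 2]) (.leaf 5 2 [2, 2, 2, 2, 2, 2, 2, 2, 2, 2, 2, 2, 2, 2, 2, 2, 2, 2, 2, 2, 2]))) (.node 304 (.node 303 (.leaf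 8 24 [1, 3, 1, 3, 1, 3, 1, 3, 1, 3, 1, 3, 1, 3, 1, 3, 1, 3, 1, 3, 1, 3, 1, 3, 1, 3]) (.leaf 10 1 [2, 2, 2, 1, 2, 2, 2, 1, 2, 2, 2, 1, 2, 2, 2, 1, 2, 2, 2, 1, 2, 2, 2, 1, 2, 2, 2, 1])) (.node 305 (.leaf 10 4 [1, 2, 2, 2, 1, 2, 2, 2, 1, 2, 2, 2, 1, 2, 2, 2, 1, 2, 2, 2, 1, 2, 2, 2, 1, 2, 2, 2]) (.node 306 (.leaf 8 3 [3, 1, 3, 1, 3, 1, 3, 1, 3, 1, 3, 1, 3, 1, 3, 1, 3, 1, 3, 1, 3, 1, 3, 1, 3, 1]) (.leaf 25 18 [7, 5, 7, 4, 3, 1, 2, 1, 2, 1, 2, 1, 2, 2, 2, 2, 2, 2, 2, 5, 5, 7]))))) (.node 311 (.node 309 (.node 308 (.leaf 2 8 [3, 1, 2, 2, 2, 2, 7, 2, 1, 2, 2, 1, 3, 1, 3]) (.leaf 6 1 [3, 3, 3, 3, 3, 3, 3, 3, 3, 3, 3, 3, 3, 3, 3, 3, 3, 3, 3, 3, 3])) (.node 310 (.leaf 11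 7 [3, 1, 3, 3, 3, 1, 3, 3, 3, 1, 3, 3, 3, 1, 3, 3, 3, 1, 3, 3, 3, 1, 3, 3, 3, 1, 3, 3]) (.leaf 25 17 [7, 7, 5, 7, 4, 3, 1, 2, 1, 2, 1, 2, 1, 2, 2, 2, 2, 2, 2, 2, 5, 5]))) (.node 313 (.node 312 (.leaf 6 12 [3, 3, 3, 3, 3, 3, 3, 3, 3, 3, 3, 3, 3, 3, 3, 3, 3, 3, 3, 3, 3]) (.leaf 167 24 [6, 5, 5, 2, 2, 1, 2, 1, 2, 1, 3, 3, 1, 2, 2, 2, 2, 2, 1, 3, 1, 2, 2, 9, 5, 7, 5])) (.node 314 (.leaf 221 27 [4, 2, 1, 3, 3, 3, 3, 1, 3, 3, 1, 2, 2, 2, 2, 1, 3, 3, 3, 3, 1, 3, 9, 4, 7, 4, 4, 7]) (.node 315 (.leaf 25 15 [5, 5, 7, 7, 5, 7, 4, 3, 1, 2, 1, 2, 1, 2, 1, 2, 2, 2, 2, 2, 2, 2]) (.leaf 170 20 [10, 9, 4, 6, 6, 4, 6, 4, 3, 1, 3, 3, 3, 3, 1, 2, 1, 2, 2, 2, 1, 2, 1, 3, 3, 3, 1,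 3]))))))) (.node 333 (.node 324 (.node 320 (.node 318 (.node 317 (.leaf 1 10 [3, 3, 3, 5, 3, 1, 2, 2, 2, 1, 2, 2, 2, 1]) (.leaf 25 20 [7, 4, 3, 1, 2, 1, 2, 1, 2, 1, 2, 2, 2, 2, 2, 2, 2, 5, 5, 7, 7, 5])) (.node 319 (.leaf 115 19 [9, 5, 7, 7, 5, 7, 4, 2, 1, 2, 1, 2, 1, 2, 2, 2, 1, 3, 3, 3, 1, 3, 1, 3, 1, 3]) (.leaf 167 20 [9, 5, 7, 5, 6, 5, 5, 2, 2, 1, 2, 1, 2, 1, 3, 3, 1, 2, 2, 2, 2, 2, 1, 3, 1, 2, 2]))) (.node 322 (.node 321 (.leaf 34 18 [9, 10, 4, 6, 5, 5, 7, 7, 2, 1, 2, 2, 1, 3, 1, 2, 2, 1, 3, 3, 1, 3, 1, 2, 8, 11]) (.leaf 13 14 [5, 5, 3, 3, 1, 3, 1, 2, 1, 2, 2, 8, 10, 9, 6, 6])) (.node 323 (.leaf 105 26 [7, 4, 2, 1, 2, 1, 3, 3, 1, 3, 1, 2, 1, 3, 3, 3, 3, 3,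 3, 3, 3, 8, 10, 8, 6, 6, 6, 4]) (.leaf 119 20 [11, 9, 6, 4, 7, 7, 2, 2, 2, 1, 2, 1, 3, 3, 1, 2, 2, 1, 3, 3, 3, 3, 1, 3, 1, 2])))) (.node 328 (.node 326 (.node 325 (.leaf 185 27 [6, 5, 5, 2, 2, 1, 3, 3, 1, 2, 1, 2, 2, 1, 3, 3, 1, 2, 2, 2, 1, 3, 1, 2, 10, 8, 6, 4, 7, 4]) (.leaf 20 23 [7, 3, 1, 2, 1, 2, 1, 2, 2, 2, 1, 2, 2, 2, 2, 11, 8, 10, 9, 11, 4, 4, 4, 4])) (.node 327 (.leaf 31 20 [5, 6, 6, 4, 6, 4, 2, 1, 2, 2, 1, 2, 1, 2, 2, 1, 2, 1, 2, 1, 3, 3, 9, 10, 9, 11]) (.leaf 42 4 [3, 1, 2, 1, 2, 1, 2, 1, 3, 3, 3, 1, 2, 9, 10, 9, 4, 7, 4, 6, 4, 3, 1, 3, 1]))) (.node 330 (.node 329 (.leaf 65 10 [2, 2, 2, 2, 2, 2, 2, 2, 10, 9, 11, 8, 10, 4, 6, 5, 6, 4, 7, 3, 3, 1, 2, 2,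 1, 2, 2, 1, 2]) (.leaf 92 13 [1, 2, 1, 3, 3, 3, 8, 10, 9, 11, 8, 4, 4, 6, 4, 4, 6, 2, 2, 1, 2, 1, 2, 1, 2, 2, 2, 2, 1, 2])) (.node 331 (.leaf 96 19 [8, 11, 9, 6, 6, 6, 4, 6, 2, 1, 2, 2, 2, 1, 2, 2, 2, 2, 2, 2, 2, 1, 3, 3, 3, 1, 3]) (.node 332 (.leaf 201 28 [6, 5, 3, 1, 2, 1, 2, 2, 2, 2, 2, 1, 2, 1, 3, 3, 1, 2, 2, 2, 1, 2, 2, 10, 9, 4, 6, 6, 6, 4]) (.leaf 207 26 [5, 5, 5, 6, 2, 2, 1, 2, 2, 2, 2, 1, 2, 2, 2, 2, 2, 2, 2, 2, 2, 1, 2, 1, 3, 8, 11, 9, 10, 5])))))) (.node 342 (.node 337 (.node 335 (.node 334 (.leaf 216 24 [11, 4, 6, 4, 4, 3, 3, 1, 2, 1, 3, 3, 3, 1, 3, 1, 3, 1, 3, 3, 3, 3, 3, 3, 1, 2, 9, 10, 9]) (.leaf 219 30 [6, 5, 3, 1, 3, 1, 3, 3, 3, 3, 1, 3, 1, 2,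 2, 1, 3, 1, 3, 3, 3, 1, 3, 8, 10, 9, 10, 9, 11, 6, 5, 5])) (.node 336 (.leaf 226 21 [10, 10, 8, 11, 9, 4, 6, 6, 4, 6, 4, 6, 2, 2, 1, 2, 2, 1, 3, 3, 3, 1, 2, 1, 2, 2, 1, 2, 2, 1, 3, 1, 3]) (.leaf 21 14 [11, 11, 8, 11, 4, 7, 4, 4, 4, 4, 6, 2, 1, 3, 3, 3, 3, 1, 2, 2, 2, 2, 1, 3, 3]))) (.node 339 (.node 338 (.leaf 29 16 [11, 11, 11, 8, 6, 6, 6, 5, 5, 7, 2, 2, 2, 1, 3, 3, 1, 2, 2, 1, 3, 3, 3, 1, 2, 2]) (.leaf 30 22 [7, 4, 4, 4, 6, 3, 1, 3, 3, 1, 2, 1, 2, 1, 2, 2, 1, 3, 3, 1, 3, 11, 8, 10, 10, 4, 4])) (.node 340 (.leaf 91 19 [11, 8, 11, 8, 11, 4, 4, 4, 6, 5, 6, 4, 2, 1, 3, 1, 2, 2, 2, 1, 2, 2, 1, 3, 3, 3, 3, 3, 3, 1, 2]) (.node 341 (.leaf 93 24 [8, 4, 7, 4, 7, 4, 6,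 4, 2, 1, 2, 1, 3, 1, 2, 2, 2, 2, 2, 2, 1, 2, 1, 3, 3, 1, 2, 8, 11, 8, 10, 10]) (.leaf 96 23 [6, 6, 4, 6, 2, 1, 2, 2, 2, 1, 2, 2, 2, 2, 2, 2, 2, 1, 3, 3, 3, 1, 3, 8, 11, 9, 6]))))) (.node 346 (.node 344 (.node 343 (.leaf 99 1 [1, 2, 1, 3, 1, 3, 3, 1, 2, 2, 2, 1, 2, 1, 3, 1, 3, 3, 11, 8, 10, 10, 10, 5, 7, 5, 6, 2]) (.leaf 110 19 [8, 11, 8, 11, 8, 7, 4, 4, 6, 6, 5, 3, 1, 3, 1, 2, 1, 2, 2, 2, 1, 2, 1, 2, 2, 2, 2, 2, 1, 2])) (.node 345 (.leaf 135 31 [6, 2, 2, 1, 2, 1, 2, 2, 2, 2, 2, 2, 1, 3, 3, 1, 2, 2, 2, 2, 2, 8, 10, 9, 10, 9, 4, 6, 4, 4, 4, 4]) (.leaf 139 3 [2, 2, 1, 3, 3, 3, 1, 3, 1, 2, 1, 2, 1, 3, 3, 1, 2, 11, 11, 9, 10, 8, 5, 6, 4, 4, 4, 3, 3, 1]))) (.node 348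 (.node 347 (.leaf 146 2 [1, 3, 1, 3, 1, 2, 1, 2, 2, 2, 2, 2, 2, 2, 1, 3, 1, 2, 11, 8, 11, 8, 10, 5, 7, 5, 6, 5, 2, 2]) (.leaf 154 15 [2, 1, 2, 1, 2, 8, 11, 8, 11, 8, 10, 7, 7, 5, 5, 3, 1, 2, 1, 3, 3, 3, 1, 2, 2, 2, 2, 1, 2, 2])) (.node 349 (.leaf 166 24 [8, 4, 4, 4, 7, 4, 4, 2, 2, 2, 2, 2, 1, 3, 3, 1, 3, 1, 2, 2, 2, 1, 2, 1, 2, 1, 2, 8, 10, 9, 11]) (.node 350 (.leaf 173 5 [2, 2, 2, 2, 1, 2, 1, 2, 2, 1, 3, 3, 1, 2, 2, 11, 11, 9, 10, 8, 5, 5, 7, 4, 2, 2, 1, 2, 2]) (.leaf 190 13 [3, 1, 3, 1, 3, 3, 3, 3, 11, 8, 10, 9, 6, 4, 7, 5, 6, 6, 4, 2, 2, 1, 2, 1, 2, 1, 2, 1, 3, 1, 3, 3])))))))) (.node 386 (.node 368 (.node 359 (.node 355 (.node 353 (.node 352 (.leaf 191 17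 [1, 3, 3, 3, 8, 10, 9, 11, 8, 4, 4, 6, 6, 5, 7, 4, 7, 2, 2, 2, 1, 3, 3, 1, 3, 3, 3, 1, 2, 1, 2, 1, 2, 2]) (.leaf 194 12 [3, 1, 3, 3, 3, 1, 3, 1, 3, 11, 8, 10, 9, 11, 7, 5, 6, 5, 6, 6, 5, 3, 1, 3, 1, 2, 2, 2, 1, 3, 3, 1, 3])) (.node 354 (.leaf 199 21 [8, 11, 11, 8, 11, 4, 6, 6, 6, 4, 3, 3, 1, 2, 2, 1, 3, 1, 2, 2, 2, 2, 1, 3, 1, 3, 3, 1, 3, 1, 2]) (.leaf 214 6 [3, 3, 1, 3, 1, 3, 1, 3, 3, 1, 3, 3, 3, 1, 3, 8, 11, 9, 10, 8, 11, 4, 7, 5, 5, 7, 5, 3, 1, 3, 3, 1, 3]))) (.node 357 (.node 356 (.leaf 215 26 [9, 4, 4, 6, 4, 4, 6, 4, 2, 2, 2, 1, 3, 3, 1, 2, 1, 2, 2, 1, 2, 1, 3, 3, 3, 3, 3, 1, 2, 8, 10, 9, 11, 11]) (.leaf 230 8 [2, 2, 2, 2, 2, 1, 2, 2, 2, 1, 2, 1, 3, 8, 10,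 8, 11, 4, 4, 6, 2, 2, 2, 2, 2, 1, 3, 1])) (.node 358 (.leaf 231 7 [3, 1, 2, 2, 2, 1, 2, 1, 2, 2, 2, 1, 3, 3, 9, 11, 8, 11, 8, 4, 6, 5, 5, 7, 5, 6, 2, 1, 3, 3, 3, 1, 3]) (.leaf 233 15 [1, 2, 2, 2, 1, 3, 8, 10, 10, 8, 6, 4, 4, 4, 6, 6, 2, 1, 2, 1, 2, 2, 2, 2, 2, 2, 2, 1, 3, 1, 3])))) (.node 363 (.node 361 (.node 360 (.leaf 1 8 [2, 1, 3, 3, 3, 5, 3, 1, 2, 2, 2, 1, 2, 2]) (.leaf 78 19 [10, 5, 5, 5, 7, 7, 5, 3, 3, 1, 3, 3, 1, 3, 3, 3, 1, 3, 3, 1, 3, 3, 3, 1, 2, 2])) (.node 362 (.leaf 85 20 [8, 11, 5, 5, 6, 5, 7, 3, 1, 3, 1, 3, 1, 2, 2, 1, 2, 2, 1, 3, 3, 3, 1, 2, 2, 2, 11]) (.leaf 114 20 [11, 11, 5, 6, 4, 6, 5, 5, 2, 2, 1, 3, 1, 2, 2, 1, 2, 1, 2, 1, 2, 1, 3, 1, 3, 1,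 3, 8]))) (.node 365 (.node 364 (.leaf 117 19 [9, 11, 8, 11, 5, 5, 6, 5, 6, 6, 4, 3, 3, 3, 3, 3, 3, 1, 2, 1, 2, 2, 1, 2, 2, 1, 2, 2, 1, 2]) (.leaf 147 6 [2, 1, 2, 2, 2, 1, 2, 2, 1, 3, 1, 3, 1, 2, 9, 10, 10, 9, 5, 6, 4, 6, 5, 5, 3, 3, 1, 2, 2, 2])) (.node 366 (.leaf 157 11 [2, 1, 3, 3, 1, 3, 3, 3, 3, 11, 8, 11, 8, 5, 7, 4, 6, 2, 2, 1, 3, 1, 2, 2, 1, 3, 1, 2]) (.node 367 (.leaf 167 4 [1, 2, 1, 3, 3, 1, 2, 2, 2, 2, 2, 1, 3, 1, 2, 2, 9, 5, 7, 5, 6, 5, 5, 2, 2, 1, 2]) (.leaf 168 25 [7, 5, 5, 7, 5, 2, 2, 2, 2, 2, 1, 2, 1, 2, 2, 1, 2, 2, 2, 2, 2, 2, 2, 1, 3, 9, 11, 8, 11, 11])))))) (.node 377 (.node 372 (.node 370 (.node 369 (.leaf 173 20 [11, 11, 9, 10, 8, 5, 5, 7, 4,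 2, 2, 1, 2, 2, 2, 2, 2, 2, 1, 2, 1, 2, 2, 1, 3, 3, 1, 2, 2]) (.leaf 178 22 [10, 10, 5, 5, 7, 5, 6, 4, 2, 2, 2, 2, 1, 2, 1, 3, 1, 2, 2, 1, 2, 1, 3, 3, 1, 3, 3, 1, 2, 9])) (.node 371 (.leaf 179 24 [10, 9, 4, 7, 5, 6, 6, 5, 5, 2, 2, 2, 1, 2, 1, 3, 3, 1, 2, 1, 3, 3, 1, 2, 1, 3, 3, 1, 2, 2, 10, 10, 9]) (.leaf 183 15 [1, 3, 1, 3, 3, 3, 10, 10, 10, 5, 5, 6, 5, 7, 7, 2, 2, 2, 2, 1, 3, 1, 2, 2, 2, 1, 2, 2, 2, 2]))) (.node 374 (.node 373 (.leaf 184 11 [2, 2, 1, 3, 3, 3, 3, 3, 1, 2, 10, 10, 8, 11, 7, 5, 6, 5, 5, 5, 3, 1, 3, 1, 3, 3, 1, 2, 1, 2, 2]) (.leaf 202 14 [1, 2, 1, 3, 3, 3, 3, 8, 11, 11, 11, 11, 8, 5, 6, 6, 6, 4, 4, 3, 1, 3, 3, 1, 3, 3, 1, 2, 2, 2, 2, 2, 2])) (.node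 375 (.leaf 208 13 [1, 2, 2, 2, 1, 2, 1, 2, 11, 11, 8, 11, 5, 5, 7, 5, 5, 5, 7, 3, 3, 1, 2, 2, 2, 1, 2, 2, 2, 2, 1, 2]) (.node 376 (.leaf 217 20 [3, 10, 9, 11, 11, 11, 5, 5, 6, 4, 4, 4, 4, 2, 1, 2, 1, 2, 1, 2, 1, 2, 2, 2, 2, 2, 2, 1, 3, 3, 3, 1, 3]) (.leaf 18 14 [11, 11, 7, 7, 4, 4, 4, 7, 7, 3, 1, 2, 1, 3, 3, 1, 2, 2, 2, 1, 2, 2, 2]))))) (.node 381 (.node 379 (.node 378 (.leaf 18 9 [2, 1, 2, 2, 2, 11, 11, 7, 7, 4, 4, 4, 7, 7, 3, 1, 2, 1, 3, 3, 1, 2, 2]) (.leaf 20 11 [2, 2, 2, 11, 8, 10, 9, 11, 4, 4, 4, 4, 7, 3, 1, 2, 1, 2, 1, 2, 2, 2, 1, 2])) (.node 380 (.leaf 20 15 [8, 10, 9, 11, 4, 4, 4, 4, 7, 3, 1, 2, 1, 2, 1, 2, 2, 2, 1, 2, 2, 2, 2, 11]) (.leaf 21 17 [11, 4,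 7, 4, 4, 4, 4, 6, 2, 1, 3, 3, 3, 3, 1, 2, 2, 2, 2, 1, 3, 3, 11, 11, 8]))) (.node 383 (.node 382 (.leaf 21 15 [11, 8, 11, 4, 7, 4, 4, 4, 4, 6, 2, 1, 3, 3, 3, 3, 1, 2, 2, 2, 2, 1, 3, 3, 11]) (.leaf 25 10 [2, 2, 2, 2, 2, 5, 5, 7, 7, 5, 7, 4, 3, 1, 2, 1, 2, 1, 2, 1, 2, 2])) (.node 384 (.leaf 31 16 [9, 10, 9, 11, 5, 6, 6, 4, 6, 4, 2, 1, 2, 2, 1, 2, 1, 2, 2, 1, 2, 1, 2, 1, 3, 3]) (.node 385 (.leaf 36 16 [9, 10, 9, 11, 11, 11, 4, 4, 4, 4, 7, 2, 2, 2, 2, 2, 2, 2, 2, 2, 1, 3, 1, 2, 2, 2, 2]) (.leaf 42 12 [3, 3, 3, 1, 2, 9, 10, 9, 4, 7, 4, 6, 4, 3, 1, 3, 1, 3, 1, 2, 1, 2, 1, 2, 1]))))))) (.node 404 (.node 395 (.node 390 (.node 388 (.node 387 (.leaf 44 4 [2, 2, 1, 2, 1,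 2, 1, 2, 2, 2, 1, 2, 1, 3, 10, 9, 10, 9, 10, 9, 4, 6, 5, 7, 4, 4, 2, 2, 2, 1]) (.leaf 55 6 [2, 1, 2, 2, 1, 3, 3, 1, 3, 1, 2, 2, 10, 9, 10, 10, 8, 4, 4, 4, 4, 7, 5, 7, 2, 1, 3, 3, 3, 1])) (.node 389 (.leaf 56 10 [3, 1, 2, 1, 2, 2, 1, 2, 8, 11, 11, 8, 4, 4, 4, 6, 5, 6, 6, 2, 2, 1, 2, 2, 2, 2, 1, 3, 1]) (.leaf 83 3 [1, 3, 1, 2, 2, 2, 2, 1, 3, 3, 3, 3, 1, 2, 1, 2, 11, 5, 7, 7, 4, 4, 4, 2, 1, 3]))) (.node 392 (.node 391 (.leaf 94 8 [3, 1, 3, 1, 2, 2, 2, 2, 1, 2, 2, 8, 11, 8, 10, 10, 8, 4, 4, 4, 6, 4, 7, 2, 2, 2, 1, 3, 1, 3, 3]) (.leaf 98 6 [2, 2, 2, 1, 2, 1, 2, 2, 1, 2, 2, 1, 2, 10, 10, 8, 11, 4, 6, 6, 4, 7, 4, 2, 2, 1, 2, 1, 2])) (.node 393 (.leaf 103 7 [1, 2, 1,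 3, 1, 3, 3, 3, 1, 3, 3, 3, 8, 10, 10, 9, 5, 6, 4, 6, 4, 4, 7, 2, 1, 2, 2, 1, 2, 2]) (.node 394 (.leaf 104 8 [2, 2, 2, 1, 2, 1, 3, 1, 3, 3, 3, 9, 10, 10, 9, 5, 6, 4, 6, 4, 4, 3, 3, 3, 3, 3, 1, 2, 1]) (.leaf 111 4 [1, 2, 1, 2, 2, 1, 3, 1, 2, 2, 1, 3, 3, 3, 3, 8, 11, 8, 11, 8, 4, 7, 4, 4, 4, 6, 6, 3, 1, 2, 2]))))) (.node 399 (.node 397 (.node 396 (.leaf 133 14 [1, 2, 2, 1, 2, 2, 8, 10, 10, 10, 10, 9, 5, 7, 7, 4, 4, 3, 1, 2, 2, 1, 3, 1, 3, 1, 3, 1, 3, 1, 2]) (.leaf 158 11 [1, 3, 1, 3, 3, 1, 3, 1, 3, 11, 8, 10, 10, 10, 5, 6, 4, 6, 4, 4, 7, 3, 3, 3, 1, 2, 2, 1, 2, 1, 2, 2])) (.node 398 (.leaf 164 4 [1, 2, 2, 2, 1, 3, 1, 3, 1, 2, 2, 1, 2, 2, 1, 2, 8, 11, 8, 10, 10, 10,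 7, 4, 7, 4, 4, 3, 1, 2, 2]) (.leaf 165 11 [2, 1, 2, 2, 2, 1, 3, 1, 2, 9, 11, 11, 9, 10, 4, 4, 4, 4, 4, 7, 2, 1, 2, 2, 2, 2, 1, 3, 3, 3, 1]))) (.node 401 (.node 400 (.leaf 165 3 [2, 2, 2, 1, 3, 3, 3, 1, 2, 1, 2, 2, 2, 1, 3, 1, 2, 9, 11, 11, 9, 10, 4, 4, 4, 4, 4, 7, 2, 1, 2]) (.leaf 169 13 [1, 3, 1, 3, 3, 1, 2, 10, 9, 11, 11, 6, 5, 6, 6, 4, 4, 4, 3, 1, 2, 2, 1, 2, 2, 2, 1, 2, 1, 2, 2])) (.node 402 (.leaf 192 16 [3, 1, 2, 1, 2, 9, 11, 11, 11, 4, 4, 6, 6, 5, 7, 7, 2, 2, 1, 2, 2, 1, 3, 3, 3, 3, 1, 2, 2, 2, 2, 1]) (.node 403 (.leaf 193 8 [3, 3, 1, 3, 3, 1, 3, 3, 1, 3, 1, 3, 3, 9, 10, 10, 10, 4, 6, 4, 4, 6, 6, 5, 2, 2, 1, 3, 1, 3, 3, 1]) (.leaf 196 8 [3, 3, 1, 3, 3,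 3, 3, 3, 3, 1, 3, 3, 3, 11, 11, 11, 11, 4, 4, 6, 5, 6, 2, 2, 2, 2, 1, 3, 3, 1])))))) (.node 413 (.node 408 (.node 406 (.node 405 (.leaf 223 12 [1, 3, 1, 2, 2, 2, 1, 2, 2, 11, 8, 4, 4, 4, 7, 7, 4, 4, 3, 1, 3, 1, 3, 3, 3, 3, 1, 2, 2, 2]) (.leaf 17 7 [2, 2, 1, 3, 3, 1, 3, 8, 10, 9, 10, 7, 7, 4, 7, 3, 1, 3, 3, 1, 2, 2])) (.node 407 (.leaf 27 9 [3, 3, 3, 3, 3, 1, 3, 10, 9, 10, 10, 8, 7, 5, 6, 5, 7, 7, 5, 2, 2, 1, 3, 1, 2, 2, 2, 1]) (.leaf 33 11 [3, 1, 2, 1, 2, 11, 9, 10, 8, 11, 4, 4, 7, 5, 7, 4, 3, 3, 3, 3, 1, 2, 1, 2, 1, 3, 1]))) (.node 410 (.node 409 (.leaf 37 7 [2, 1, 2, 2, 1, 3, 3, 3, 1, 2, 8, 10, 9, 10, 9, 11, 6, 5, 5, 6, 6, 6, 4, 2, 1, 3, 1, 3, 1, 2]) (.leaf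 44 6 [1, 2, 1, 2, 1, 2, 2, 2, 1, 2, 1, 3, 10, 9, 10, 9, 10, 9, 4, 6, 5, 7, 4, 4, 2, 2, 2, 1, 2, 2])) (.node 411 (.leaf 77 16 [1, 2, 2, 11, 8, 10, 6, 6, 5, 6, 4, 7, 3, 1, 3, 3, 3, 3, 1, 2, 2, 2, 2, 2, 2, 1, 3, 3]) (.node 412 (.leaf 103 13 [3, 3, 1, 3, 3, 3, 8, 10, 10, 9, 5, 6, 4, 6, 4, 4, 7, 2, 1, 2, 2, 1, 2, 2, 1, 2, 1, 3, 1, 3]) (.leaf 137 13 [3, 3, 3, 3, 1, 2, 2, 8, 11, 8, 10, 10, 9, 5, 6, 6, 5, 6, 5, 7, 2, 2, 2, 1, 2, 1, 3, 1, 2, 2, 2, 1, 3]))))) (.node 417 (.node 415 (.node 414 (.leaf 143 13 [2, 1, 3, 1, 3, 1, 3, 10, 10, 10, 10, 9, 5, 5, 6, 6, 4, 2, 2, 1, 3, 3, 1, 2, 1, 2, 1, 2, 1, 2]) (.leaf 154 8 [2, 2, 2, 2, 1, 2, 2, 2, 1, 2, 1, 2, 8, 11, 8, 11, 8, 10,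 7, 7, 5, 5, 3, 1, 2, 1, 3, 3, 3, 1])) (.node 416 (.leaf 175 2 [3, 1, 2, 2, 1, 2, 2, 2, 1, 2, 1, 3, 1, 3, 3, 3, 1, 3, 8, 10, 9, 10, 9, 10, 7, 5, 5, 5, 7, 5, 3, 3]) (.leaf 195 12 [1, 2, 2, 2, 1, 2, 1, 3, 3, 10, 10, 10, 10, 10, 6, 6, 5, 5, 7, 7, 3, 1, 3, 1, 2, 2, 2, 1, 2, 2, 1, 2]))) (.node 419 (.node 418 (.leaf 225 9 [2, 2, 2, 2, 2, 2, 1, 3, 1, 3, 1, 2, 8, 10, 9, 10, 9, 11, 11, 5, 5, 2, 2, 1, 3, 1, 3, 3, 3, 1]) (.leaf 19 6 [1, 2, 2, 1, 3, 1, 3, 3, 8, 11, 8, 6, 6, 6, 4, 2, 1, 2, 1, 3, 3])) (.node 420 (.leaf 26 4 [2, 2, 2, 1, 3, 3, 3, 1, 3, 1, 2, 11, 8, 5, 5, 7, 4, 7, 4, 3, 1, 2, 1]) (.node 421 (.leaf 38 13 [3, 3, 3, 3, 8, 11, 4, 6, 5, 5, 7, 7, 5, 2, 2, 2, 1, 2, 1,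 2, 2, 1, 2, 2, 2, 1]) (.leaf 59 14 [3, 1, 3, 3, 8, 11, 11, 11, 8, 5, 7, 4, 7, 2, 2, 2, 1, 3, 1, 3, 1, 2, 2, 2, 1, 3, 1]))))))))) (.node 492 (.node 457 (.node 439 (.node 430 (.node 426 (.node 424 (.node 423 (.leaf 66 8 [3, 1, 3, 3, 1, 2, 1, 2, 2, 2, 11, 11, 11, 11, 11, 6, 4, 7, 5, 7, 2, 1, 3, 1, 3, 3, 3, 3]) (.leaf 75 4 [1, 3, 1, 2, 2, 2, 2, 2, 1, 3, 1, 3, 3, 3, 3, 8, 11, 11, 11, 11, 5, 5, 7, 5, 5, 5, 2, 2, 1, 3])) (.node 425 (.leaf 76 10 [2, 1, 2, 2, 1, 2, 1, 3, 3, 8, 11, 11, 11, 6, 5, 5, 6, 4, 7, 7, 2, 2, 1, 3, 3, 1, 2, 2, 2, 1]) (.leaf 110 7 [2, 2, 1, 2, 1, 2, 2, 2, 2, 2, 1, 2, 8, 11, 8, 11, 8, 7, 4, 4, 6, 6, 5, 3, 1, 3, 1, 2, 1, 2]))) (.node 428 (.node 427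 (.leaf 111 12 [2, 2, 1, 3, 3, 3, 3, 8, 11, 8, 11, 8, 4, 7, 4, 4, 4, 6, 6, 3, 1, 2, 2, 1, 2, 1, 2, 2, 1, 3, 1]) (.leaf 114 5 [2, 2, 1, 2, 1, 2, 1, 2, 1, 3, 1, 3, 1, 3, 8, 11, 11, 5, 6, 4, 6, 5, 5, 2, 2, 1, 3, 1])) (.node 429 (.leaf 136 11 [2, 1, 3, 1, 2, 2, 2, 2, 2, 11, 11, 11, 8, 11, 6, 4, 6, 6, 6, 2, 2, 2, 1, 3, 1, 2, 2, 1, 2, 2]) (.leaf 159 13 [2, 2, 2, 1, 3, 1, 3, 11, 11, 11, 11, 6, 4, 4, 4, 6, 6, 4, 3, 1, 2, 2, 1, 3, 1, 2, 2, 1, 3, 1, 2])))) (.node 434 (.node 432 (.node 431 (.leaf 182 11 [3, 3, 1, 3, 1, 3, 1, 3, 3, 3, 8, 11, 8, 11, 8, 4, 4, 7, 5, 3, 3, 1, 3, 3, 1, 3, 3, 1, 3, 1]) (.leaf 210 13 [2, 2, 2, 2, 1, 2, 1, 2, 8, 11, 11, 9, 10, 6, 6, 6, 4, 4, 6, 2,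 1, 3, 1, 3, 1, 2, 2, 2, 1, 2, 1, 2])) (.node 433 (.leaf 222 12 [2, 2, 2, 2, 1, 3, 1, 2, 2, 11, 11, 8, 11, 7, 2, 2, 1, 2, 2, 2, 1, 2, 2, 2, 2, 1]) (.leaf 223 17 [2, 1, 2, 2, 11, 8, 4, 4, 4, 7, 7, 4, 4, 3, 1, 3, 1, 3, 3, 3, 3, 1, 2, 2, 2, 1, 3, 1, 2, 2]))) (.node 436 (.node 435 (.leaf 227 3 [1, 2, 2, 2, 1, 2, 1, 2, 2, 2, 1, 3, 3, 3, 1, 2, 1, 2, 8, 11, 11, 9, 5, 6, 5, 6, 2, 1, 2]) (.leaf 135 6 [2, 2, 2, 2, 2, 1, 3, 3, 1, 2, 2, 2, 2, 2, 8, 10, 9, 10, 9, 4, 6, 4, 4, 4, 4, 6, 2, 2, 1, 2, 1, 2])) (.node 437 (.leaf 168 16 [2, 2, 1, 3, 9, 11, 8, 11, 11, 7, 5, 5, 7, 5, 2, 2, 2, 2, 2, 1, 2, 1, 2, 2, 1, 2, 2, 2, 2, 2]) (.node 438 (.leaf 2 9 [1, 2, 2, 2, 2, 7, 2, 1, 2, 2,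 1, 3, 1, 3, 3]) (.leaf 18 11 [2, 2, 2, 11, 11, 7, 7, 4, 4, 4, 7, 7, 3, 1, 2, 1, 3, 3, 1, 2, 2, 2, 1])))))) (.node 448 (.node 443 (.node 441 (.node 440 (.leaf 29 2 [2, 1, 3, 3, 1, 2, 2, 1, 3, 3, 3, 1, 2, 2, 11, 11, 11, 8, 6, 6, 6, 5, 5, 7, 2, 2]) (.leaf 45 1 [1, 3, 1, 3, 3, 3, 1, 2, 1, 2, 1, 2, 1, 3, 3, 3, 3, 10, 9, 11, 11, 11, 4, 6, 4, 4, 4, 6, 4, 2])) (.node 442 (.leaf 53 14 [2, 2, 2, 2, 9, 11, 8, 11, 8, 11, 4, 4, 6, 6, 6, 4, 3, 3, 1, 2, 2, 1, 2, 2, 2, 1, 2, 2, 2, 2]) (.leaf 58 2 [3, 1, 3, 1, 3, 1, 2, 2, 2, 2, 1, 2, 2, 2, 2, 2, 8, 11, 11, 8, 11, 6, 4, 6, 6, 4, 2, 1]))) (.node 445 (.node 444 (.leaf 61 10 [2, 1, 2, 2, 1, 2, 1, 3, 10, 9, 11, 11, 11, 11, 4, 7, 4,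 6, 5, 7, 7, 3, 1, 2, 1, 2, 2, 1, 2, 2, 1]) (.leaf 64 11 [2, 2, 2, 1, 3, 1, 3, 10, 9, 11, 11, 11, 7, 2, 2, 2, 2, 1, 2, 2, 1, 2, 2, 2])) (.node 446 (.leaf 71 10 [2, 2, 1, 2, 1, 2, 1, 3, 9, 11, 11, 9, 10, 4, 4, 6, 6, 5, 7, 4, 2, 2, 1, 2, 2, 1, 3, 1, 2, 2]) (.node 447 (.leaf 72 14 [2, 2, 1, 3, 9, 11, 8, 11, 6, 4, 7, 5, 7, 7, 3, 1, 3, 1, 2, 2, 1, 2, 1, 3, 3, 3, 1, 2]) (.leaf 82 2 [3, 1, 3, 1, 3, 1, 3, 1, 3, 3, 3, 1, 2, 2, 2, 2, 2, 11, 11, 11, 11, 8, 7, 7, 5, 5, 6, 2, 1]))))) (.node 452 (.node 450 (.node 449 (.leaf 85 11 [1, 3, 3, 3, 1, 2, 2, 2, 11, 8, 11, 5, 5, 6, 5, 7, 3, 1, 3, 1, 3, 1, 2, 2, 1, 2, 2]) (.leaf 87 15 [2, 1, 2, 2, 9, 11, 8, 10, 10, 10, 4, 4, 4, 6, 2,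 1, 3, 3, 3, 3, 3, 1, 2, 2, 2, 2, 2, 1, 2])) (.node 451 (.leaf 93 7 [2, 2, 2, 2, 2, 1, 2, 1, 3, 3, 1, 2, 8, 11, 8, 10, 10, 8, 4, 7, 4, 7, 4, 6, 4, 2, 1, 2, 1, 3, 1, 2]) (.leaf 110 8 [2, 1, 2, 1, 2, 2, 2, 2, 2, 1, 2, 8, 11, 8, 11, 8, 7, 4, 4, 6, 6, 5, 3, 1, 3, 1, 2, 1, 2, 2]))) (.node 454 (.node 453 (.leaf 121 5 [1, 3, 3, 3, 1, 2, 2, 1, 2, 1, 3, 3, 3, 1, 3, 8, 11, 11, 11, 11, 8, 5, 5, 5, 5, 6, 6, 2, 2, 1, 3, 3]) (.leaf 124 6 [1, 2, 1, 2, 2, 1, 3, 3, 3, 3, 1, 3, 1, 3, 9, 11, 8, 10, 10, 8, 7, 7, 5, 7, 4, 4, 4, 3, 3, 3, 3, 1, 3])) (.node 455 (.leaf 136 13 [3, 1, 2, 2, 2, 2, 2, 11, 11, 11, 8, 11, 6, 4, 6, 6, 6, 2, 2, 2, 1, 3, 1, 2, 2, 1, 2, 2, 2, 1]) (.node 456 (.leaf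 136 6 [2, 2, 1, 2, 2, 2, 1, 3, 1, 2, 2, 2, 2, 2, 11, 11, 11, 8, 11, 6, 4, 6, 6, 6, 2, 2, 2, 1, 3, 1]) (.leaf 136 7 [2, 1, 2, 2, 2, 1, 3, 1, 2, 2, 2, 2, 2, 11, 11, 11, 8, 11, 6, 4, 6, 6, 6, 2, 2, 2, 1, 3, 1, 2]))))))) (.node 474 (.node 465 (.node 461 (.node 459 (.node 458 (.leaf 142 5 [2, 1, 2, 2, 1, 3, 1, 3, 1, 3, 1, 3, 3, 1, 3, 10, 9, 11, 11, 11, 11, 4, 6, 4, 4, 7, 7, 4, 2, 2, 1, 2, 1]) (.leaf 144 4 [3, 1, 2, 2, 2, 2, 2, 1, 2, 1, 2, 2, 2, 2, 1, 2, 8, 11, 8, 11, 8, 11, 5, 6, 6, 5, 5, 2, 2, 1, 3])) (.node 460 (.leaf 146 6 [1, 2, 1, 2, 2, 2, 2, 2, 2, 2, 1, 3, 1, 2, 11, 8, 11, 8, 10, 5, 7, 5, 6, 5, 2, 2, 1, 3, 1, 3]) (.leaf 161 7 [1, 2, 1, 3, 1, 3, 3, 1, 3, 3, 1,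 3, 3, 11, 11, 11, 8, 11, 5, 7, 4, 6, 4, 4, 3, 3, 1, 2, 1, 2, 2]))) (.node 463 (.node 462 (.leaf 184 7 [2, 1, 2, 2, 2, 2, 1, 3, 3, 3, 3, 3, 1, 2, 10, 10, 8, 11, 7, 5, 6, 5, 5, 5, 3, 1, 3, 1, 3, 3, 1]) (.leaf 186 9 [2, 1, 2, 1, 3, 1, 3, 3, 1, 3, 1, 3, 11, 8, 11, 9, 4, 6, 5, 6, 4, 4, 4, 2, 1, 2, 1, 3, 1, 3, 1, 2])) (.node 464 (.leaf 187 9 [3, 1, 3, 1, 2, 2, 2, 2, 2, 2, 1, 2, 9, 11, 8, 11, 4, 7, 4, 4, 7, 4, 3, 1, 2, 1, 3, 3, 3, 3, 1]) (.leaf 188 9 [2, 1, 2, 2, 2, 1, 2, 2, 2, 1, 2, 2, 11, 11, 11, 11, 8, 5, 5, 7, 5, 6, 4, 2, 1, 2, 1, 2, 1, 3, 3, 1])))) (.node 469 (.node 467 (.node 466 (.leaf 203 11 [2, 1, 3, 1, 3, 1, 3, 3, 3, 3, 11, 11, 8, 11, 6, 5, 6, 5, 5, 6, 5, 2,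 2, 2, 2, 1, 2, 2, 2, 1, 2, 2]) (.leaf 203 6 [2, 2, 1, 2, 2, 2, 1, 3, 1, 3, 1, 3, 3, 3, 3, 11, 11, 8, 11, 6, 5, 6, 5, 5, 6, 5, 2, 2, 2, 2, 1, 2])) (.node 468 (.leaf 217 2 [2, 1, 2, 1, 2, 1, 2, 2, 2, 2, 2, 2, 1, 3, 3, 3, 1, 3, 3, 10, 9, 11, 11, 11, 5, 5, 6, 4, 4, 4, 4, 2, 1]) (.leaf 220 4 [2, 2, 1, 2, 2, 1, 2, 1, 3, 1, 2, 2, 2, 2, 2, 1, 3, 8, 11, 8, 11, 8, 11, 4, 6, 5, 7, 7, 2, 2, 1, 2]))) (.node 471 (.node 470 (.leaf 227 12 [2, 1, 3, 3, 3, 1, 2, 1, 2, 8, 11, 11, 9, 5, 6, 5, 6, 2, 1, 2, 1, 2, 2, 2, 1, 2, 1, 2, 2]) (.leaf 31 3 [2, 1, 2, 1, 2, 2, 1, 2, 1, 2, 1, 3, 3, 9, 10, 9, 11, 5, 6, 6, 4, 6, 4, 2, 1, 2])) (.node 472 (.leaf 34 5 [3, 1, 2, 2, 1, 3, 3, 1, 3, 1, 2,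 8, 11, 9, 10, 4, 6, 5, 5, 7, 7, 2, 1, 2, 2, 1]) (.node 473 (.leaf 50 5 [3, 1, 2, 1, 2, 2, 1, 3, 1, 3, 3, 1, 3, 10, 10, 10, 5, 5, 6, 5, 7, 7, 2, 2, 1, 3, 3]) (.leaf 51 9 [2, 1, 3, 1, 2, 1, 2, 1, 2, 9, 10, 10, 10, 10, 9, 5, 5, 7, 5, 5, 6, 3, 1, 3, 3, 3, 1, 2, 1, 2])))))) (.node 483 (.node 478 (.node 476 (.node 475 (.leaf 78 4 [3, 1, 3, 3, 3, 1, 3, 3, 1, 3, 3, 3, 1, 2, 2, 10, 5, 5, 5, 7, 7, 5, 3, 3, 1, 3]) (.leaf 97 5 [3, 3, 1, 2, 2, 2, 2, 2, 2, 2, 2, 2, 1, 3, 8, 11, 8, 10, 10, 8, 7, 5, 6, 3, 3, 1, 3, 3])) (.node 477 (.leaf 122 12 [2, 1, 3, 1, 3, 3, 1, 2, 10, 10, 8, 4, 7, 4, 4, 6, 6, 2, 1, 2, 2, 2, 1, 3, 1, 3, 1, 2, 1]) (.leaf 125 10 [3, 1, 2, 1, 2, 2, 1, 3, 1, 2,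 8, 10, 10, 9, 10, 7, 4, 6, 5, 7, 4, 4, 3, 1, 2, 2, 1, 3, 1, 3, 3, 1]))) (.node 480 (.node 479 (.leaf 149 11 [2, 2, 2, 2, 1, 2, 1, 3, 3, 8, 10, 10, 9, 10, 5, 7, 5, 5, 5, 2, 2, 1, 3, 1, 3, 3, 1, 2, 2, 2]) (.leaf 150 12 [1, 3, 3, 1, 3, 1, 3, 3, 9, 10, 9, 10, 9, 4, 7, 7, 4, 3, 3, 1, 3, 3, 1, 3, 1, 2, 2, 2, 2])) (.node 481 (.leaf 153 17 [3, 1, 3, 8, 10, 10, 10, 10, 6, 6, 5, 7, 7, 4, 2, 2, 1, 2, 1, 3, 1, 2, 2, 2, 2, 1, 2, 2, 1, 2, 1]) (.node 482 (.leaf 163 11 [2, 1, 3, 3, 1, 3, 3, 1, 2, 9, 10, 9, 10, 9, 4, 7, 7, 5, 5, 5, 5, 3, 3, 3, 1, 3, 1, 2, 1, 2, 1, 2]) (.leaf 170 14 [1, 3, 3, 3, 1, 3, 10, 9, 4, 6, 6, 4, 6, 4, 3, 1, 3, 3, 3, 3, 1, 2, 1, 2, 2, 2, 1, 2]))))) (.node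 487 (.node 485 (.node 484 (.leaf 171 6 [1, 2, 1, 2, 1, 2, 2, 1, 3, 1, 3, 3, 3, 3, 10, 9, 10, 9, 4, 7, 7, 4, 6, 4, 6, 3, 3, 1, 3, 3, 3]) (.leaf 226 7 [3, 3, 1, 2, 1, 2, 2, 1, 2, 2, 1, 3, 1, 3, 10, 10, 8, 11, 9, 4, 6, 6, 4, 6, 4, 6, 2, 2, 1, 2, 2, 1, 3])) (.node 486 (.leaf 25 11 [2, 2, 2, 2, 5, 5, 7, 7, 5, 7, 4, 3, 1, 2, 1, 2, 1, 2, 1, 2, 2, 2]) (.leaf 62 10 [2, 1, 2, 2, 2, 2, 1, 3, 9, 10, 8, 7, 5, 6, 4, 6, 4, 3, 3, 1, 2, 2, 2, 2, 2, 2, 1]))) (.node 489 (.node 488 (.leaf 72 4 [2, 2, 1, 2, 1, 3, 3, 3, 1, 2, 2, 2, 1, 3, 9, 11, 8, 11, 6, 4, 7, 5, 7, 7, 3, 1, 3, 1]) (.leaf 74 10 [1, 3, 1, 3, 1, 3, 3, 3, 8, 11, 11, 11, 11, 4, 6, 6, 4, 4, 7, 7, 2, 1, 2, 2, 2, 1, 3, 1,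 2, 2])) (.node 490 (.leaf 133 5 [3, 1, 3, 1, 3, 1, 3, 1, 2, 1, 2, 2, 1, 2, 2, 8, 10, 10, 10, 10, 9, 5, 7, 7, 4, 4, 3, 1, 2, 2, 1]) (.node 491 (.leaf 146 4 [1, 3, 1, 2, 1, 2, 2, 2, 2, 2, 2, 2, 1, 3, 1, 2, 11, 8, 11, 8, 10, 5, 7, 5, 6, 5, 2, 2, 1, 3]) (.leaf 150 10 [2, 2, 1, 3, 3, 1, 3, 1, 3, 3, 9, 10, 9, 10, 9, 4, 7, 7, 4, 3, 3, 1, 3, 3, 1, 3, 1, 2, 2])))))))) (.node 527 (.node 509 (.node 500 (.node 496 (.node 494 (.node 493 (.leaf 166 12 [2, 2, 1, 2, 1, 2, 1, 2, 8, 10, 9, 11, 8, 4, 4, 4, 7, 4, 4, 2, 2, 2, 2, 2, 1, 3, 3, 1, 3, 1, 2]) (.leaf 172 3 [2, 2, 1, 2, 2, 2, 2, 2, 1, 2, 2, 1, 3, 1, 3, 1, 3, 11, 11, 8, 5, 7, 5, 6, 2, 2, 2])) (.node 495 (.leaf 29 11 [3, 3,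 1, 2, 2, 11, 11, 11, 8, 6, 6, 6, 5, 5, 7, 2, 2, 2, 1, 3, 3, 1, 2, 2, 1, 3]) (.leaf 112 11 [2, 1, 2, 1, 2, 2, 1, 2, 10, 10, 9, 4, 6, 6, 4, 4, 6, 2, 2, 2, 2, 1, 3, 3, 1, 2, 2, 2]))) (.node 498 (.node 497 (.leaf 121 8 [3, 1, 2, 2, 1, 2, 1, 3, 3, 3, 1, 3, 8, 11, 11, 11, 11, 8, 5, 5, 5, 5, 6, 6, 2, 2, 1, 3, 3, 1, 3, 3]) (.leaf 167 7 [3, 3, 1, 2, 2, 2, 2, 2, 1, 3, 1, 2, 2, 9, 5, 7, 5, 6, 5, 5, 2, 2, 1, 2, 1, 2, 1])) (.node 499 (.leaf 180 15 [1, 3, 3, 3, 1, 3, 9, 11, 11, 11, 5, 5, 6, 6, 5, 6, 2, 2, 1, 2, 1, 2, 2, 2, 1, 2, 2, 1, 3, 3, 3]) (.leaf 185 13 [1, 2, 2, 2, 1, 3, 1, 2, 10, 8, 6, 4, 7, 4, 6, 5, 5, 2, 2, 1, 3, 3, 1, 2, 1, 2, 2, 1, 3, 3])))) (.node 504 (.node 502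 (.node 501 (.leaf 191 9 [3, 1, 2, 1, 2, 1, 2, 2, 1, 3, 3, 3, 8, 10, 9, 11, 8, 4, 4, 6, 6, 5, 7, 4, 7, 2, 2, 2, 1, 3, 3, 1, 3, 3]) (.leaf 231 13 [2, 1, 2, 2, 2, 1, 3, 3, 9, 11, 8, 11, 8, 4, 6, 5, 5, 7, 5, 6, 2, 1, 3, 3, 3, 1, 3, 3, 1, 2, 2, 2, 1])) (.node 503 (.leaf 31 7 [2, 2, 1, 2, 1, 2, 1, 3, 3, 9, 10, 9, 11, 5, 6, 6, 4, 6, 4, 2, 1, 2, 2, 1, 2, 1]) (.leaf 87 14 [2, 2, 1, 2, 2, 9, 11, 8, 10, 10, 10, 4, 4, 4, 6, 2, 1, 3, 3, 3, 3, 3, 1, 2, 2, 2, 2, 2, 1]))) (.node 506 (.node 505 (.leaf 131 15 [1, 3, 1, 2, 2, 8, 10, 9, 11, 8, 10, 4, 7, 7, 4, 6, 4, 4, 3, 1, 3, 1, 2, 1, 3, 3, 1, 2, 1, 2, 2, 1, 3]) (.leaf 162 7 [1, 2, 2, 2, 1, 2, 2, 2, 2, 1, 2, 1, 3, 10, 9, 11, 11,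 8, 7, 5, 7, 5, 5, 3, 3, 1, 2, 1, 2, 2])) (.node 507 (.leaf 168 11 [2, 2, 2, 2, 2, 2, 2, 1, 3, 9, 11, 8, 11, 11, 7, 5, 5, 7, 5, 2, 2, 2, 2, 2, 1, 2, 1, 2, 2, 1]) (.node 508 (.leaf 219 3 [1, 3, 3, 3, 3, 1, 3, 1, 2, 2, 1, 3, 1, 3, 3, 3, 1, 3, 8, 10, 9, 10, 9, 11, 6, 5, 5, 6, 5, 3, 1, 3]) (.leaf 156 4 [1, 2, 1, 2, 2, 2, 1, 2, 1, 3, 1, 3, 1, 3, 1, 3, 10, 8, 11, 9, 10, 6, 4, 7, 4, 7, 3, 3, 1, 2])))))) (.node 518 (.node 513 (.node 511 (.node 510 (.leaf 174 8 [3, 1, 2, 2, 2, 1, 3, 1, 3, 3, 1, 2, 9, 10, 8, 6, 4, 7, 5, 7, 5, 2, 2, 1, 2, 2, 2, 1, 3]) (.leaf 17 4 [1, 2, 2, 2, 2, 1, 3, 3, 1, 3, 8, 10, 9, 10, 7, 7, 4, 7, 3, 1, 3, 3])) (.node 512 (.leaf 37 5 [1, 2, 2, 1, 2,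 2, 1, 3, 3, 3, 1, 2, 8, 10, 9, 10, 9, 11, 6, 5, 5, 6, 6, 6, 4, 2, 1, 3, 1, 3]) (.leaf 45 10 [2, 1, 2, 1, 3, 3, 3, 3, 10, 9, 11, 11, 11, 4, 6, 4, 4, 4, 6, 4, 2, 1, 3, 1, 3, 3, 3, 1, 2, 1]))) (.node 515 (.node 514 (.leaf 46 8 [3, 1, 2, 1, 3, 3, 3, 1, 3, 3, 10, 10, 9, 10, 9, 4, 6, 6, 6, 2, 1, 3, 3, 3, 3, 3, 1]) (.leaf 55 10 [1, 3, 3, 1, 3, 1, 2, 2, 10, 9, 10, 10, 8, 4, 4, 4, 4, 7, 5, 7, 2, 1, 3, 3, 3, 1, 2, 1, 2, 2])) (.node 516 (.leaf 96 11 [2, 2, 1, 3, 3, 3, 1, 3, 8, 11, 9, 6, 6, 6, 4, 6, 2, 1, 2, 2, 2, 1, 2, 2, 2, 2, 2]) (.node 517 (.leaf 143 10 [2, 1, 2, 2, 1, 3, 1, 3, 1, 3, 10, 10, 10, 10, 9, 5, 5, 6, 6, 4, 2, 2, 1, 3, 3, 1, 2, 1, 2, 1]) (.leaf 160 12 [2, 2,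 1, 3, 1, 3, 3, 3, 10, 9, 11, 11, 11, 5, 6, 5, 6, 6, 6, 3, 1, 3, 1, 2, 1, 2, 2, 2, 2, 2, 2]))))) (.node 522 (.node 520 (.node 519 (.leaf 174 28 [5, 2, 2, 1, 2, 2, 2, 1, 3, 3, 1, 2, 2, 2, 1, 3, 1, 3, 3, 1, 2, 9, 10, 8, 6, 4, 7, 5, 7]) (.leaf 190 11 [3, 3, 3, 1, 3, 1, 3, 3, 3, 3, 11, 8, 10, 9, 6, 4, 7, 5, 6, 6, 4, 2, 2, 1, 2, 1, 2, 1, 2, 1, 3, 1])) (.node 521 (.leaf 197 29 [6, 4, 3, 3, 3, 1, 2, 2, 1, 2, 1, 3, 1, 2, 2, 1, 2, 1, 2, 2, 2, 2, 2, 9, 11, 8, 10, 10, 8, 7, 5]) (.leaf 200 6 [3, 3, 1, 2, 2, 1, 3, 1, 3, 1, 3, 3, 3, 1, 3, 8, 10, 9, 10, 8, 7, 7, 4, 4, 4, 7, 3, 3, 1, 3, 3, 1]))) (.node 524 (.node 523 (.leaf 209 29 [7, 5, 3, 1, 2, 1, 3, 3, 3, 3, 3, 1, 2, 2, 1,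 3, 3, 1, 3, 3, 3, 3, 3, 10, 8, 11, 9, 10, 4, 7, 5]) (.leaf 210 29 [4, 4, 6, 2, 1, 3, 1, 3, 1, 2, 2, 2, 1, 2, 1, 2, 2, 2, 2, 2, 1, 2, 1, 2, 8, 11, 11, 9, 10, 6, 6, 6])) (.node 525 (.leaf 221 17 [3, 3, 1, 3, 9, 4, 7, 4, 4, 7, 4, 2, 1, 3, 3, 3, 3, 1, 3, 3, 1, 2, 2, 2, 2, 1, 3, 3]) (.node 526 (.leaf 224 12 [1, 2, 1, 3, 3, 3, 3, 1, 3, 10, 10, 9, 10, 10, 4, 7, 5, 2, 2, 2, 1, 2, 1, 2, 2, 2, 2, 2, 2]) (.leaf 16 6 [2, 2, 1, 2, 1, 2, 2, 2, 11, 8, 11, 8, 10, 10, 6, 6, 6, 5, 7, 3, 3, 1, 3, 3, 1]))))))) (.node 545 (.node 536 (.node 531 (.node 529 (.node 528 (.leaf 30 9 [2, 2, 1, 3, 3, 1, 3, 11, 8, 10, 10, 4, 4, 7, 4, 4, 4, 6, 3, 1, 3, 3, 1, 2, 1, 2, 1]) (.leaf 38 2 [2, 1,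 2, 1, 2, 2, 1, 2, 2, 2, 1, 3, 3, 3, 3, 8, 11, 4, 6, 5, 5, 7, 7, 5, 2, 2])) (.node 530 (.leaf 76 12 [2, 2, 1, 2, 1, 3, 3, 8, 11, 11, 11, 6, 5, 5, 6, 4, 7, 7, 2, 2, 1, 3, 3, 1, 2, 2, 2, 1, 2, 1]) (.leaf 91 7 [1, 2, 2, 1, 3, 3, 3, 3, 3, 3, 1, 2, 11, 8, 11, 8, 11, 4, 4, 4, 6, 5, 6, 4, 2, 1, 3, 1, 2, 2, 2]))) (.node 533 (.node 532 (.leaf 103 5 [2, 2, 1, 2, 1, 3, 1, 3, 3, 3, 1, 3, 3, 3, 8, 10, 10, 9, 5, 6, 4, 6, 4, 4, 7, 2, 1, 2, 2, 1]) (.leaf 106 13 [2, 2, 2, 1, 3, 3, 8, 11, 11, 11, 11, 4, 6, 5, 5, 5, 5, 7, 3, 3, 3, 3, 3, 1, 2, 2, 1, 2, 2, 2, 1])) (.node 534 (.leaf 123 12 [1, 3, 1, 2, 2, 1, 3, 3, 8, 11, 8, 10, 10, 8, 5, 7, 5, 5, 7, 4, 2, 2, 2, 2, 1, 2, 1, 2, 1, 2,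 2, 2]) (.node 535 (.leaf 135 11 [1, 3, 3, 1, 2, 2, 2, 2, 2, 8, 10, 9, 10, 9, 4, 6, 4, 4, 4, 4, 6, 2, 2, 1, 2, 1, 2, 2, 2, 2, 2, 2]) (.leaf 144 7 [2, 2, 2, 2, 1, 2, 1, 2, 2, 2, 2, 1, 2, 8, 11, 8, 11, 8, 11, 5, 6, 6, 5, 5, 2, 2, 1, 3, 3, 1, 2]))))) (.node 540 (.node 538 (.node 537 (.leaf 149 12 [2, 2, 2, 1, 2, 1, 3, 3, 8, 10, 10, 9, 10, 5, 7, 5, 5, 5, 2, 2, 1, 3, 1, 3, 3, 1, 2, 2, 2, 2]) (.leaf 218 14 [2, 2, 2, 2, 2, 1, 3, 9, 10, 10, 8, 11, 4, 6, 6, 2, 1, 2, 1, 2, 2, 1, 2, 1, 2, 2, 2, 1, 2])) (.node 539 (.leaf 32 16 [9, 11, 11, 9, 5, 6, 6, 5, 6, 6, 3, 3, 1, 2, 1, 3, 3, 1, 2, 2, 1, 2, 2, 1, 3, 3]) (.leaf 37 18 [10, 9, 10, 9, 11, 6, 5, 5, 6, 6, 6, 4, 2, 1, 3, 1, 3,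 1, 2, 2, 1, 2, 2, 1, 3, 3, 3, 1, 2, 8]))) (.node 542 (.node 541 (.leaf 37 19 [9, 10, 9, 11, 6, 5, 5, 6, 6, 6, 4, 2, 1, 3, 1, 3, 1, 2, 2, 1, 2, 2, 1, 3, 3, 3, 1, 2, 8, 10]) (.leaf 45 21 [11, 11, 4, 6, 4, 4, 4, 6, 4, 2, 1, 3, 1, 3, 3, 3, 1, 2, 1, 2, 1, 2, 1, 3, 3, 3, 3, 10, 9, 11])) (.node 543 (.leaf 88 14 [1, 3, 3, 1, 3, 10, 9, 10, 10, 10, 7, 7, 5, 7, 5, 2, 1, 2, 1, 2, 2, 2, 2, 1, 2, 2, 2, 1, 3]) (.node 544 (.leaf 138 7 [1, 2, 2, 2, 2, 1, 3, 3, 3, 3, 3, 3, 3, 9, 11, 9, 10, 6, 5, 7, 7, 4, 7, 2, 2, 2, 1, 2, 1, 2]) (.leaf 149 7 [1, 2, 2, 2, 2, 2, 2, 2, 1, 2, 1, 3, 3, 8, 10, 10, 9, 10, 5, 7, 5, 5, 5, 2, 2, 1, 3, 1, 3, 3])))))) (.node 554 (.node 549 (.node 547 (.node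 546 (.leaf 204 13 [1, 2, 1, 3, 1, 3, 1, 3, 10, 8, 11, 9, 4, 7, 4, 6, 5, 7, 2, 1, 2, 1, 2, 1, 2, 2, 1, 2, 2, 2, 2]) (.leaf 225 7 [3, 1, 2, 2, 2, 2, 2, 2, 1, 3, 1, 3, 1, 2, 8, 10, 9, 10, 9, 11, 11, 5, 5, 2, 2, 1, 3, 1, 3, 3])) (.node 548 (.leaf 228 20 [2, 9, 11, 11, 9, 7, 7, 4, 4, 4, 7, 2, 2, 2, 1, 3, 1, 3, 3, 1, 2, 1, 2, 2, 2, 2, 2, 2, 1, 2, 1]) (.leaf 232 11 [3, 3, 3, 1, 3, 1, 3, 3, 1, 2, 9, 5, 7, 7, 5, 7, 4, 3, 1, 2, 2, 1, 2, 1, 2, 2, 2, 1]))) (.node 551 (.node 550 (.leaf 84 8 [3, 1, 3, 1, 3, 1, 3, 3, 1, 3, 3, 9, 11, 8, 10, 10, 8, 6, 5, 6, 6, 4, 7, 3, 1, 3, 1, 2, 2, 2, 1]) (.leaf 94 10 [3, 1, 2, 2, 2, 2, 1, 2, 2, 8, 11, 8, 10, 10, 8, 4, 4, 4, 6, 4, 7, 2, 2, 2,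 1, 3, 1, 3, 3, 3, 1])) (.node 552 (.leaf 139 4 [2, 1, 3, 3, 3, 1, 3, 1, 2, 1, 2, 1, 3, 3, 1, 2, 11, 11, 9, 10, 8, 5, 6, 4, 4, 4, 3, 3, 1, 2]) (.node 553 (.leaf 185 18 [3, 1, 2, 10, 8, 6, 4, 7, 4, 6, 5, 5, 2, 2, 1, 3, 3, 1, 2, 1, 2, 2, 1, 3, 3, 1, 2, 2, 2, 1]) (.leaf 78 10 [3, 3, 1, 3, 3, 3, 1, 2, 2, 10, 5, 5, 5, 7, 7, 5, 3, 3, 1, 3, 3, 1, 3, 3, 3, 1]))))) (.node 558 (.node 556 (.node 555 (.leaf 78 13 [3, 3, 3, 1, 2, 2, 10, 5, 5, 5, 7, 7, 5, 3, 3, 1, 3, 3, 1, 3, 3, 3, 1, 3, 3, 1]) (.leaf 194 11 [3, 3, 1, 3, 3, 3, 1, 3, 1, 3, 11, 8, 10, 9, 11, 7, 5, 6, 5, 6, 6, 5, 3, 1, 3, 1, 2, 2, 2, 1, 3, 3, 1])) (.node 557 (.leaf 41 10 [2, 1, 2, 1, 2, 1, 2, 8, 11, 8, 10, 10,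 10, 6, 4, 4, 4, 4, 6, 3, 1, 3, 3, 1, 3, 1, 2, 2, 1]) (.leaf 126 7 [2, 2, 1, 3, 3, 3, 1, 2, 2, 2, 1, 3, 3, 11, 11, 11, 11, 6, 4, 7, 5, 7, 4, 3, 1, 3, 1, 2, 2, 1]))) (.node 560 (.node 559 (.leaf 211 7 [1, 2, 2, 2, 2, 2, 1, 2, 2, 2, 2, 2, 1, 2, 10, 10, 10, 4, 6, 4, 7, 5, 7, 3, 1, 2, 2, 2, 1, 3]) (.leaf 54 5 [1, 3, 1, 2, 1, 2, 2, 1, 3, 1, 2, 1, 2, 8, 10, 9, 11, 11, 9, 4, 7, 5, 6, 4, 6, 3, 1, 3, 3, 3])) (.node 561 (.leaf 75 6 [1, 2, 2, 2, 2, 2, 1, 3, 1, 3, 3, 3, 3, 8, 11, 11, 11, 11, 5, 5, 7, 5, 5, 5, 2, 2, 1, 3, 1, 3]) (.node 562 (.leaf 168 10 [1, 2, 2, 2, 2, 2, 2, 2, 1, 3, 9, 11, 8, 11, 11, 7, 5, 5, 7, 5, 2, 2, 2, 2, 2, 1, 2, 1, 2, 2]) (.leaf 50 10 [2, 1, 3, 1, 3,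 3, 1, 3, 10, 10, 10, 5, 5, 6, 5, 7, 7, 2, 2, 1, 3, 3, 3, 1, 2, 1, 2])))))))))))

theorem b0 : allR (guardB 18 (blk fc sc rt.get Cfsg.Agent.Lib.Helper3.G24.INV isH)) 5 0 = true := by decide +kernel
theorem c0 : allR (guardB 43 (cblk fc nc cc 4608 1365 79228162514264337593543950336 gens)) 5 0 = true := by decide +kernel
theorem c1 : allR (guardB 43 (cblk fc nc cc 4608 1365 79228162514264337593543950336 gens)) 5 32 = true := by decide +kernel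

theorem chkAll : ∀ j < 18, blk fc sc rt.get Cfsg.Agent.Lib.Helper3.G24.INV isH j = true :=
  guardB_spec (D := 5) b0 (by norm_num)

theorem clAll : ∀ jb < 43, cblk fc nc cc (256 * 18) 1365 79228162514264337593543950336 gens jb = true :=
  guardB_spec (D := 6) (allR_join c0 c1 (by norm_num)) (by norm_num)

theorem hid_0 : BR_0.all (wordId (ntOf Cfsg.Agent.Lib.Helper3.G24.ntl) 11) = true := by decide +kernel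
theorem hid_1 : BR_1.all (wordId (ntOf Cfsg.Agent.Lib.Helper3.G24.ntl) 11) = true := by decide +kernel
theorem hid_2 : BR_2.all (wordId (ntOf Cfsg.Agent.Lib.Helper3.G24.ntl) 11) = true := by decide +kernel
theorem hid : BR.all (wordId (ntOf Cfsg.Agent.Lib.Helper3.G24.ntl) 11) = true := by
  simp only [BR, List.all_append, hid_0, hid_1, hid_2, Bool.and_self]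

theorem card_eq : Nat.card (lgrp (vL Cfsg.Agent.Lib.Helper3.G24.ntl Cfsg.Agent.Lib.Helper3.G24.deg) gens) = 1365 * Nat.card (lgrp (vL Cfsg.Agent.Lib.Helper3.G24.ntl Cfsg.Agent.Lib.Helper3.G24.deg) hl) :=
  Cfsg.Agent.Lib.Helper3.G24.setup.level gens hl dl BR (by decide +kernel) (by decide +kernel) hid (by decide +kernel)
    (by decide +kernel) rt (by decide +kernel) isH (fun l h => of_decide_eq_true h) fc sc nc cc 18 43 1365 79228162514264337593543950336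
    (by norm_num) (by norm_num) (by decide +kernel) (by decide) chkAll clAll
    0 0 14 (by norm_num [Cfsg.Agent.Lib.Helper3.G24.deg]) (by norm_num [Cfsg.Agent.Lib.Helper3.G24.deg]) (by decide +kernel) (by decide +kernel)

theorem ub {M : Type*} [Group M] (w : ℕ → M) (h0 : w 0 = 1) (hinv : ∀ l, w (invL Cfsg.Agent.Lib.Helper3.G24.INV l) = (w l)⁻¹)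
    (hBR : ∀ r ∈ BR, (r.map w).prod = 1)
    (hdlr : ∀ r ∈ dl.map (fun p => p.1 ++ [p.2]), (r.map w).prod = 1) (N : ℕ) (hN : Bd w hl N) :
    Bd w gens (1365 * N) :=
  level_bd w Cfsg.Agent.Lib.Helper3.G24.INV h0 hinv gens hl dl BR (by decide +kernel) hdlr hBR (by decide +kernel) (by decide +kernel)
    rt (by decide +kernel) isH (fun l h => of_decide_eq_true h) fc sc nc cc 18 43 1365 79228162514264337593543950336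
    (by norm_num) (by norm_num) (by decide +kernel) (by decide) chkAll clAll N hN

end Cfsg.Agent.Lib.Helper3.G24.L1
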