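import Cfsg.Agent.Lib.Helper3.G24.L2D
import Cfsg.Agent.Lib.Helper3.G24.Net

set_option autoImplicit false
set_option maxRecDepth 100000

namespace Cfsg.Agent.Lib.Helper3.G24.L2

open Cfsg.Agent.Lib.Helper11 Cfsg.Agent.Lib.Helper3

set_option maxHeartbeats 0
set_option Elab.async false

noncomputable def fc (i : ℕ) : ℕ := (Bool.rec (fc0_0 i) (fc0_1 i) (Nat.ble 16 i))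
noncomputable def sc (i : ℕ) : ℕ := (Bool.rec (sc0_0 i) (sc0_1 i) (Nat.ble 16 i))
noncomputable def nc (i : ℕ) : ℕ := (nc0_0 i)
noncomputable def cc (i : ℕ) : ℕ := (Bool.rec (cc0_0 i) (cc0_1 i) (Nat.ble 16 i))

def isH (l : ℕ) : Bool := decide (l ∈ [8, 10])
def gens : List ℕ := [4, 6]
def hl : List ℕ := [8, 10]
def dl : List (List ℕ × ℕ) := [([4], 5), ([6], 7), ([6, 6, 4, 4, 7, 5, 7], 9), ([9], 8), ([5, 7, 7, 5, 6, 5, 5, 7], 11), ([11], 10)]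
def BR_0 : List (List ℕ) := [[], [6, 6, 4, 4, 7, 5, 7, 9], [5, 7, 7, 5, 6, 5, 5, 7, 11], [4, 4, 4, 4, 4, 4, 4, 4, 4, 4], [5, 5, 5, 5, 5, 5, 5, 5, 5, 5], [6, 6, 6, 6, 6, 6], [7, 7, 7, 7, 7, 7], [4, 6, 4, 6, 4, 6, 4, 6, 4, 6, 4, 6], [4, 7, 4, 7, 4, 7, 4, 7, 4, 7, 4, 7], [5, 6, 5, 6, 5, 6, 5, 6, 5, 6, 5, 6], [5, 7, 5, 7, 5, 7, 5, 7, 5, 7, 5, 7], [4, 6, 5, 7, 4, 6, 5, 7, 4, 6, 5, 7, 4, 6, 5, 7, 4, 6, 5, 7, 4, 6, 5, 7, 4, 6, 5, 7, 4, 6, 5, 7, 4, 6, 5, 7, 4, 6, 5, 7], [4, 7, 5, 6, 4, 7, 5, 6, 4, 7, 5, 6, 4, 7, 5, 6, 4, 7, 5, 6, 4, 7, 5, 6, 4, 7, 5, 6, 4, 7, 5, 6, 4, 7, 5, 6, 4, 7, 5, 6], [4, 6, 6, 5, 6, 6, 4, 6, 11, 8, 10, 10, 8], [5, 5, 7, 4, 6, 6, 5, 7, 5, 10, 10, 9, 10, 9], [5, 7, 5, 7, 4, 6, 5, 7, 4, 11, 11, 9,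 10], [6, 6, 5, 6, 6, 5, 5, 7, 4, 10, 10, 10, 9], [7, 5, 5, 5, 6, 4, 6, 4, 6, 10, 10, 10, 10, 9], [7, 5, 5, 7, 4, 7, 4, 4, 4, 8, 11, 11, 8, 11], [4, 6, 4, 6, 6, 5, 5, 6, 6, 8, 11, 8, 11, 9], [4, 4, 7, 4, 6, 4, 6, 4, 4, 8, 11, 8, 10, 10, 10], [5, 6, 5, 5, 6, 6, 4, 6, 5, 8, 10, 9, 11, 11], [5, 7, 4, 4, 4, 4, 7, 7, 5, 8, 11, 11, 11], [7, 5, 7, 4, 4, 7, 7, 4, 7, 9, 10, 10, 8], [5, 7, 7, 4, 6, 5, 7, 4, 7, 8, 10, 9, 10, 9, 11, 11], [5, 6, 5, 6, 4, 4, 6, 6, 5, 5, 11, 9], [4, 7, 4, 4, 6, 4, 7, 4, 4, 6], [7, 4, 7, 4, 6, 4, 4, 7, 5, 6, 11, 11, 9], [6, 5, 6, 6, 4, 6, 6, 5, 6, 6, 9, 11, 11, 9, 10], [7, 4, 6, 5, 6, 4, 4, 7, 7, 4, 8, 10, 10, 8, 11], [6, 6, 5, 5, 6, 4, 6, 4, 7, 5, 9, 10, 10, 10], [4, 4, 7, 7, 4, 7, 4, 6, 5,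 5, 9, 11, 8, 10, 10, 10], [7, 7, 4, 7, 4, 6, 4, 6, 6, 5, 9, 10, 8, 11], [6, 6, 5, 7, 4, 6, 4, 4, 6, 4, 10, 9, 10, 10], [7, 4, 4, 7, 7, 4, 7, 5, 6, 6, 8, 11, 9, 10, 8, 11], [7, 5, 7, 5, 6, 5, 7, 5, 7, 7, 8, 11, 8, 10, 10, 9], [7, 4, 6, 4, 7, 4, 7, 7, 4, 6, 8, 11, 8, 11, 8, 10], [4, 6, 5, 5, 6, 6, 5, 5, 5, 6, 8, 10, 10, 9], [4, 7, 7, 4, 4, 7, 5, 5, 6, 5, 11, 11, 11, 8, 11], [6, 5, 7, 5, 6, 6, 4, 6, 5, 6, 10, 9, 10, 9], [4, 6, 4, 6, 4, 4, 4, 4, 7, 4, 10, 9, 11, 11], [5, 7, 5, 6, 4, 4, 6, 6, 4, 4, 10, 10, 8, 11, 9], [7, 4, 6, 4, 4, 4, 6, 4, 6, 5, 9, 11, 11, 9], [7, 4, 6, 4, 6, 6, 5, 7, 7, 4, 9, 11, 11, 8, 11], [4, 4, 4, 7, 4, 6, 4, 6, 4, 7, 11, 11, 11], [6, 4, 7, 7, 4, 6, 4, 4, 4, 7, 10, 9, 11, 8, 10], [5, 6, 5,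 5, 7, 4, 6, 4, 4, 7, 8, 10, 9, 10, 10], [4, 4, 4, 4, 6, 4, 4, 6, 5, 6, 8, 11, 11, 8, 11], [7, 4, 7, 5, 6, 4, 4, 4, 6, 6, 8, 11, 11, 11, 8, 11], [5, 5, 7, 5, 6, 6, 5, 6, 4, 7, 8, 10, 9, 10, 8], [5, 7, 4, 7, 5, 6, 4, 7, 7, 7, 4, 11, 8, 10, 10], [4, 4, 6, 5, 7, 4, 4, 6, 4, 6, 4, 11, 8, 10, 10], [5, 6, 5, 7, 4, 4, 6, 5, 7, 5, 5, 10, 9, 11, 8], [5, 6, 5, 7, 4, 6, 5, 7, 7, 7, 4, 11, 11, 9, 10], [7, 7, 4, 6, 4, 6, 4, 6, 5, 5, 6, 8, 11, 11, 8], [4, 7, 7, 5, 6, 6, 6, 4, 6, 6, 5, 8, 11, 8, 10], [4, 6, 5, 7, 7, 4, 6, 5, 6, 4, 6, 8, 10, 10, 10, 10], [5, 5, 5, 5, 6, 4, 7, 4, 6, 4, 7, 10, 9, 11, 8], [7, 4, 4, 4, 4, 6, 5, 6, 5, 7, 7, 11, 11, 11, 11, 11], [4, 7, 5, 7, 4, 4, 6, 6, 4, 7, 7, 8, 10, 9, 11, 11, 9], [5, 7, 7, 5, 5,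 6, 4, 7, 5, 5, 7, 8, 10, 9, 10, 9, 11, 11], [5, 6, 6, 4, 4, 4, 6, 5, 5, 7, 5, 11, 8, 10, 10], [5, 7, 5, 6, 5, 6, 6, 6, 4, 4, 4, 8, 11, 8, 11, 11], [6, 6, 6, 4, 6, 6, 6, 5, 6, 5, 6, 11, 11], [5, 5, 6, 5, 6, 4, 7, 4, 6, 6, 5, 11, 9, 10], [6, 4, 4, 6, 4, 4, 4, 4, 6, 5, 7, 9, 10], [6, 4, 4, 6, 4, 6, 4, 7, 5, 5, 5, 9, 10], [6, 4, 4, 4, 6, 4, 6, 5, 7, 5, 6, 10, 8, 11], [6, 4, 6, 6, 6, 4, 6, 4, 6, 6, 4, 8, 10, 10, 9], [5, 5, 5, 6, 6, 4, 6, 6, 5, 5, 6, 11, 8, 10, 10, 8], [5, 5, 6, 5, 5, 6, 5, 6, 5, 5, 6, 10, 10, 8]]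
def BR : List (List ℕ) := BR_0
set_option maxRecDepth 10000000 in
noncomputable def rt : RT := (.node 336 (.node 168 (.node 84 (.node 42 (.node 21 (.node 10 (.node 5 (.node 2 (.node 1 (.leaf 0 0 []) (.leaf 1 7 [9, 6, 6, 4, 4, 7, 5, 7])) (.node 3 (.leaf 3 5 [4, 4, 4, 4, 4, 4, 4, 4, 4, 4]) (.node 4 (.leaf 8 6 [4, 7, 4, 7, 4, 7, 4, 7, 4, 7, 4, 7]) (.leaf 2 8 [11, 5, 7, 7, 5, 6, 5, 5, 7])))) (.node 7 (.node 6 (.leaf 2 4 [6, 5, 5, 7, 11, 5, 7, 7, 5]) (.leaf 9 6 [5, 6, 5, 6, 5, 6, 5, 6, 5, 6, 5, 6])) (.node 8 (.leaf 10 6 [5, 7, 5, 7, 5, 7, 5, 7, 5, 7, 5, 7]) (.node 9 (.leaf 1 3 [4, 7, 5, 7, 9, 6, 6, 4]) (.leaf 5 3 [6, 6, 6, 6, 6, 6]))))) (.node 15 (.node 12 (.node 11 (.leaf 5 2 [6, 6, 6, 6, 6, 6]) (.leaf 13 4 [6, 6,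 4, 6, 11, 8, 10, 10, 8, 4, 6, 6, 5])) (.node 13 (.leaf 5 4 [6, 6, 6, 6, 6, 6]) (.node 14 (.leaf 14 4 [6, 6, 5, 7, 5, 10, 10, 9, 10, 9, 5, 5, 7, 4]) (.leaf 15 4 [4, 6, 5, 7, 4, 11, 11, 9, 10, 5, 7, 5, 7])))) (.node 18 (.node 16 (.leaf 16 4 [6, 5, 5, 7, 4, 10, 10, 10, 9, 6, 6, 5, 6]) (.node 17 (.leaf 17 4 [6, 4, 6, 4, 6, 10, 10, 10, 10, 9, 7, 5, 5, 5]) (.leaf 7 11 [6, 4, 6, 4, 6, 4, 6, 4, 6, 4, 6, 4]))) (.node 19 (.leaf 18 4 [4, 7, 4, 4, 4, 8, 11, 11, 8, 11, 7, 5, 5, 7]) (.node 20 (.leaf 8 7 [7, 4, 7, 4, 7, 4, 7, 4, 7, 4, 7, 4]) (.leaf 19 4 [6, 5, 5, 6, 6, 8, 11, 8, 11, 9, 4, 6, 4, 6])))))) (.node 31 (.node 26 (.node 23 (.node 22 (.leaf 5 1 [6, 6, 6, 6, 6, 6]) (.leaf 20 4 [6, 4, 6, 4, 4, 8, 11, 8, 10, 10, 10, 4,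 4, 7, 4])) (.node 24 (.leaf 7 9 [6, 4, 6, 4, 6, 4, 6, 4, 6, 4, 6, 4]) (.node 25 (.leaf 21 4 [6, 6, 4, 6, 5, 8, 10, 9, 11, 11, 5, 6, 5, 5]) (.leaf 22 4 [4, 4, 7, 7, 5, 8, 11, 11, 11, 5, 7, 4, 4])))) (.node 28 (.node 27 (.leaf 3 4 [4, 4, 4, 4, 4, 4, 4, 4, 4, 4]) (.leaf 23 4 [4, 7, 7, 4, 7, 9, 10, 10, 8, 7, 5, 7, 4])) (.node 29 (.leaf 24 4 [6, 5, 7, 4, 7, 8, 10, 9, 10, 9, 11, 11, 5, 7, 7, 4]) (.node 30 (.leaf 25 4 [4, 4, 6, 6, 5, 5, 11, 9, 5, 6, 5, 6]) (.leaf 26 5 [4, 7, 4, 4, 6, 4, 7, 4, 4, 6]))))) (.node 36 (.node 33 (.node 32 (.leaf 26 7 [4, 4, 6, 4, 7, 4, 4, 6, 4, 7]) (.leaf 26 8 [4, 6, 4, 7, 4, 4, 6, 4, 7, 4])) (.node 34 (.leaf 26 6 [7, 4, 4, 6, 4, 7, 4, 4, 6, 4]) (.node 35 (.leaf 26 4 [6, 4, 7, 4, 4, 6, 4,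 7, 4, 4]) (.leaf 27 4 [6, 4, 4, 7, 5, 6, 11, 11, 9, 7, 4, 7, 4])))) (.node 39 (.node 37 (.leaf 26 9 [6, 4, 7, 4, 4, 6, 4, 7, 4, 4]) (.node 38 (.leaf 28 5 [6, 6, 5, 6, 6, 9, 11, 11, 9, 10, 6, 5, 6, 6, 4]) (.leaf 29 4 [6, 4, 4, 7, 7, 4, 8, 10, 10, 8, 11, 7, 4, 6, 5]))) (.node 40 (.leaf 30 4 [6, 4, 6, 4, 7, 5, 9, 10, 10, 10, 6, 6, 5, 5]) (.node 41 (.leaf 31 4 [4, 7, 4, 6, 5, 5, 9, 11, 8, 10, 10, 10, 4, 4, 7, 7]) (.leaf 32 4 [4, 6, 4, 6, 6, 5, 9, 10, 8, 11, 7, 7, 4, 7]))))))) (.node 63 (.node 52 (.node 47 (.node 44 (.node 43 (.leaf 7 7 [6, 4, 6, 4, 6, 4, 6, 4, 6, 4, 6, 4]) (.leaf 26 1 [7, 4, 4, 6, 4, 7, 4, 4, 6, 4])) (.node 45 (.leaf 6 3 [7, 7, 7, 7, 7, 7]) (.node 46 (.leaf 33 4 [4, 6, 4, 4, 6, 4, 10, 9, 10, 10,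 6, 6, 5, 7]) (.leaf 34 5 [4, 7, 5, 6, 6, 8, 11, 9, 10, 8, 11, 7, 4, 4, 7, 7])))) (.node 49 (.node 48 (.leaf 35 4 [6, 5, 7, 5, 7, 7, 8, 11, 8, 10, 10, 9, 7, 5, 7, 5]) (.leaf 9 4 [5, 6, 5, 6, 5, 6, 5, 6, 5, 6, 5, 6])) (.node 50 (.leaf 36 5 [4, 7, 7, 4, 6, 8, 11, 8, 11, 8, 10, 7, 4, 6, 4, 7]) (.node 51 (.leaf 26 3 [4, 6, 4, 7, 4, 4, 6, 4, 7, 4]) (.leaf 37 5 [6, 5, 5, 5, 6, 8, 10, 10, 9, 4, 6, 5, 5, 6]))))) (.node 57 (.node 54 (.node 53 (.leaf 38 4 [4, 7, 5, 5, 6, 5, 11, 11, 11, 8, 11, 4, 7, 7, 4]) (.leaf 39 5 [6, 4, 6, 5, 6, 10, 9, 10, 9, 6, 5, 7, 5, 6])) (.node 55 (.leaf 40 5 [4, 4, 4, 7, 4, 10, 9, 11, 11, 4, 6, 4, 6, 4]) (.node 56 (.leaf 3 6 [4, 4, 4, 4, 4, 4, 4, 4, 4, 4]) (.leaf 41 4 [4, 4, 6, 6, 4, 4, 10, 10,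 8, 11, 9, 5, 7, 5, 6])))) (.node 60 (.node 58 (.leaf 42 4 [4, 4, 6, 4, 6, 5, 9, 11, 11, 9, 7, 4, 6, 4]) (.node 59 (.leaf 43 4 [6, 6, 5, 7, 7, 4, 9, 11, 11, 8, 11, 7, 4, 6, 4]) (.leaf 26 0 [4, 7, 4, 4, 6, 4, 7, 4, 4, 6]))) (.node 61 (.leaf 25 7 [6, 5, 5, 11, 9, 5, 6, 5, 6, 4, 4, 6]) (.node 62 (.leaf 44 5 [6, 4, 6, 4, 7, 11, 11, 11, 4, 4, 4, 7, 4]) (.leaf 45 5 [6, 4, 4, 4, 7, 10, 9, 11, 8, 10, 6, 4, 7, 7, 4])))))) (.node 73 (.node 68 (.node 65 (.node 64 (.leaf 46 5 [4, 6, 4, 4, 7, 8, 10, 9, 10, 10, 5, 6, 5, 5, 7]) (.leaf 47 5 [4, 4, 6, 5, 6, 8, 11, 11, 8, 11, 4, 4, 4, 4, 6])) (.node 66 (.leaf 26 2 [4, 4, 6, 4, 7, 4, 4, 6, 4, 7]) (.node 67 (.leaf 48 5 [4, 4, 4, 6, 6, 8, 11, 11, 11, 8, 11, 7, 4, 7, 5, 6]) (.leaf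 49 5 [6, 5, 6, 4, 7, 8, 10, 9, 10, 8, 5, 5, 7, 5, 6])))) (.node 70 (.node 69 (.leaf 50 5 [6, 4, 7, 7, 7, 4, 11, 8, 10, 10, 5, 7, 4, 7, 5]) (.leaf 51 5 [4, 4, 6, 4, 6, 4, 11, 8, 10, 10, 4, 4, 6, 5, 7])) (.node 71 (.leaf 52 5 [4, 6, 5, 7, 5, 5, 10, 9, 11, 8, 5, 6, 5, 7, 4]) (.node 72 (.leaf 53 5 [6, 5, 7, 7, 7, 4, 11, 11, 9, 10, 5, 6, 5, 7, 4]) (.leaf 9 11 [6, 5, 6, 5, 6, 5, 6, 5, 6, 5, 6, 5]))))) (.node 78 (.node 75 (.node 74 (.leaf 6 4 [7, 7, 7, 7, 7, 7]) (.leaf 54 5 [6, 4, 6, 5, 5, 6, 8, 11, 11, 8, 7, 7, 4, 6, 4])) (.node 76 (.leaf 7 6 [4, 6, 4, 6, 4, 6, 4, 6, 4, 6, 4, 6]) (.node 77 (.leaf 55 5 [6, 6, 4, 6, 6, 5, 8, 11, 8, 10, 4, 7, 7, 5, 6]) (.leaf 56 5 [4, 6, 5, 6, 4, 6, 8, 10, 10, 10, 10, 4, 6, 5, 7, 7]))))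 (.node 81 (.node 79 (.leaf 57 5 [4, 7, 4, 6, 4, 7, 10, 9, 11, 8, 5, 5, 5, 5, 6]) (.node 80 (.leaf 3 8 [4, 4, 4, 4, 4, 4, 4, 4, 4, 4]) (.leaf 25 11 [9, 5, 6, 5, 6, 4, 4, 6, 6, 5, 5, 11]))) (.node 82 (.leaf 58 5 [6, 5, 6, 5, 7, 7, 11, 11, 11, 11, 11, 7, 4, 4, 4, 4]) (.node 83 (.leaf 59 5 [4, 6, 6, 4, 7, 7, 8, 10, 9, 11, 11, 9, 4, 7, 5, 7, 4]) (.leaf 3 2 [4, 4, 4, 4, 4, 4, 4, 4, 4, 4])))))))) (.node 126 (.node 105 (.node 94 (.node 89 (.node 86 (.node 85 (.leaf 8 1 [7, 4, 7, 4, 7, 4, 7, 4, 7, 4, 7, 4]) (.leaf 60 5 [6, 4, 7, 5, 5, 7, 8, 10, 9, 10, 9, 11, 11, 5, 7, 7, 5, 5])) (.node 87 (.leaf 61 5 [4, 6, 5, 5, 7, 5, 11, 8, 10, 10, 5, 6, 6, 4, 4]) (.node 88 (.leaf 62 5 [6, 6, 6, 4, 4, 4, 8, 11, 8, 11, 11, 5, 7, 5, 6,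 5]) (.leaf 5 5 [6, 6, 6, 6, 6, 6])))) (.node 91 (.node 90 (.leaf 40 12 [11, 11, 4, 6, 4, 6, 4, 4, 4, 4, 7, 4, 10, 9]) (.leaf 63 5 [6, 6, 5, 6, 5, 6, 11, 11, 6, 6, 6, 4, 6])) (.node 92 (.leaf 63 12 [11, 6, 6, 6, 4, 6, 6, 6, 5, 6, 5, 6, 11]) (.node 93 (.leaf 64 5 [4, 7, 4, 6, 6, 5, 11, 9, 10, 5, 5, 6, 5, 6]) (.leaf 65 5 [4, 4, 4, 6, 5, 7, 9, 10, 6, 4, 4, 6, 4]))))) (.node 99 (.node 96 (.node 95 (.leaf 65 12 [10, 6, 4, 4, 6, 4, 4, 4, 4, 6, 5, 7, 9]) (.leaf 65 11 [9, 10, 6, 4, 4, 6, 4, 4, 4, 4, 6, 5, 7])) (.node 97 (.leaf 65 6 [4, 4, 6, 5, 7, 9, 10, 6, 4, 4, 6, 4, 4]) (.node 98 (.leaf 66 5 [6, 4, 7, 5, 5, 5, 9, 10, 6, 4, 4, 6, 4]) (.leaf 66 11 [9, 10, 6, 4, 4, 6, 4, 6, 4, 7, 5, 5, 5])))) (.node 102 (.node 100 (.leaf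 7 5 [6, 4, 6, 4, 6, 4, 6, 4, 6, 4, 6, 4]) (.node 101 (.leaf 65 9 [5, 7, 9, 10, 6, 4, 4, 6, 4, 4, 4, 4, 6]) (.leaf 1 5 [5, 7, 9, 6, 6, 4, 4, 7]))) (.node 103 (.leaf 7 8 [4, 6, 4, 6, 4, 6, 4, 6, 4, 6, 4, 6]) (.node 104 (.leaf 1 2 [4, 4, 7, 5, 7, 9, 6, 6]) (.leaf 9 9 [6, 5, 6, 5, 6, 5, 6, 5, 6, 5, 6, 5])))))) (.node 115 (.node 110 (.node 107 (.node 106 (.leaf 25 10 [11, 9, 5, 6, 5, 6, 4, 4, 6, 6, 5, 5]) (.leaf 63 11 [11, 11, 6, 6, 6, 4, 6, 6, 6, 5, 6, 5, 6])) (.node 108 (.leaf 27 0 [7, 4, 7, 4, 6, 4, 4, 7, 5, 6, 11, 11, 9]) (.node 109 (.leaf 64 11 [11, 9, 10, 5, 5, 6, 5, 6, 4, 7, 4, 6, 6, 5]) (.leaf 6 1 [7, 7, 7, 7, 7, 7])))) (.node 112 (.node 111 (.leaf 67 5 [4, 6, 5, 7, 5, 6, 10, 8, 11, 6, 4, 4, 4, 6]) (.leaf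 66 10 [5, 9, 10, 6, 4, 4, 6, 4, 6, 4, 7, 5, 5])) (.node 113 (.leaf 68 5 [4, 6, 4, 6, 6, 4, 8, 10, 10, 9, 6, 4, 6, 6, 6]) (.node 114 (.leaf 69 5 [4, 6, 6, 5, 5, 6, 11, 8, 10, 10, 8, 5, 5, 5, 6, 6]) (.leaf 27 12 [9, 7, 4, 7, 4, 6, 4, 4, 7, 5, 6, 11, 11]))))) (.node 120 (.node 117 (.node 116 (.leaf 37 0 [4, 6, 5, 5, 6, 6, 5, 5, 5, 6, 8, 10, 10, 9]) (.leaf 70 5 [6, 5, 6, 5, 5, 6, 10, 10, 8, 5, 5, 6, 5, 5])) (.node 118 (.leaf 8 9 [7, 4, 7, 4, 7, 4, 7, 4, 7, 4, 7, 4]) (.node 119 (.leaf 15 9 [11, 11, 9, 10, 5, 7, 5, 7, 4, 6, 5, 7, 4]) (.leaf 44 10 [11, 11, 11, 4, 4, 4, 7, 4, 6, 4, 6, 4, 7])))) (.node 123 (.node 121 (.leaf 53 4 [4, 6, 5, 7, 7, 7, 4, 11, 11, 9, 10, 5, 6, 5, 7]) (.node 122 (.leaf 50 2 [4, 7, 5, 6, 4, 7,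 7, 7, 4, 11, 8, 10, 10, 5, 7]) (.leaf 61 9 [7, 5, 11, 8, 10, 10, 5, 6, 6, 4, 4, 4, 6, 5, 5]))) (.node 124 (.leaf 2 6 [5, 7, 11, 5, 7, 7, 5, 6, 5]) (.node 125 (.leaf 16 9 [10, 10, 10, 9, 6, 6, 5, 6, 6, 5, 5, 7, 4]) (.leaf 70 8 [5, 5, 6, 10, 10, 8, 5, 5, 6, 5, 5, 6, 5, 6]))))))) (.node 147 (.node 136 (.node 131 (.node 128 (.node 127 (.leaf 9 0 [5, 6, 5, 6, 5, 6, 5, 6, 5, 6, 5, 6]) (.leaf 54 14 [8, 7, 7, 4, 6, 4, 6, 4, 6, 5, 5, 6, 8, 11, 11])) (.node 129 (.leaf 9 2 [5, 6, 5, 6, 5, 6, 5, 6, 5, 6, 5, 6]) (.node 130 (.leaf 70 11 [10, 10, 8, 5, 5, 6, 5, 5, 6, 5, 6, 5, 5, 6]) (.leaf 25 9 [5, 11, 9, 5, 6, 5, 6, 4, 4, 6, 6, 5])))) (.node 133 (.node 132 (.leaf 3 9 [4, 4, 4, 4, 4, 4, 4, 4, 4, 4]) (.leaf 65 7 [4, 6, 5, 7,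 9, 10, 6, 4, 4, 6, 4, 4, 4])) (.node 134 (.leaf 2 2 [7, 5, 6, 5, 5, 7, 11, 5, 7]) (.node 135 (.leaf 32 10 [9, 10, 8, 11, 7, 7, 4, 7, 4, 6, 4, 6, 6, 5]) (.leaf 37 12 [10, 9, 4, 6, 5, 5, 6, 6, 5, 5, 5, 6, 8, 10]))))) (.node 141 (.node 138 (.node 137 (.leaf 16 1 [6, 5, 6, 6, 5, 5, 7, 4, 10, 10, 10, 9, 6]) (.leaf 1 4 [7, 5, 7, 9, 6, 6, 4, 4])) (.node 139 (.leaf 66 9 [5, 5, 9, 10, 6, 4, 4, 6, 4, 6, 4, 7, 5]) (.node 140 (.leaf 1 1 [6, 4, 4, 7, 5, 7, 9, 6]) (.leaf 68 11 [8, 10, 10, 9, 6, 4, 6, 6, 6, 4, 6, 4, 6, 6, 4])))) (.node 144 (.node 142 (.leaf 33 11 [9, 10, 10, 6, 6, 5, 7, 4, 6, 4, 4, 6, 4, 10]) (.node 143 (.leaf 39 10 [10, 9, 10, 9, 6, 5, 7, 5, 6, 6, 4, 6, 5, 6]) (.leaf 21 11 [9, 11, 11, 5, 6, 5, 5, 6, 6, 4,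 6, 5, 8, 10]))) (.node 145 (.leaf 40 13 [11, 4, 6, 4, 6, 4, 4, 4, 4, 7, 4, 10, 9, 11]) (.node 146 (.leaf 41 6 [6, 6, 4, 4, 10, 10, 8, 11, 9, 5, 7, 5, 6, 4, 4]) (.leaf 1 0 [6, 6, 4, 4, 7, 5, 7, 9])))))) (.node 157 (.node 152 (.node 149 (.node 148 (.leaf 25 8 [5, 5, 11, 9, 5, 6, 5, 6, 4, 4, 6, 6]) (.leaf 47 9 [6, 8, 11, 11, 8, 11, 4, 4, 4, 4, 6, 4, 4, 6, 5])) (.node 150 (.leaf 35 12 [8, 10, 10, 9, 7, 5, 7, 5, 6, 5, 7, 5, 7, 7, 8, 11]) (.node 151 (.leaf 47 0 [4, 4, 4, 4, 6, 4, 4, 6, 5, 6, 8, 11, 11, 8, 11]) (.leaf 50 7 [7, 7, 7, 4, 11, 8, 10, 10, 5, 7, 4, 7, 5, 6, 4])))) (.node 154 (.node 153 (.leaf 58 15 [11, 7, 4, 4, 4, 4, 6, 5, 6, 5, 7, 7, 11, 11, 11, 11]) (.leaf 68 2 [6, 6, 6, 4, 6, 4, 6, 6, 4, 8, 10, 10, 9,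 6, 4])) (.node 155 (.leaf 52 6 [6, 5, 7, 5, 5, 10, 9, 11, 8, 5, 6, 5, 7, 4, 4]) (.node 156 (.leaf 9 5 [6, 5, 6, 5, 6, 5, 6, 5, 6, 5, 6, 5]) (.leaf 7 10 [4, 6, 4, 6, 4, 6, 4, 6, 4, 6, 4, 6]))))) (.node 162 (.node 159 (.node 158 (.leaf 2 5 [5, 5, 7, 11, 5, 7, 7, 5, 6]) (.leaf 37 2 [5, 5, 6, 6, 5, 5, 5, 6, 8, 10, 10, 9, 4, 6])) (.node 160 (.leaf 68 8 [6, 6, 4, 8, 10, 10, 9, 6, 4, 6, 6, 6, 4, 6, 4]) (.node 161 (.leaf 28 6 [6, 5, 6, 6, 9, 11, 11, 9, 10, 6, 5, 6, 6, 4, 6]) (.leaf 42 2 [6, 4, 4, 4, 6, 4, 6, 5, 9, 11, 11, 9, 7, 4])))) (.node 165 (.node 163 (.leaf 6 5 [7, 7, 7, 7, 7, 7]) (.node 164 (.leaf 70 13 [8, 5, 5, 6, 5, 5, 6, 5, 6, 5, 5, 6, 10, 10]) (.leaf 15 12 [10, 5, 7, 5, 7, 4, 6, 5, 7, 4, 11, 11, 9]))) (.node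 166 (.leaf 32 12 [8, 11, 7, 7, 4, 7, 4, 6, 4, 6, 6, 5, 9, 10]) (.node 167 (.leaf 67 11 [10, 8, 11, 6, 4, 4, 4, 6, 4, 6, 5, 7, 5, 6]) (.leaf 8 5 [7, 4, 7, 4, 7, 4, 7, 4, 7, 4, 7, 4]))))))))) (.node 252 (.node 210 (.node 189 (.node 178 (.node 173 (.node 170 (.node 169 (.leaf 29 14 [11, 7, 4, 6, 5, 6, 4, 4, 7, 7, 4, 8, 10, 10, 8]) (.leaf 65 4 [4, 4, 4, 4, 6, 5, 7, 9, 10, 6, 4, 4, 6])) (.node 171 (.leaf 17 9 [10, 10, 10, 10, 9, 7, 5, 5, 5, 6, 4, 6, 4, 6]) (.node 172 (.leaf 22 7 [7, 5, 8, 11, 11, 11, 5, 7, 4, 4, 4, 4, 7]) (.leaf 21 12 [11, 11, 5, 6, 5, 5, 6, 6, 4, 6, 5, 8, 10, 9])))) (.node 175 (.node 174 (.leaf 66 12 [10, 6, 4, 4, 6, 4, 6, 4, 7, 5, 5, 5, 9]) (.leaf 33 3 [7, 4, 6, 4, 4, 6, 4, 10, 9, 10, 10, 6, 6,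 5])) (.node 176 (.leaf 45 4 [4, 6, 4, 4, 4, 7, 10, 9, 11, 8, 10, 6, 4, 7, 7]) (.node 177 (.leaf 61 11 [11, 8, 10, 10, 5, 6, 6, 4, 4, 4, 6, 5, 5, 7, 5]) (.leaf 44 12 [11, 4, 4, 4, 7, 4, 6, 4, 6, 4, 7, 11, 11]))))) (.node 183 (.node 180 (.node 179 (.leaf 70 12 [10, 8, 5, 5, 6, 5, 5, 6, 5, 6, 5, 5, 6, 10]) (.leaf 64 12 [9, 10, 5, 5, 6, 5, 6, 4, 7, 4, 6, 6, 5, 11])) (.node 181 (.leaf 51 4 [7, 4, 4, 6, 4, 6, 4, 11, 8, 10, 10, 4, 4, 6, 5]) (.node 182 (.leaf 30 2 [5, 5, 6, 4, 6, 4, 7, 5, 9, 10, 10, 10, 6, 6]) (.leaf 56 11 [8, 10, 10, 10, 10, 4, 6, 5, 7, 7, 4, 6, 5, 6, 4, 6])))) (.node 186 (.node 184 (.leaf 40 1 [6, 4, 6, 4, 4, 4, 4, 7, 4, 10, 9, 11, 11, 4]) (.node 185 (.leaf 54 13 [11, 8, 7, 7, 4, 6, 4, 6, 4, 6, 5,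 5, 6, 8, 11]) (.leaf 23 12 [8, 7, 5, 7, 4, 4, 7, 7, 4, 7, 9, 10, 10]))) (.node 187 (.leaf 23 9 [9, 10, 10, 8, 7, 5, 7, 4, 4, 7, 7, 4, 7]) (.node 188 (.leaf 22 9 [8, 11, 11, 11, 5, 7, 4, 4, 4, 4, 7, 7, 5]) (.leaf 54 4 [4, 6, 4, 6, 5, 5, 6, 8, 11, 11, 8, 7, 7, 4, 6])))))) (.node 199 (.node 194 (.node 191 (.node 190 (.leaf 58 7 [6, 5, 7, 7, 11, 11, 11, 11, 11, 7, 4, 4, 4, 4, 6, 5]) (.leaf 54 12 [11, 11, 8, 7, 7, 4, 6, 4, 6, 4, 6, 5, 5, 6, 8])) (.node 192 (.leaf 41 3 [6, 4, 4, 6, 6, 4, 4, 10, 10, 8, 11, 9, 5, 7, 5]) (.node 193 (.leaf 44 4 [4, 6, 4, 6, 4, 7, 11, 11, 11, 4, 4, 4, 7]) (.leaf 54 1 [7, 4, 6, 4, 6, 4, 6, 5, 5, 6, 8, 11, 11, 8, 7])))) (.node 196 (.node 195 (.leaf 16 3 [6, 6, 5, 5, 7, 4, 10, 10, 10, 9, 6,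 6, 5]) (.leaf 38 14 [11, 4, 7, 7, 4, 4, 7, 5, 5, 6, 5, 11, 11, 11, 8])) (.node 197 (.leaf 40 10 [10, 9, 11, 11, 4, 6, 4, 6, 4, 4, 4, 4, 7, 4]) (.node 198 (.leaf 17 13 [9, 7, 5, 5, 5, 6, 4, 6, 4, 6, 10, 10, 10, 10]) (.leaf 30 10 [9, 10, 10, 10, 6, 6, 5, 5, 6, 4, 6, 4, 7, 5]))))) (.node 204 (.node 201 (.node 200 (.leaf 33 10 [10, 9, 10, 10, 6, 6, 5, 7, 4, 6, 4, 4, 6, 4]) (.leaf 51 11 [11, 8, 10, 10, 4, 4, 6, 5, 7, 4, 4, 6, 4, 6, 4])) (.node 202 (.leaf 2 3 [5, 6, 5, 5, 7, 11, 5, 7, 7]) (.node 203 (.leaf 15 5 [6, 5, 7, 4, 11, 11, 9, 10, 5, 7, 5, 7, 4]) (.leaf 8 4 [4, 7, 4, 7, 4, 7, 4, 7, 4, 7, 4, 7])))) (.node 207 (.node 205 (.leaf 15 0 [5, 7, 5, 7, 4, 6, 5, 7, 4, 11, 11, 9, 10]) (.node 206 (.leaf 67 3 [4, 6, 4,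 6, 5, 7, 5, 6, 10, 8, 11, 6, 4, 4]) (.leaf 23 1 [5, 7, 4, 4, 7, 7, 4, 7, 9, 10, 10, 8, 7]))) (.node 208 (.leaf 70 10 [6, 10, 10, 8, 5, 5, 6, 5, 5, 6, 5, 6, 5, 5]) (.node 209 (.leaf 61 12 [8, 10, 10, 5, 6, 6, 4, 4, 4, 6, 5, 5, 7, 5, 11]) (.leaf 18 2 [5, 7, 4, 7, 4, 4, 4, 8, 11, 11, 8, 11, 7, 5]))))))) (.node 231 (.node 220 (.node 215 (.node 212 (.node 211 (.leaf 21 3 [5, 6, 6, 4, 6, 5, 8, 10, 9, 11, 11, 5, 6, 5]) (.leaf 38 10 [11, 11, 11, 8, 11, 4, 7, 7, 4, 4, 7, 5, 5, 6, 5])) (.node 213 (.leaf 33 9 [4, 10, 9, 10, 10, 6, 6, 5, 7, 4, 6, 4, 4, 6]) (.node 214 (.leaf 50 8 [7, 7, 4, 11, 8, 10, 10, 5, 7, 4, 7, 5, 6, 4, 7]) (.leaf 10 4 [5, 7, 5, 7, 5, 7, 5, 7, 5, 7, 5, 7])))) (.node 217 (.node 216 (.leaf 9 1 [6, 5, 6,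 5, 6, 5, 6, 5, 6, 5, 6, 5]) (.leaf 52 14 [8, 5, 6, 5, 7, 4, 4, 6, 5, 7, 5, 5, 10, 9, 11])) (.node 218 (.leaf 16 6 [5, 7, 4, 10, 10, 10, 9, 6, 6, 5, 6, 6, 5]) (.node 219 (.leaf 13 6 [4, 6, 11, 8, 10, 10, 8, 4, 6, 6, 5, 6, 6]) (.leaf 46 4 [7, 4, 6, 4, 4, 7, 8, 10, 9, 10, 10, 5, 6, 5, 5]))))) (.node 225 (.node 222 (.node 221 (.leaf 64 6 [7, 4, 6, 6, 5, 11, 9, 10, 5, 5, 6, 5, 6, 4]) (.leaf 54 2 [4, 6, 4, 6, 4, 6, 5, 5, 6, 8, 11, 11, 8, 7, 7])) (.node 223 (.leaf 50 9 [7, 4, 11, 8, 10, 10, 5, 7, 4, 7, 5, 6, 4, 7, 7]) (.node 224 (.leaf 46 3 [5, 7, 4, 6, 4, 4, 7, 8, 10, 9, 10, 10, 5, 6, 5]) (.leaf 49 2 [7, 5, 6, 6, 5, 6, 4, 7, 8, 10, 9, 10, 8, 5, 5])))) (.node 228 (.node 226 (.leaf 65 1 [4, 4, 6, 4, 4, 4, 4, 6, 5, 7,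 9, 10, 6]) (.node 227 (.leaf 3 1 [4, 4, 4, 4, 4, 4, 4, 4, 4, 4]) (.leaf 48 10 [8, 11, 11, 11, 8, 11, 7, 4, 7, 5, 6, 4, 4, 4, 6, 6]))) (.node 229 (.leaf 63 10 [6, 11, 11, 6, 6, 6, 4, 6, 6, 6, 5, 6, 5]) (.node 230 (.leaf 23 0 [7, 5, 7, 4, 4, 7, 7, 4, 7, 9, 10, 10, 8]) (.leaf 49 4 [6, 6, 5, 6, 4, 7, 8, 10, 9, 10, 8, 5, 5, 7, 5])))))) (.node 241 (.node 236 (.node 233 (.node 232 (.leaf 16 10 [10, 10, 9, 6, 6, 5, 6, 6, 5, 5, 7, 4, 10]) (.leaf 39 7 [6, 5, 6, 10, 9, 10, 9, 6, 5, 7, 5, 6, 6, 4])) (.node 234 (.leaf 62 0 [5, 7, 5, 6, 5, 6, 6, 6, 4, 4, 4, 8, 11, 8, 11, 11]) (.node 235 (.leaf 57 11 [10, 9, 11, 8, 5, 5, 5, 5, 6, 4, 7, 4, 6, 4, 7]) (.leaf 57 14 [8, 5, 5, 5, 5, 6, 4, 7, 4, 6, 4, 7, 10, 9, 11])))) (.node 238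 (.node 237 (.leaf 66 2 [4, 6, 4, 6, 4, 7, 5, 5, 5, 9, 10, 6, 4]) (.leaf 67 9 [5, 6, 10, 8, 11, 6, 4, 4, 4, 6, 4, 6, 5, 7])) (.node 239 (.leaf 14 9 [10, 10, 9, 10, 9, 5, 5, 7, 4, 6, 6, 5, 7, 5]) (.node 240 (.leaf 33 1 [6, 5, 7, 4, 6, 4, 4, 6, 4, 10, 9, 10, 10, 6]) (.leaf 43 14 [11, 7, 4, 6, 4, 6, 6, 5, 7, 7, 4, 9, 11, 11, 8]))))) (.node 246 (.node 243 (.node 242 (.leaf 57 1 [5, 5, 5, 6, 4, 7, 4, 6, 4, 7, 10, 9, 11, 8, 5]) (.leaf 41 0 [5, 7, 5, 6, 4, 4, 6, 6, 4, 4, 10, 10, 8, 11, 9])) (.node 244 (.leaf 52 3 [7, 4, 4, 6, 5, 7, 5, 5, 10, 9, 11, 8, 5, 6, 5]) (.node 245 (.leaf 49 14 [8, 5, 5, 7, 5, 6, 6, 5, 6, 4, 7, 8, 10, 9, 10]) (.leaf 62 11 [8, 11, 8, 11, 11, 5, 7, 5, 6, 5, 6, 6, 6, 4, 4, 4])))) (.node 249 (.node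 247 (.leaf 68 4 [6, 4, 6, 4, 6, 6, 4, 8, 10, 10, 9, 6, 4, 6, 6]) (.node 248 (.leaf 19 3 [6, 6, 5, 5, 6, 6, 8, 11, 8, 11, 9, 4, 6, 4]) (.leaf 33 6 [4, 4, 6, 4, 10, 9, 10, 10, 6, 6, 5, 7, 4, 6]))) (.node 250 (.leaf 24 2 [7, 4, 6, 5, 7, 4, 7, 8, 10, 9, 10, 9, 11, 11, 5, 7]) (.node 251 (.leaf 31 13 [10, 10, 10, 4, 4, 7, 7, 4, 7, 4, 6, 5, 5, 9, 11, 8]) (.leaf 56 4 [7, 4, 6, 5, 6, 4, 6, 8, 10, 10, 10, 10, 4, 6, 5, 7])))))))) (.node 294 (.node 273 (.node 262 (.node 257 (.node 254 (.node 253 (.leaf 19 13 [9, 4, 6, 4, 6, 6, 5, 5, 6, 6, 8, 11, 8, 11]) (.leaf 32 7 [6, 6, 5, 9, 10, 8, 11, 7, 7, 4, 7, 4, 6, 4])) (.node 255 (.leaf 38 8 [6, 5, 11, 11, 11, 8, 11, 4, 7, 7, 4, 4, 7, 5, 5]) (.node 256 (.leaf 40 3 [6, 4, 4, 4, 4,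 7, 4, 10, 9, 11, 11, 4, 6, 4]) (.leaf 44 2 [4, 7, 4, 6, 4, 6, 4, 7, 11, 11, 11, 4, 4])))) (.node 259 (.node 258 (.leaf 48 3 [5, 6, 4, 4, 4, 6, 6, 8, 11, 11, 11, 8, 11, 7, 4, 7]) (.leaf 62 2 [5, 6, 5, 6, 6, 6, 4, 4, 4, 8, 11, 8, 11, 11, 5, 7])) (.node 260 (.leaf 63 9 [5, 6, 11, 11, 6, 6, 6, 4, 6, 6, 6, 5, 6]) (.node 261 (.leaf 7 3 [6, 4, 6, 4, 6, 4, 6, 4, 6, 4, 6, 4]) (.leaf 16 2 [5, 6, 6, 5, 5, 7, 4, 10, 10, 10, 9, 6, 6]))))) (.node 267 (.node 264 (.node 263 (.leaf 33 13 [10, 6, 6, 5, 7, 4, 6, 4, 4, 6, 4, 10, 9, 10]) (.leaf 54 9 [5, 6, 8, 11, 11, 8, 7, 7, 4, 6, 4, 6, 4, 6, 5])) (.node 265 (.leaf 63 6 [6, 5, 6, 5, 6, 11, 11, 6, 6, 6, 4, 6, 6]) (.node 266 (.leaf 38 0 [4, 7, 7, 4, 4, 7, 5, 5, 6, 5, 11, 11, 11, 8,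 11]) (.leaf 47 6 [4, 6, 5, 6, 8, 11, 11, 8, 11, 4, 4, 4, 4, 6, 4])))) (.node 270 (.node 268 (.leaf 63 7 [5, 6, 5, 6, 11, 11, 6, 6, 6, 4, 6, 6, 6]) (.node 269 (.leaf 63 1 [6, 6, 4, 6, 6, 6, 5, 6, 5, 6, 11, 11, 6]) (.leaf 47 10 [8, 11, 11, 8, 11, 4, 4, 4, 4, 6, 4, 4, 6, 5, 6]))) (.node 271 (.leaf 49 10 [8, 10, 9, 10, 8, 5, 5, 7, 5, 6, 6, 5, 6, 4, 7]) (.node 272 (.leaf 68 12 [10, 10, 9, 6, 4, 6, 6, 6, 4, 6, 4, 6, 6, 4, 8]) (.leaf 25 5 [4, 6, 6, 5, 5, 11, 9, 5, 6, 5, 6, 4])))))) (.node 283 (.node 278 (.node 275 (.node 274 (.leaf 50 6 [4, 7, 7, 7, 4, 11, 8, 10, 10, 5, 7, 4, 7, 5, 6]) (.leaf 51 3 [5, 7, 4, 4, 6, 4, 6, 4, 11, 8, 10, 10, 4, 4, 6])) (.node 276 (.leaf 52 4 [4, 4, 6, 5, 7, 5, 5, 10, 9, 11, 8, 5, 6, 5, 7])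 (.node 277 (.leaf 59 11 [8, 10, 9, 11, 11, 9, 4, 7, 5, 7, 4, 4, 6, 6, 4, 7, 7]) (.leaf 48 8 [6, 6, 8, 11, 11, 11, 8, 11, 7, 4, 7, 5, 6, 4, 4, 4])))) (.node 280 (.node 279 (.leaf 39 9 [6, 10, 9, 10, 9, 6, 5, 7, 5, 6, 6, 4, 6, 5]) (.leaf 48 1 [4, 7, 5, 6, 4, 4, 4, 6, 6, 8, 11, 11, 11, 8, 11, 7])) (.node 281 (.leaf 67 4 [6, 4, 6, 5, 7, 5, 6, 10, 8, 11, 6, 4, 4, 4]) (.node 282 (.leaf 64 7 [4, 6, 6, 5, 11, 9, 10, 5, 5, 6, 5, 6, 4, 7]) (.leaf 13 3 [5, 6, 6, 4, 6, 11, 8, 10, 10, 8, 4, 6, 6]))))) (.node 288 (.node 285 (.node 284 (.leaf 29 7 [7, 7, 4, 8, 10, 10, 8, 11, 7, 4, 6, 5, 6, 4, 4]) (.leaf 48 15 [11, 7, 4, 7, 5, 6, 4, 4, 4, 6, 6, 8, 11, 11, 11, 8])) (.node 286 (.leaf 58 1 [4, 4, 4, 4, 6, 5, 6, 5, 7, 7, 11, 11,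 11, 11, 11, 7]) (.node 287 (.leaf 63 4 [6, 6, 6, 5, 6, 5, 6, 11, 11, 6, 6, 6, 4]) (.leaf 65 2 [4, 6, 4, 4, 4, 4, 6, 5, 7, 9, 10, 6, 4])))) (.node 291 (.node 289 (.leaf 55 14 [10, 4, 7, 7, 5, 6, 6, 6, 4, 6, 6, 5, 8, 11, 8]) (.node 290 (.leaf 67 8 [7, 5, 6, 10, 8, 11, 6, 4, 4, 4, 6, 4, 6, 5]) (.leaf 57 7 [4, 6, 4, 7, 10, 9, 11, 8, 5, 5, 5, 5, 6, 4, 7]))) (.node 292 (.leaf 53 3 [7, 4, 6, 5, 7, 7, 7, 4, 11, 11, 9, 10, 5, 6, 5]) (.node 293 (.leaf 28 9 [6, 9, 11, 11, 9, 10, 6, 5, 6, 6, 4, 6, 6, 5, 6]) (.leaf 18 13 [11, 7, 5, 5, 7, 4, 7, 4, 4, 4, 8, 11, 11, 8]))))))) (.node 315 (.node 304 (.node 299 (.node 296 (.node 295 (.leaf 27 7 [7, 5, 6, 11, 11, 9, 7, 4, 7, 4, 6, 4, 4]) (.leaf 36 15 [10, 7, 4, 6, 4, 7, 4, 7, 7,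 4, 6, 8, 11, 8, 11, 8])) (.node 297 (.leaf 43 2 [6, 4, 6, 6, 5, 7, 7, 4, 9, 11, 11, 8, 11, 7, 4]) (.node 298 (.leaf 44 7 [6, 4, 7, 11, 11, 11, 4, 4, 4, 7, 4, 6, 4]) (.leaf 34 14 [8, 11, 7, 4, 4, 7, 7, 4, 7, 5, 6, 6, 8, 11, 9, 10])))) (.node 301 (.node 300 (.leaf 38 13 [8, 11, 4, 7, 7, 4, 4, 7, 5, 5, 6, 5, 11, 11, 11]) (.leaf 42 13 [9, 7, 4, 6, 4, 4, 4, 6, 4, 6, 5, 9, 11, 11])) (.node 302 (.leaf 43 3 [4, 6, 6, 5, 7, 7, 4, 9, 11, 11, 8, 11, 7, 4, 6]) (.node 303 (.leaf 48 7 [4, 6, 6, 8, 11, 11, 11, 8, 11, 7, 4, 7, 5, 6, 4, 4]) (.leaf 54 10 [6, 8, 11, 11, 8, 7, 7, 4, 6, 4, 6, 4, 6, 5, 5]))))) (.node 309 (.node 306 (.node 305 (.leaf 63 0 [6, 6, 6, 4, 6, 6, 6, 5, 6, 5, 6, 11, 11]) (.leaf 13 8 [11, 8, 10, 10, 8, 4,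 6, 6, 5, 6, 6, 4, 6])) (.node 307 (.leaf 30 7 [4, 7, 5, 9, 10, 10, 10, 6, 6, 5, 5, 6, 4, 6]) (.node 308 (.leaf 35 10 [8, 11, 8, 10, 10, 9, 7, 5, 7, 5, 6, 5, 7, 5, 7, 7]) (.leaf 36 11 [11, 8, 11, 8, 10, 7, 4, 6, 4, 7, 4, 7, 7, 4, 6, 8])))) (.node 312 (.node 310 (.leaf 37 3 [5, 6, 6, 5, 5, 5, 6, 8, 10, 10, 9, 4, 6, 5]) (.node 311 (.leaf 57 4 [6, 4, 7, 4, 6, 4, 7, 10, 9, 11, 8, 5, 5, 5, 5]) (.leaf 61 8 [5, 7, 5, 11, 8, 10, 10, 5, 6, 6, 4, 4, 4, 6, 5]))) (.node 313 (.leaf 69 3 [6, 6, 4, 6, 6, 5, 5, 6, 11, 8, 10, 10, 8, 5, 5, 5]) (.node 314 (.leaf 10 3 [7, 5, 7, 5, 7, 5, 7, 5, 7, 5, 7, 5]) (.leaf 39 13 [9, 6, 5, 7, 5, 6, 6, 4, 6, 5, 6, 10, 9, 10])))))) (.node 325 (.node 320 (.node 317 (.node 316 (.leaf 20 2 [7, 4,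 6, 4, 6, 4, 4, 8, 11, 8, 10, 10, 10, 4, 4]) (.leaf 29 9 [4, 8, 10, 10, 8, 11, 7, 4, 6, 5, 6, 4, 4, 7, 7])) (.node 318 (.leaf 43 10 [9, 11, 11, 8, 11, 7, 4, 6, 4, 6, 6, 5, 7, 7, 4]) (.node 319 (.leaf 25 6 [6, 6, 5, 5, 11, 9, 5, 6, 5, 6, 4, 4]) (.leaf 34 4 [7, 4, 7, 5, 6, 6, 8, 11, 9, 10, 8, 11, 7, 4, 4, 7])))) (.node 322 (.node 321 (.leaf 14 13 [9, 5, 5, 7, 4, 6, 6, 5, 7, 5, 10, 10, 9, 10]) (.leaf 40 6 [4, 4, 7, 4, 10, 9, 11, 11, 4, 6, 4, 6, 4, 4])) (.node 323 (.leaf 53 2 [5, 7, 4, 6, 5, 7, 7, 7, 4, 11, 11, 9, 10, 5, 6]) (.node 324 (.leaf 39 2 [7, 5, 6, 6, 4, 6, 5, 6, 10, 9, 10, 9, 6, 5]) (.leaf 66 6 [4, 7, 5, 5, 5, 9, 10, 6, 4, 4, 6, 4, 6]))))) (.node 330 (.node 327 (.node 326 (.leaf 27 10 [11, 11, 9, 7, 4, 7,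 4, 6, 4, 4, 7, 5, 6]) (.leaf 14 5 [6, 5, 7, 5, 10, 10, 9, 10, 9, 5, 5, 7, 4, 6])) (.node 328 (.leaf 52 2 [5, 7, 4, 4, 6, 5, 7, 5, 5, 10, 9, 11, 8, 5, 6]) (.node 329 (.leaf 52 8 [7, 5, 5, 10, 9, 11, 8, 5, 6, 5, 7, 4, 4, 6, 5]) (.leaf 50 14 [10, 5, 7, 4, 7, 5, 6, 4, 7, 7, 7, 4, 11, 8, 10])))) (.node 333 (.node 331 (.leaf 56 12 [10, 10, 10, 10, 4, 6, 5, 7, 7, 4, 6, 5, 6, 4, 6, 8]) (.node 332 (.leaf 69 15 [8, 5, 5, 5, 6, 6, 4, 6, 6, 5, 5, 6, 11, 8, 10, 10]) (.leaf 46 13 [10, 10, 5, 6, 5, 5, 7, 4, 6, 4, 4, 7, 8, 10, 9]))) (.node 334 (.leaf 49 3 [5, 6, 6, 5, 6, 4, 7, 8, 10, 9, 10, 8, 5, 5, 7]) (.node 335 (.leaf 16 12 [9, 6, 6, 5, 6, 6, 5, 5, 7, 4, 10, 10, 10]) (.leaf 62 8 [4, 4, 4, 8, 11, 8, 11, 11, 5, 7, 5, 6, 5,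 6, 6, 6])))))))))) (.node 504 (.node 420 (.node 378 (.node 357 (.node 346 (.node 341 (.node 338 (.node 337 (.leaf 4 2 [5, 5, 5, 5, 5, 5, 5, 5, 5, 5]) (.leaf 37 13 [9, 4, 6, 5, 5, 6, 6, 5, 5, 5, 6, 8, 10, 10])) (.node 339 (.leaf 61 2 [6, 4, 4, 4, 6, 5, 5, 7, 5, 11, 8, 10, 10, 5, 6]) (.node 340 (.leaf 19 0 [4, 6, 4, 6, 6, 5, 5, 6, 6, 8, 11, 8, 11, 9]) (.leaf 57 3 [5, 6, 4, 7, 4, 6, 4, 7, 10, 9, 11, 8, 5, 5, 5])))) (.node 343 (.node 342 (.leaf 10 8 [5, 7, 5, 7, 5, 7, 5, 7, 5, 7, 5, 7]) (.leaf 47 13 [8, 11, 4, 4, 4, 4, 6, 4, 4, 6, 5, 6, 8, 11, 11])) (.node 344 (.leaf 13 0 [4, 6, 6, 5, 6, 6, 4, 6, 11, 8, 10, 10, 8]) (.node 345 (.leaf 55 9 [6, 5, 8, 11, 8, 10, 4, 7, 7, 5, 6, 6, 6, 4, 6]) (.leaf 67 6 [6, 5, 7, 5, 6,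 10, 8, 11, 6, 4, 4, 4, 6, 4]))))) (.node 351 (.node 348 (.node 347 (.leaf 44 1 [4, 4, 7, 4, 6, 4, 6, 4, 7, 11, 11, 11, 4]) (.leaf 41 9 [4, 10, 10, 8, 11, 9, 5, 7, 5, 6, 4, 4, 6, 6, 4])) (.node 349 (.leaf 17 1 [5, 5, 5, 6, 4, 6, 4, 6, 10, 10, 10, 10, 9, 7]) (.node 350 (.leaf 53 14 [10, 5, 6, 5, 7, 4, 6, 5, 7, 7, 7, 4, 11, 11, 9]) (.leaf 10 10 [5, 7, 5, 7, 5, 7, 5, 7, 5, 7, 5, 7])))) (.node 354 (.node 352 (.leaf 22 12 [11, 5, 7, 4, 4, 4, 4, 7, 7, 5, 8, 11, 11]) (.node 353 (.leaf 39 8 [5, 6, 10, 9, 10, 9, 6, 5, 7, 5, 6, 6, 4, 6]) (.leaf 25 1 [6, 5, 6, 4, 4, 6, 6, 5, 5, 11, 9, 5]))) (.node 355 (.leaf 33 5 [6, 4, 4, 6, 4, 10, 9, 10, 10, 6, 6, 5, 7, 4]) (.node 356 (.leaf 42 11 [11, 11, 9, 7, 4, 6, 4, 4, 4, 6, 4, 6,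 5, 9]) (.leaf 21 7 [6, 5, 8, 10, 9, 11, 11, 5, 6, 5, 5, 6, 6, 4])))))) (.node 367 (.node 362 (.node 359 (.node 358 (.leaf 28 7 [5, 6, 6, 9, 11, 11, 9, 10, 6, 5, 6, 6, 4, 6, 6]) (.leaf 64 8 [6, 6, 5, 11, 9, 10, 5, 5, 6, 5, 6, 4, 7, 4])) (.node 360 (.leaf 23 6 [7, 4, 7, 9, 10, 10, 8, 7, 5, 7, 4, 4, 7]) (.node 361 (.leaf 36 7 [7, 4, 6, 8, 11, 8, 11, 8, 10, 7, 4, 6, 4, 7, 4, 7]) (.leaf 45 10 [10, 9, 11, 8, 10, 6, 4, 7, 7, 4, 6, 4, 4, 4, 7])))) (.node 364 (.node 363 (.leaf 61 7 [5, 5, 7, 5, 11, 8, 10, 10, 5, 6, 6, 4, 4, 4, 6]) (.leaf 69 8 [5, 5, 6, 11, 8, 10, 10, 8, 5, 5, 5, 6, 6, 4, 6, 6])) (.node 365 (.leaf 70 4 [5, 6, 5, 6, 5, 5, 6, 10, 10, 8, 5, 5, 6, 5]) (.node 366 (.leaf 15 11 [9, 10, 5, 7, 5, 7, 4, 6, 5, 7,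 4, 11, 11]) (.leaf 51 13 [10, 10, 4, 4, 6, 5, 7, 4, 4, 6, 4, 6, 4, 11, 8]))))) (.node 372 (.node 369 (.node 368 (.leaf 62 13 [8, 11, 11, 5, 7, 5, 6, 5, 6, 6, 6, 4, 4, 4, 8, 11]) (.leaf 14 0 [5, 5, 7, 4, 6, 6, 5, 7, 5, 10, 10, 9, 10, 9])) (.node 370 (.leaf 55 6 [6, 4, 6, 6, 5, 8, 11, 8, 10, 4, 7, 7, 5, 6, 6]) (.node 371 (.leaf 61 4 [4, 4, 6, 5, 5, 7, 5, 11, 8, 10, 10, 5, 6, 6, 4]) (.leaf 63 2 [6, 4, 6, 6, 6, 5, 6, 5, 6, 11, 11, 6, 6])))) (.node 375 (.node 373 (.leaf 63 3 [4, 6, 6, 6, 5, 6, 5, 6, 11, 11, 6, 6, 6]) (.node 374 (.leaf 6 2 [7, 7, 7, 7, 7, 7]) (.leaf 44 9 [7, 11, 11, 11, 4, 4, 4, 7, 4, 6, 4, 6, 4]))) (.node 376 (.leaf 44 0 [4, 4, 4, 7, 4, 6, 4, 6, 4, 7, 11, 11, 11]) (.node 377 (.leaf 55 13 [8, 10, 4,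 7, 7, 5, 6, 6, 6, 4, 6, 6, 5, 8, 11]) (.leaf 59 10 [7, 8, 10, 9, 11, 11, 9, 4, 7, 5, 7, 4, 4, 6, 6, 4, 7]))))))) (.node 399 (.node 388 (.node 383 (.node 380 (.node 379 (.leaf 53 11 [11, 11, 9, 10, 5, 6, 5, 7, 4, 6, 5, 7, 7, 7, 4]) (.leaf 50 4 [5, 6, 4, 7, 7, 7, 4, 11, 8, 10, 10, 5, 7, 4, 7])) (.node 381 (.leaf 9 3 [6, 5, 6, 5, 6, 5, 6, 5, 6, 5, 6, 5]) (.node 382 (.leaf 27 11 [11, 9, 7, 4, 7, 4, 6, 4, 4, 7, 5, 6, 11]) (.leaf 58 11 [11, 11, 11, 11, 11, 7, 4, 4, 4, 4, 6, 5, 6, 5, 7, 7])))) (.node 385 (.node 384 (.leaf 42 10 [9, 11, 11, 9, 7, 4, 6, 4, 4, 4, 6, 4, 6, 5]) (.leaf 68 3 [6, 6, 4, 6, 4, 6, 6, 4, 8, 10, 10, 9, 6, 4, 6])) (.node 386 (.leaf 14 7 [7, 5, 10, 10, 9, 10, 9, 5, 5, 7, 4, 6, 6, 5]) (.node 387 (.leaf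 14 10 [10, 9, 10, 9, 5, 5, 7, 4, 6, 6, 5, 7, 5, 10]) (.leaf 17 6 [6, 4, 6, 10, 10, 10, 10, 9, 7, 5, 5, 5, 6, 4]))))) (.node 393 (.node 390 (.node 389 (.leaf 33 2 [5, 7, 4, 6, 4, 4, 6, 4, 10, 9, 10, 10, 6, 6]) (.leaf 37 10 [8, 10, 10, 9, 4, 6, 5, 5, 6, 6, 5, 5, 5, 6])) (.node 391 (.leaf 50 11 [11, 8, 10, 10, 5, 7, 4, 7, 5, 6, 4, 7, 7, 7, 4]) (.node 392 (.leaf 60 8 [5, 5, 7, 8, 10, 9, 10, 9, 11, 11, 5, 7, 7, 5, 5, 6, 4, 7]) (.leaf 67 13 [11, 6, 4, 4, 4, 6, 4, 6, 5, 7, 5, 6, 10, 8])))) (.node 396 (.node 394 (.leaf 68 6 [6, 4, 6, 6, 4, 8, 10, 10, 9, 6, 4, 6, 6, 6, 4]) (.node 395 (.leaf 19 5 [5, 5, 6, 6, 8, 11, 8, 11, 9, 4, 6, 4, 6, 6]) (.leaf 22 3 [4, 4, 4, 7, 7, 5, 8, 11, 11, 11, 5, 7, 4]))) (.node 397 (.leaf 24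 10 [10, 9, 10, 9, 11, 11, 5, 7, 7, 4, 6, 5, 7, 4, 7, 8]) (.node 398 (.leaf 42 7 [4, 6, 5, 9, 11, 11, 9, 7, 4, 6, 4, 4, 4, 6]) (.leaf 43 7 [7, 7, 4, 9, 11, 11, 8, 11, 7, 4, 6, 4, 6, 6, 5])))))) (.node 409 (.node 404 (.node 401 (.node 400 (.leaf 10 7 [7, 5, 7, 5, 7, 5, 7, 5, 7, 5, 7, 5]) (.leaf 21 9 [8, 10, 9, 11, 11, 5, 6, 5, 5, 6, 6, 4, 6, 5])) (.node 402 (.leaf 64 1 [5, 6, 5, 6, 4, 7, 4, 6, 6, 5, 11, 9, 10, 5]) (.node 403 (.leaf 66 4 [4, 6, 4, 7, 5, 5, 5, 9, 10, 6, 4, 4, 6]) (.leaf 34 10 [8, 11, 9, 10, 8, 11, 7, 4, 4, 7, 7, 4, 7, 5, 6, 6])))) (.node 406 (.node 405 (.leaf 24 14 [11, 11, 5, 7, 7, 4, 6, 5, 7, 4, 7, 8, 10, 9, 10, 9]) (.leaf 29 10 [8, 10, 10, 8, 11, 7, 4, 6, 5, 6, 4, 4, 7, 7, 4])) (.node 407 (.leaf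 46 14 [10, 5, 6, 5, 5, 7, 4, 6, 4, 4, 7, 8, 10, 9, 10]) (.node 408 (.leaf 64 9 [6, 5, 11, 9, 10, 5, 5, 6, 5, 6, 4, 7, 4, 6]) (.leaf 21 2 [5, 5, 6, 6, 4, 6, 5, 8, 10, 9, 11, 11, 5, 6]))))) (.node 414 (.node 411 (.node 410 (.leaf 28 14 [10, 6, 5, 6, 6, 4, 6, 6, 5, 6, 6, 9, 11, 11, 9]) (.leaf 32 3 [7, 4, 6, 4, 6, 6, 5, 9, 10, 8, 11, 7, 7, 4])) (.node 412 (.leaf 35 14 [10, 9, 7, 5, 7, 5, 6, 5, 7, 5, 7, 7, 8, 11, 8, 10]) (.node 413 (.leaf 70 6 [5, 6, 5, 5, 6, 10, 10, 8, 5, 5, 6, 5, 5, 6]) (.leaf 30 13 [10, 6, 6, 5, 5, 6, 4, 6, 4, 7, 5, 9, 10, 10])))) (.node 417 (.node 415 (.leaf 41 10 [10, 10, 8, 11, 9, 5, 7, 5, 6, 4, 4, 6, 6, 4, 4]) (.node 416 (.leaf 16 7 [7, 4, 10, 10, 10, 9, 6, 6, 5, 6, 6, 5, 5]) (.leaf 17 0 [7,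 5, 5, 5, 6, 4, 6, 4, 6, 10, 10, 10, 10, 9]))) (.node 418 (.leaf 70 2 [6, 5, 5, 6, 5, 6, 5, 5, 6, 10, 10, 8, 5, 5]) (.node 419 (.leaf 51 9 [6, 4, 11, 8, 10, 10, 4, 4, 6, 5, 7, 4, 4, 6, 4]) (.leaf 53 1 [6, 5, 7, 4, 6, 5, 7, 7, 7, 4, 11, 11, 9, 10, 5])))))))) (.node 462 (.node 441 (.node 430 (.node 425 (.node 422 (.node 421 (.leaf 42 12 [11, 9, 7, 4, 6, 4, 4, 4, 6, 4, 6, 5, 9, 11]) (.leaf 39 4 [6, 6, 4, 6, 5, 6, 10, 9, 10, 9, 6, 5, 7, 5])) (.node 423 (.leaf 45 13 [8, 10, 6, 4, 7, 7, 4, 6, 4, 4, 4, 7, 10, 9, 11]) (.node 424 (.leaf 49 13 [10, 8, 5, 5, 7, 5, 6, 6, 5, 6, 4, 7, 8, 10, 9]) (.leaf 50 10 [4, 11, 8, 10, 10, 5, 7, 4, 7, 5, 6, 4, 7, 7, 7])))) (.node 427 (.node 426 (.leaf 51 8 [4, 6, 4, 11, 8, 10, 10, 4, 4,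 6, 5, 7, 4, 4, 6]) (.leaf 67 10 [6, 10, 8, 11, 6, 4, 4, 4, 6, 4, 6, 5, 7, 5])) (.node 428 (.leaf 19 9 [8, 11, 8, 11, 9, 4, 6, 4, 6, 6, 5, 5, 6, 6]) (.node 429 (.leaf 27 1 [4, 7, 4, 6, 4, 4, 7, 5, 6, 11, 11, 9, 7]) (.leaf 52 7 [5, 7, 5, 5, 10, 9, 11, 8, 5, 6, 5, 7, 4, 4, 6]))))) (.node 435 (.node 432 (.node 431 (.leaf 53 6 [5, 7, 7, 7, 4, 11, 11, 9, 10, 5, 6, 5, 7, 4, 6]) (.leaf 31 0 [4, 4, 7, 7, 4, 7, 4, 6, 5, 5, 9, 11, 8, 10, 10, 10])) (.node 433 (.leaf 64 13 [10, 5, 5, 6, 5, 6, 4, 7, 4, 6, 6, 5, 11, 9]) (.node 434 (.leaf 67 0 [6, 4, 4, 4, 6, 4, 6, 5, 7, 5, 6, 10, 8, 11]) (.leaf 2 0 [5, 7, 7, 5, 6, 5, 5, 7, 11])))) (.node 438 (.node 436 (.leaf 37 6 [5, 5, 5, 6, 8, 10, 10, 9, 4, 6, 5, 5, 6, 6]) (.node 437 (.leaf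 27 6 [4, 7, 5, 6, 11, 11, 9, 7, 4, 7, 4, 6, 4]) (.leaf 18 11 [11, 8, 11, 7, 5, 5, 7, 4, 7, 4, 4, 4, 8, 11]))) (.node 439 (.leaf 38 9 [5, 11, 11, 11, 8, 11, 4, 7, 7, 4, 4, 7, 5, 5, 6]) (.node 440 (.leaf 40 11 [9, 11, 11, 4, 6, 4, 6, 4, 4, 4, 4, 7, 4, 10]) (.leaf 43 5 [6, 5, 7, 7, 4, 9, 11, 11, 8, 11, 7, 4, 6, 4, 6])))))) (.node 451 (.node 446 (.node 443 (.node 442 (.leaf 43 13 [8, 11, 7, 4, 6, 4, 6, 6, 5, 7, 7, 4, 9, 11, 11]) (.leaf 47 1 [4, 4, 4, 6, 4, 4, 6, 5, 6, 8, 11, 11, 8, 11, 4])) (.node 444 (.leaf 54 7 [6, 5, 5, 6, 8, 11, 11, 8, 7, 7, 4, 6, 4, 6, 4]) (.node 445 (.leaf 20 9 [8, 11, 8, 10, 10, 10, 4, 4, 7, 4, 6, 4, 6, 4, 4]) (.leaf 20 12 [10, 10, 10, 4, 4, 7, 4, 6, 4, 6, 4, 4, 8, 11, 8])))) (.node 448 (.node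 447 (.leaf 32 5 [6, 4, 6, 6, 5, 9, 10, 8, 11, 7, 7, 4, 7, 4]) (.leaf 51 10 [4, 11, 8, 10, 10, 4, 4, 6, 5, 7, 4, 4, 6, 4, 6])) (.node 449 (.leaf 67 2 [4, 4, 6, 4, 6, 5, 7, 5, 6, 10, 8, 11, 6, 4]) (.node 450 (.leaf 70 1 [5, 6, 5, 5, 6, 5, 6, 5, 5, 6, 10, 10, 8, 5]) (.leaf 69 11 [11, 8, 10, 10, 8, 5, 5, 5, 6, 6, 4, 6, 6, 5, 5, 6]))))) (.node 456 (.node 453 (.node 452 (.leaf 69 12 [8, 10, 10, 8, 5, 5, 5, 6, 6, 4, 6, 6, 5, 5, 6, 11]) (.leaf 70 3 [5, 5, 6, 5, 6, 5, 5, 6, 10, 10, 8, 5, 5, 6])) (.node 454 (.leaf 34 11 [11, 9, 10, 8, 11, 7, 4, 4, 7, 7, 4, 7, 5, 6, 6, 8]) (.node 455 (.leaf 46 10 [8, 10, 9, 10, 10, 5, 6, 5, 5, 7, 4, 6, 4, 4, 7]) (.leaf 36 0 [7, 4, 6, 4, 7, 4, 7, 7, 4, 6, 8, 11, 8, 11, 8, 10])))) (.node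 459 (.node 457 (.leaf 47 12 [11, 8, 11, 4, 4, 4, 4, 6, 4, 4, 6, 5, 6, 8, 11]) (.node 458 (.leaf 67 12 [8, 11, 6, 4, 4, 4, 6, 4, 6, 5, 7, 5, 6, 10]) (.leaf 67 7 [5, 7, 5, 6, 10, 8, 11, 6, 4, 4, 4, 6, 4, 6]))) (.node 460 (.leaf 10 9 [7, 5, 7, 5, 7, 5, 7, 5, 7, 5, 7, 5]) (.node 461 (.leaf 69 7 [6, 5, 5, 6, 11, 8, 10, 10, 8, 5, 5, 5, 6, 6, 4, 6]) (.leaf 51 1 [4, 6, 5, 7, 4, 4, 6, 4, 6, 4, 11, 8, 10, 10, 4]))))))) (.node 483 (.node 472 (.node 467 (.node 464 (.node 463 (.leaf 49 6 [5, 6, 4, 7, 8, 10, 9, 10, 8, 5, 5, 7, 5, 6, 6]) (.leaf 51 6 [4, 6, 4, 6, 4, 11, 8, 10, 10, 4, 4, 6, 5, 7, 4])) (.node 465 (.leaf 66 3 [6, 4, 6, 4, 7, 5, 5, 5, 9, 10, 6, 4, 4]) (.node 466 (.leaf 45 0 [6, 4, 7, 7, 4, 6, 4, 4, 4, 7, 10, 9,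 11, 8, 10]) (.leaf 49 12 [9, 10, 8, 5, 5, 7, 5, 6, 6, 5, 6, 4, 7, 8, 10])))) (.node 469 (.node 468 (.leaf 55 2 [7, 5, 6, 6, 6, 4, 6, 6, 5, 8, 11, 8, 10, 4, 7]) (.leaf 60 17 [11, 5, 7, 7, 5, 5, 6, 4, 7, 5, 5, 7, 8, 10, 9, 10, 9, 11])) (.node 470 (.leaf 23 3 [4, 4, 7, 7, 4, 7, 9, 10, 10, 8, 7, 5, 7]) (.node 471 (.leaf 59 12 [10, 9, 11, 11, 9, 4, 7, 5, 7, 4, 4, 6, 6, 4, 7, 7, 8]) (.leaf 64 3 [5, 6, 4, 7, 4, 6, 6, 5, 11, 9, 10, 5, 5, 6]))))) (.node 477 (.node 474 (.node 473 (.leaf 20 14 [10, 4, 4, 7, 4, 6, 4, 6, 4, 4, 8, 11, 8, 10, 10]) (.leaf 46 9 [7, 8, 10, 9, 10, 10, 5, 6, 5, 5, 7, 4, 6, 4, 4])) (.node 475 (.leaf 68 14 [9, 6, 4, 6, 6, 6, 4, 6, 4, 6, 6, 4, 8, 10, 10]) (.node 476 (.leaf 21 6 [4, 6, 5, 8, 10, 9,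 11, 11, 5, 6, 5, 5, 6, 6]) (.leaf 27 5 [4, 4, 7, 5, 6, 11, 11, 9, 7, 4, 7, 4, 6])))) (.node 480 (.node 478 (.leaf 53 9 [7, 4, 11, 11, 9, 10, 5, 6, 5, 7, 4, 6, 5, 7, 7]) (.node 479 (.leaf 45 12 [11, 8, 10, 6, 4, 7, 7, 4, 6, 4, 4, 4, 7, 10, 9]) (.leaf 32 2 [4, 7, 4, 6, 4, 6, 6, 5, 9, 10, 8, 11, 7, 7]))) (.node 481 (.leaf 34 2 [4, 7, 7, 4, 7, 5, 6, 6, 8, 11, 9, 10, 8, 11, 7, 4]) (.node 482 (.leaf 39 12 [10, 9, 6, 5, 7, 5, 6, 6, 4, 6, 5, 6, 10, 9]) (.leaf 32 13 [11, 7, 7, 4, 7, 4, 6, 4, 6, 6, 5, 9, 10, 8])))))) (.node 493 (.node 488 (.node 485 (.node 484 (.leaf 66 1 [4, 4, 6, 4, 6, 4, 7, 5, 5, 5, 9, 10, 6]) (.leaf 17 8 [6, 10, 10, 10, 10, 9, 7, 5, 5, 5, 6, 4, 6, 4])) (.node 486 (.leaf 25 3 [6, 4, 4, 6, 6, 5, 5, 11,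 9, 5, 6, 5]) (.node 487 (.leaf 43 12 [11, 8, 11, 7, 4, 6, 4, 6, 6, 5, 7, 7, 4, 9, 11]) (.leaf 51 0 [4, 4, 6, 5, 7, 4, 4, 6, 4, 6, 4, 11, 8, 10, 10])))) (.node 490 (.node 489 (.leaf 69 14 [10, 8, 5, 5, 5, 6, 6, 4, 6, 6, 5, 5, 6, 11, 8, 10]) (.leaf 11 9 [6, 5, 7, 4, 6, 5, 7, 4, 6, 5, 7, 4, 6, 5, 7, 4, 6, 5, 7, 4, 6, 5, 7, 4, 6, 5, 7, 4, 6, 5, 7, 4, 6, 5, 7, 4, 6, 5, 7, 4])) (.node 491 (.leaf 31 8 [5, 5, 9, 11, 8, 10, 10, 10, 4, 4, 7, 7, 4, 7, 4, 6]) (.node 492 (.leaf 36 13 [11, 8, 10, 7, 4, 6, 4, 7, 4, 7, 7, 4, 6, 8, 11, 8]) (.leaf 45 14 [10, 6, 4, 7, 7, 4, 6, 4, 4, 4, 7, 10, 9, 11, 8]))))) (.node 498 (.node 495 (.node 494 (.leaf 56 15 [10, 4, 6, 5, 7, 7, 4, 6, 5, 6, 4, 6, 8, 10, 10, 10]) (.leaf 30 12 [10, 10,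 6, 6, 5, 5, 6, 4, 6, 4, 7, 5, 9, 10])) (.node 496 (.leaf 55 1 [7, 7, 5, 6, 6, 6, 4, 6, 6, 5, 8, 11, 8, 10, 4]) (.node 497 (.leaf 55 11 [8, 11, 8, 10, 4, 7, 7, 5, 6, 6, 6, 4, 6, 6, 5]) (.leaf 47 14 [11, 4, 4, 4, 4, 6, 4, 4, 6, 5, 6, 8, 11, 11, 8])))) (.node 501 (.node 499 (.leaf 48 0 [7, 4, 7, 5, 6, 4, 4, 4, 6, 6, 8, 11, 11, 11, 8, 11]) (.node 500 (.leaf 14 12 [10, 9, 5, 5, 7, 4, 6, 6, 5, 7, 5, 10, 10, 9]) (.leaf 17 7 [4, 6, 10, 10, 10, 10, 9, 7, 5, 5, 5, 6, 4, 6]))) (.node 502 (.leaf 20 10 [11, 8, 10, 10, 10, 4, 4, 7, 4, 6, 4, 6, 4, 4, 8]) (.node 503 (.leaf 31 6 [4, 6, 5, 5, 9, 11, 8, 10, 10, 10, 4, 4, 7, 7, 4, 7]) (.leaf 56 9 [4, 6, 8, 10, 10, 10, 10, 4, 6, 5, 7, 7, 4, 6, 5, 6]))))))))) (.node 588 (.node 546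 (.node 525 (.node 514 (.node 509 (.node 506 (.node 505 (.leaf 18 0 [7, 5, 5, 7, 4, 7, 4, 4, 4, 8, 11, 11, 8, 11]) (.leaf 38 6 [5, 5, 6, 5, 11, 11, 11, 8, 11, 4, 7, 7, 4, 4, 7])) (.node 507 (.leaf 58 2 [4, 4, 4, 6, 5, 6, 5, 7, 7, 11, 11, 11, 11, 11, 7, 4]) (.node 508 (.leaf 15 7 [7, 4, 11, 11, 9, 10, 5, 7, 5, 7, 4, 6, 5]) (.leaf 21 13 [11, 5, 6, 5, 5, 6, 6, 4, 6, 5, 8, 10, 9, 11])))) (.node 511 (.node 510 (.leaf 24 15 [11, 5, 7, 7, 4, 6, 5, 7, 4, 7, 8, 10, 9, 10, 9, 11]) (.leaf 28 1 [5, 6, 6, 4, 6, 6, 5, 6, 6, 9, 11, 11, 9, 10, 6])) (.node 512 (.leaf 49 0 [5, 5, 7, 5, 6, 6, 5, 6, 4, 7, 8, 10, 9, 10, 8]) (.node 513 (.leaf 53 7 [7, 7, 7, 4, 11, 11, 9, 10, 5, 6, 5, 7, 4, 6, 5]) (.leaf 69 0 [5, 5, 5, 6, 6, 4, 6, 6,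 5, 5, 6, 11, 8, 10, 10, 8]))))) (.node 519 (.node 516 (.node 515 (.leaf 19 1 [6, 4, 6, 6, 5, 5, 6, 6, 8, 11, 8, 11, 9, 4]) (.leaf 24 11 [9, 10, 9, 11, 11, 5, 7, 7, 4, 6, 5, 7, 4, 7, 8, 10])) (.node 517 (.leaf 61 3 [4, 4, 4, 6, 5, 5, 7, 5, 11, 8, 10, 10, 5, 6, 6]) (.node 518 (.leaf 50 12 [8, 10, 10, 5, 7, 4, 7, 5, 6, 4, 7, 7, 7, 4, 11]) (.leaf 13 5 [6, 4, 6, 11, 8, 10, 10, 8, 4, 6, 6, 5, 6])))) (.node 522 (.node 520 (.leaf 54 11 [8, 11, 11, 8, 7, 7, 4, 6, 4, 6, 4, 6, 5, 5, 6]) (.node 521 (.leaf 62 15 [11, 5, 7, 5, 6, 5, 6, 6, 6, 4, 4, 4, 8, 11, 8, 11]) (.leaf 30 1 [6, 5, 5, 6, 4, 6, 4, 7, 5, 9, 10, 10, 10, 6]))) (.node 523 (.leaf 69 2 [5, 6, 6, 4, 6, 6, 5, 5, 6, 11, 8, 10, 10, 8, 5, 5]) (.node 524 (.leaf 2 1 [7,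 7, 5, 6, 5, 5, 7, 11, 5]) (.leaf 28 3 [6, 4, 6, 6, 5, 6, 6, 9, 11, 11, 9, 10, 6, 5, 6])))))) (.node 535 (.node 530 (.node 527 (.node 526 (.leaf 47 2 [4, 4, 6, 4, 4, 6, 5, 6, 8, 11, 11, 8, 11, 4, 4]) (.leaf 53 13 [9, 10, 5, 6, 5, 7, 4, 6, 5, 7, 7, 7, 4, 11, 11])) (.node 528 (.leaf 30 9 [5, 9, 10, 10, 10, 6, 6, 5, 5, 6, 4, 6, 4, 7]) (.node 529 (.leaf 31 10 [9, 11, 8, 10, 10, 10, 4, 4, 7, 7, 4, 7, 4, 6, 5, 5]) (.leaf 46 12 [9, 10, 10, 5, 6, 5, 5, 7, 4, 6, 4, 4, 7, 8, 10])))) (.node 532 (.node 531 (.leaf 51 12 [8, 10, 10, 4, 4, 6, 5, 7, 4, 4, 6, 4, 6, 4, 11]) (.leaf 15 10 [11, 9, 10, 5, 7, 5, 7, 4, 6, 5, 7, 4, 11])) (.node 533 (.leaf 41 7 [6, 4, 4, 10, 10, 8, 11, 9, 5, 7, 5, 6, 4, 4, 6]) (.node 534 (.leaf 46 11 [10,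 9, 10, 10, 5, 6, 5, 5, 7, 4, 6, 4, 4, 7, 8]) (.leaf 49 8 [4, 7, 8, 10, 9, 10, 8, 5, 5, 7, 5, 6, 6, 5, 6]))))) (.node 540 (.node 537 (.node 536 (.leaf 50 3 [7, 5, 6, 4, 7, 7, 7, 4, 11, 8, 10, 10, 5, 7, 4]) (.leaf 52 11 [10, 9, 11, 8, 5, 6, 5, 7, 4, 4, 6, 5, 7, 5, 5])) (.node 538 (.leaf 60 15 [9, 11, 11, 5, 7, 7, 5, 5, 6, 4, 7, 5, 5, 7, 8, 10, 9, 10]) (.node 539 (.leaf 41 1 [7, 5, 6, 4, 4, 6, 6, 4, 4, 10, 10, 8, 11, 9, 5]) (.leaf 52 0 [5, 6, 5, 7, 4, 4, 6, 5, 7, 5, 5, 10, 9, 11, 8])))) (.node 543 (.node 541 (.leaf 60 1 [7, 7, 5, 5, 6, 4, 7, 5, 5, 7, 8, 10, 9, 10, 9, 11, 11, 5]) (.node 542 (.leaf 37 1 [6, 5, 5, 6, 6, 5, 5, 5, 6, 8, 10, 10, 9, 4]) (.leaf 60 9 [5, 7, 8, 10, 9, 10, 9, 11, 11, 5, 7, 7, 5, 5, 6, 4, 7,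 5]))) (.node 544 (.leaf 7 4 [4, 6, 4, 6, 4, 6, 4, 6, 4, 6, 4, 6]) (.node 545 (.leaf 61 13 [10, 10, 5, 6, 6, 4, 4, 4, 6, 5, 5, 7, 5, 11, 8]) (.leaf 45 9 [7, 10, 9, 11, 8, 10, 6, 4, 7, 7, 4, 6, 4, 4, 4]))))))) (.node 567 (.node 556 (.node 551 (.node 548 (.node 547 (.leaf 55 8 [6, 6, 5, 8, 11, 8, 10, 4, 7, 7, 5, 6, 6, 6, 4]) (.leaf 9 10 [5, 6, 5, 6, 5, 6, 5, 6, 5, 6, 5, 6])) (.node 549 (.leaf 40 7 [4, 7, 4, 10, 9, 11, 11, 4, 6, 4, 6, 4, 4, 4]) (.node 550 (.leaf 41 2 [5, 6, 4, 4, 6, 6, 4, 4, 10, 10, 8, 11, 9, 5, 7]) (.leaf 61 6 [6, 5, 5, 7, 5, 11, 8, 10, 10, 5, 6, 6, 4, 4, 4])))) (.node 553 (.node 552 (.leaf 62 1 [7, 5, 6, 5, 6, 6, 6, 4, 4, 4, 8, 11, 8, 11, 11, 5]) (.leaf 68 10 [4, 8, 10, 10, 9, 6, 4, 6, 6, 6, 4,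 6, 4, 6, 6])) (.node 554 (.leaf 68 9 [6, 4, 8, 10, 10, 9, 6, 4, 6, 6, 6, 4, 6, 4, 6]) (.node 555 (.leaf 41 12 [8, 11, 9, 5, 7, 5, 6, 4, 4, 6, 6, 4, 4, 10, 10]) (.leaf 42 6 [6, 4, 6, 5, 9, 11, 11, 9, 7, 4, 6, 4, 4, 4]))))) (.node 561 (.node 558 (.node 557 (.leaf 61 1 [6, 6, 4, 4, 4, 6, 5, 5, 7, 5, 11, 8, 10, 10, 5]) (.leaf 62 6 [6, 6, 4, 4, 4, 8, 11, 8, 11, 11, 5, 7, 5, 6, 5, 6])) (.node 559 (.leaf 65 0 [6, 4, 4, 6, 4, 4, 4, 4, 6, 5, 7, 9, 10]) (.node 560 (.leaf 56 3 [7, 7, 4, 6, 5, 6, 4, 6, 8, 10, 10, 10, 10, 4, 6, 5]) (.leaf 10 2 [5, 7, 5, 7, 5, 7, 5, 7, 5, 7, 5, 7])))) (.node 564 (.node 562 (.leaf 15 3 [7, 4, 6, 5, 7, 4, 11, 11, 9, 10, 5, 7, 5]) (.node 563 (.leaf 18 12 [8, 11, 7, 5, 5, 7, 4, 7, 4, 4, 4, 8,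 11, 11]) (.leaf 37 4 [6, 6, 5, 5, 5, 6, 8, 10, 10, 9, 4, 6, 5, 5]))) (.node 565 (.leaf 38 7 [5, 6, 5, 11, 11, 11, 8, 11, 4, 7, 7, 4, 4, 7, 5]) (.node 566 (.leaf 54 8 [5, 5, 6, 8, 11, 11, 8, 7, 7, 4, 6, 4, 6, 4, 6]) (.leaf 57 12 [9, 11, 8, 5, 5, 5, 5, 6, 4, 7, 4, 6, 4, 7, 10])))))) (.node 577 (.node 572 (.node 569 (.node 568 (.leaf 63 8 [6, 5, 6, 11, 11, 6, 6, 6, 4, 6, 6, 6, 5]) (.leaf 30 11 [10, 10, 10, 6, 6, 5, 5, 6, 4, 6, 4, 7, 5, 9])) (.node 570 (.leaf 33 12 [10, 10, 6, 6, 5, 7, 4, 6, 4, 4, 6, 4, 10, 9]) (.node 571 (.leaf 54 0 [7, 7, 4, 6, 4, 6, 4, 6, 5, 5, 6, 8, 11, 11, 8]) (.leaf 57 6 [7, 4, 6, 4, 7, 10, 9, 11, 8, 5, 5, 5, 5, 6, 4])))) (.node 574 (.node 573 (.leaf 20 13 [10, 10, 4, 4, 7, 4, 6, 4, 6, 4, 4,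 8, 11, 8, 10]) (.leaf 22 0 [5, 7, 4, 4, 4, 4, 7, 7, 5, 8, 11, 11, 11])) (.node 575 (.leaf 40 0 [4, 6, 4, 6, 4, 4, 4, 4, 7, 4, 10, 9, 11, 11]) (.node 576 (.leaf 43 0 [7, 4, 6, 4, 6, 6, 5, 7, 7, 4, 9, 11, 11, 8, 11]) (.leaf 55 7 [4, 6, 6, 5, 8, 11, 8, 10, 4, 7, 7, 5, 6, 6, 6]))))) (.node 582 (.node 579 (.node 578 (.leaf 56 10 [6, 8, 10, 10, 10, 10, 4, 6, 5, 7, 7, 4, 6, 5, 6, 4]) (.leaf 41 8 [4, 4, 10, 10, 8, 11, 9, 5, 7, 5, 6, 4, 4, 6, 6])) (.node 580 (.leaf 23 2 [7, 4, 4, 7, 7, 4, 7, 9, 10, 10, 8, 7, 5]) (.node 581 (.leaf 68 0 [6, 4, 6, 6, 6, 4, 6, 4, 6, 6, 4, 8, 10, 10, 9]) (.leaf 12 38 [5, 6, 4, 7, 5, 6, 4, 7, 5, 6, 4, 7, 5, 6, 4, 7, 5, 6, 4, 7, 5, 6, 4, 7, 5, 6, 4, 7, 5, 6, 4, 7, 5, 6, 4, 7, 5, 6, 4, 7]))))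 (.node 585 (.node 583 (.leaf 38 12 [11, 8, 11, 4, 7, 7, 4, 4, 7, 5, 5, 6, 5, 11, 11]) (.node 584 (.leaf 41 11 [10, 8, 11, 9, 5, 7, 5, 6, 4, 4, 6, 6, 4, 4, 10]) (.leaf 22 1 [7, 4, 4, 4, 4, 7, 7, 5, 8, 11, 11, 11, 5]))) (.node 586 (.leaf 17 2 [5, 5, 6, 4, 6, 4, 6, 10, 10, 10, 10, 9, 7, 5]) (.node 587 (.leaf 45 8 [4, 7, 10, 9, 11, 8, 10, 6, 4, 7, 7, 4, 6, 4, 4]) (.leaf 23 10 [10, 10, 8, 7, 5, 7, 4, 4, 7, 7, 4, 7, 9])))))))) (.node 630 (.node 609 (.node 598 (.node 593 (.node 590 (.node 589 (.leaf 28 8 [6, 6, 9, 11, 11, 9, 10, 6, 5, 6, 6, 4, 6, 6, 5]) (.leaf 32 8 [6, 5, 9, 10, 8, 11, 7, 7, 4, 7, 4, 6, 4, 6])) (.node 591 (.leaf 13 1 [6, 6, 5, 6, 6, 4, 6, 11, 8, 10, 10, 8, 4]) (.node 592 (.leaf 38 3 [4, 4, 7, 5, 5,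 6, 5, 11, 11, 11, 8, 11, 4, 7, 7]) (.leaf 47 4 [6, 4, 4, 6, 5, 6, 8, 11, 11, 8, 11, 4, 4, 4, 4])))) (.node 595 (.node 594 (.leaf 24 13 [9, 11, 11, 5, 7, 7, 4, 6, 5, 7, 4, 7, 8, 10, 9, 10]) (.leaf 29 0 [7, 4, 6, 5, 6, 4, 4, 7, 7, 4, 8, 10, 10, 8, 11])) (.node 596 (.leaf 60 4 [5, 6, 4, 7, 5, 5, 7, 8, 10, 9, 10, 9, 11, 11, 5, 7, 7, 5]) (.node 597 (.leaf 42 5 [4, 6, 4, 6, 5, 9, 11, 11, 9, 7, 4, 6, 4, 4]) (.leaf 51 14 [10, 4, 4, 6, 5, 7, 4, 4, 6, 4, 6, 4, 11, 8, 10]))))) (.node 603 (.node 600 (.node 599 (.leaf 62 4 [5, 6, 6, 6, 4, 4, 4, 8, 11, 8, 11, 11, 5, 7, 5, 6]) (.leaf 64 2 [6, 5, 6, 4, 7, 4, 6, 6, 5, 11, 9, 10, 5, 5])) (.node 601 (.leaf 70 0 [5, 5, 6, 5, 5, 6, 5, 6, 5, 5, 6, 10, 10, 8]) (.node 602 (.leaf 35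 5 [5, 7, 5, 7, 7, 8, 11, 8, 10, 10, 9, 7, 5, 7, 5, 6]) (.leaf 32 9 [5, 9, 10, 8, 11, 7, 7, 4, 7, 4, 6, 4, 6, 6])))) (.node 606 (.node 604 (.leaf 43 6 [5, 7, 7, 4, 9, 11, 11, 8, 11, 7, 4, 6, 4, 6, 6]) (.node 605 (.leaf 33 8 [6, 4, 10, 9, 10, 10, 6, 6, 5, 7, 4, 6, 4, 4]) (.leaf 22 2 [4, 4, 4, 4, 7, 7, 5, 8, 11, 11, 11, 5, 7]))) (.node 607 (.leaf 30 5 [4, 6, 4, 7, 5, 9, 10, 10, 10, 6, 6, 5, 5, 6]) (.node 608 (.leaf 30 8 [7, 5, 9, 10, 10, 10, 6, 6, 5, 5, 6, 4, 6, 4]) (.leaf 18 9 [8, 11, 11, 8, 11, 7, 5, 5, 7, 4, 7, 4, 4, 4])))))) (.node 619 (.node 614 (.node 611 (.node 610 (.leaf 21 5 [6, 4, 6, 5, 8, 10, 9, 11, 11, 5, 6, 5, 5, 6]) (.leaf 22 8 [5, 8, 11, 11, 11, 5, 7, 4, 4, 4, 4, 7, 7])) (.node 612 (.leaf 27 8 [5,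 6, 11, 11, 9, 7, 4, 7, 4, 6, 4, 4, 7]) (.node 613 (.leaf 35 6 [7, 5, 7, 7, 8, 11, 8, 10, 10, 9, 7, 5, 7, 5, 6, 5]) (.leaf 12 15 [6, 4, 7, 5, 6, 4, 7, 5, 6, 4, 7, 5, 6, 4, 7, 5, 6, 4, 7, 5, 6, 4, 7, 5, 6, 4, 7, 5, 6, 4, 7, 5, 6, 4, 7, 5, 6, 4, 7, 5])))) (.node 616 (.node 615 (.leaf 23 5 [7, 7, 4, 7, 9, 10, 10, 8, 7, 5, 7, 4, 4]) (.leaf 60 11 [8, 10, 9, 10, 9, 11, 11, 5, 7, 7, 5, 5, 6, 4, 7, 5, 5, 7])) (.node 617 (.leaf 40 4 [4, 4, 4, 4, 7, 4, 10, 9, 11, 11, 4, 6, 4, 6]) (.node 618 (.leaf 59 16 [9, 4, 7, 5, 7, 4, 4, 6, 6, 4, 7, 7, 8, 10, 9, 11, 11]) (.leaf 18 5 [7, 4, 4, 4, 8, 11, 11, 8, 11, 7, 5, 5, 7, 4]))))) (.node 624 (.node 621 (.node 620 (.leaf 29 12 [10, 8, 11, 7, 4, 6, 5, 6, 4, 4, 7, 7, 4, 8, 10]) (.leaf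 48 9 [6, 8, 11, 11, 11, 8, 11, 7, 4, 7, 5, 6, 4, 4, 4, 6])) (.node 622 (.leaf 24 9 [8, 10, 9, 10, 9, 11, 11, 5, 7, 7, 4, 6, 5, 7, 4, 7]) (.node 623 (.leaf 29 5 [4, 4, 7, 7, 4, 8, 10, 10, 8, 11, 7, 4, 6, 5, 6]) (.leaf 56 6 [6, 5, 6, 4, 6, 8, 10, 10, 10, 10, 4, 6, 5, 7, 7, 4])))) (.node 627 (.node 625 (.leaf 42 8 [6, 5, 9, 11, 11, 9, 7, 4, 6, 4, 4, 4, 6, 4]) (.node 626 (.leaf 43 9 [4, 9, 11, 11, 8, 11, 7, 4, 6, 4, 6, 6, 5, 7, 7]) (.leaf 35 11 [11, 8, 10, 10, 9, 7, 5, 7, 5, 6, 5, 7, 5, 7, 7, 8]))) (.node 628 (.leaf 55 0 [4, 7, 7, 5, 6, 6, 6, 4, 6, 6, 5, 8, 11, 8, 10]) (.node 629 (.leaf 58 14 [11, 11, 7, 4, 4, 4, 4, 6, 5, 6, 5, 7, 7, 11, 11, 11]) (.leaf 59 1 [7, 5, 7, 4, 4, 6, 6, 4, 7, 7, 8, 10, 9, 11, 11, 9, 4])))))))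 (.node 651 (.node 640 (.node 635 (.node 632 (.node 631 (.leaf 16 11 [10, 9, 6, 6, 5, 6, 6, 5, 5, 7, 4, 10, 10]) (.leaf 31 3 [7, 4, 7, 4, 6, 5, 5, 9, 11, 8, 10, 10, 10, 4, 4, 7])) (.node 633 (.leaf 56 8 [6, 4, 6, 8, 10, 10, 10, 10, 4, 6, 5, 7, 7, 4, 6, 5]) (.node 634 (.leaf 56 0 [4, 6, 5, 7, 7, 4, 6, 5, 6, 4, 6, 8, 10, 10, 10, 10]) (.leaf 25 2 [5, 6, 4, 4, 6, 6, 5, 5, 11, 9, 5, 6])))) (.node 637 (.node 636 (.leaf 61 10 [5, 11, 8, 10, 10, 5, 6, 6, 4, 4, 4, 6, 5, 5, 7]) (.leaf 8 8 [4, 7, 4, 7, 4, 7, 4, 7, 4, 7, 4, 7])) (.node 638 (.leaf 12 8 [4, 7, 5, 6, 4, 7, 5, 6, 4, 7, 5, 6, 4, 7, 5, 6, 4, 7, 5, 6, 4, 7, 5, 6, 4, 7, 5, 6, 4, 7, 5, 6, 4, 7, 5, 6, 4, 7, 5, 6]) (.node 639 (.leaf 43 11 [11, 11, 8, 11, 7, 4, 6, 4,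 6, 6, 5, 7, 7, 4, 9]) (.leaf 57 8 [6, 4, 7, 10, 9, 11, 8, 5, 5, 5, 5, 6, 4, 7, 4]))))) (.node 645 (.node 642 (.node 641 (.leaf 14 6 [5, 7, 5, 10, 10, 9, 10, 9, 5, 5, 7, 4, 6, 6]) (.leaf 15 6 [5, 7, 4, 11, 11, 9, 10, 5, 7, 5, 7, 4, 6])) (.node 643 (.leaf 64 4 [6, 4, 7, 4, 6, 6, 5, 11, 9, 10, 5, 5, 6, 5]) (.node 644 (.leaf 28 10 [9, 11, 11, 9, 10, 6, 5, 6, 6, 4, 6, 6, 5, 6, 6]) (.leaf 47 3 [4, 6, 4, 4, 6, 5, 6, 8, 11, 11, 8, 11, 4, 4, 4])))) (.node 648 (.node 646 (.leaf 57 10 [7, 10, 9, 11, 8, 5, 5, 5, 5, 6, 4, 7, 4, 6, 4]) (.node 647 (.leaf 32 1 [7, 4, 7, 4, 6, 4, 6, 6, 5, 9, 10, 8, 11, 7]) (.leaf 11 34 [5, 7, 4, 6, 5, 7, 4, 6, 5, 7, 4, 6, 5, 7, 4, 6, 5, 7, 4, 6, 5, 7, 4, 6, 5, 7, 4, 6, 5, 7, 4, 6, 5, 7, 4, 6,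 5, 7, 4, 6]))) (.node 649 (.leaf 12 35 [6, 4, 7, 5, 6, 4, 7, 5, 6, 4, 7, 5, 6, 4, 7, 5, 6, 4, 7, 5, 6, 4, 7, 5, 6, 4, 7, 5, 6, 4, 7, 5, 6, 4, 7, 5, 6, 4, 7, 5]) (.node 650 (.leaf 25 0 [5, 6, 5, 6, 4, 4, 6, 6, 5, 5, 11, 9]) (.leaf 56 13 [10, 10, 10, 4, 6, 5, 7, 7, 4, 6, 5, 6, 4, 6, 8, 10])))))) (.node 662 (.node 656 (.node 653 (.node 652 (.leaf 32 11 [10, 8, 11, 7, 7, 4, 7, 4, 6, 4, 6, 6, 5, 9]) (.leaf 9 8 [5, 6, 5, 6, 5, 6, 5, 6, 5, 6, 5, 6])) (.node 654 (.leaf 28 11 [11, 11, 9, 10, 6, 5, 6, 6, 4, 6, 6, 5, 6, 6, 9]) (.node 655 (.leaf 34 12 [9, 10, 8, 11, 7, 4, 4, 7, 7, 4, 7, 5, 6, 6, 8, 11]) (.leaf 69 4 [6, 4, 6, 6, 5, 5, 6, 11, 8, 10, 10, 8, 5, 5, 5, 6])))) (.node 659 (.node 657 (.leaf 11 10 [5, 7, 4, 6, 5,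 7, 4, 6, 5, 7, 4, 6, 5, 7, 4, 6, 5, 7, 4, 6, 5, 7, 4, 6, 5, 7, 4, 6, 5, 7, 4, 6, 5, 7, 4, 6, 5, 7, 4, 6]) (.node 658 (.leaf 16 0 [6, 6, 5, 6, 6, 5, 5, 7, 4, 10, 10, 10, 9]) (.leaf 52 1 [6, 5, 7, 4, 4, 6, 5, 7, 5, 5, 10, 9, 11, 8, 5]))) (.node 660 (.leaf 34 13 [10, 8, 11, 7, 4, 4, 7, 7, 4, 7, 5, 6, 6, 8, 11, 9]) (.node 661 (.leaf 51 7 [6, 4, 6, 4, 11, 8, 10, 10, 4, 4, 6, 5, 7, 4, 4]) (.leaf 14 11 [9, 10, 9, 5, 5, 7, 4, 6, 6, 5, 7, 5, 10, 10]))))) (.node 667 (.node 664 (.node 663 (.leaf 31 7 [6, 5, 5, 9, 11, 8, 10, 10, 10, 4, 4, 7, 7, 4, 7, 4]) (.leaf 51 2 [6, 5, 7, 4, 4, 6, 4, 6, 4, 11, 8, 10, 10, 4, 4])) (.node 665 (.leaf 39 1 [5, 7, 5, 6, 6, 4, 6, 5, 6, 10, 9, 10, 9, 6]) (.node 666 (.leaf 23 8 [7, 9, 10, 10,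 8, 7, 5, 7, 4, 4, 7, 7, 4]) (.leaf 20 11 [8, 10, 10, 10, 4, 4, 7, 4, 6, 4, 6, 4, 4, 8, 11])))) (.node 670 (.node 668 (.leaf 29 13 [8, 11, 7, 4, 6, 5, 6, 4, 4, 7, 7, 4, 8, 10, 10]) (.node 669 (.leaf 70 9 [5, 6, 10, 10, 8, 5, 5, 6, 5, 5, 6, 5, 6, 5]) (.leaf 20 5 [4, 6, 4, 4, 8, 11, 8, 10, 10, 10, 4, 4, 7, 4, 6]))) (.node 671 (.leaf 65 8 [6, 5, 7, 9, 10, 6, 4, 4, 6, 4, 4, 4, 4]) (.node 672 (.leaf 49 7 [6, 4, 7, 8, 10, 9, 10, 8, 5, 5, 7, 5, 6, 6, 5]) (.leaf 27 3 [4, 6, 4, 4, 7, 5, 6, 11, 11, 9, 7, 4, 7])))))))))))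

theorem b0 : allR (guardB 23 (blk fc sc rt.get Cfsg.Agent.Lib.Helper3.G24.INV isH)) 5 0 = true := by decide +kernel
theorem c0 : allR (guardB 32 (cblk fc nc cc 5888 1024 79228162514264337593543950336 gens)) 5 0 = true := by decide +kernel

theorem chkAll : ∀ j < 23, blk fc sc rt.get Cfsg.Agent.Lib.Helper3.G24.INV isH j = true :=
  guardB_spec (D := 5) b0 (by norm_num)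

theorem clAll : ∀ jb < 32, cblk fc nc cc (256 * 23) 1024 79228162514264337593543950336 gens jb = true :=
  guardB_spec (D := 5) c0 (by norm_num)

theorem hid_0 : BR_0.all (wordId (ntOf Cfsg.Agent.Lib.Helper3.G24.ntl) 11) = true := by decide +kernel
theorem hid : BR.all (wordId (ntOf Cfsg.Agent.Lib.Helper3.G24.ntl) 11) = true := by
  simp only [BR, List.all_append, hid_0, Bool.and_self]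

theorem card_eq : Nat.card (lgrp (vL Cfsg.Agent.Lib.Helper3.G24.ntl Cfsg.Agent.Lib.Helper3.G24.deg) gens) = 1024 * Nat.card (lgrp (vL Cfsg.Agent.Lib.Helper3.G24.ntl Cfsg.Agent.Lib.Helper3.G24.deg) hl) :=
  Cfsg.Agent.Lib.Helper3.G24.setup.level gens hl dl BR (by decide +kernel) (by decide +kernel) hid (by decide +kernel)
    (by decide +kernel) rt (by decide +kernel) isH (fun l h => of_decide_eq_true h) fc sc nc cc 23 32 1024 79228162514264337593543950336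
    (by norm_num) (by norm_num) (by decide +kernel) (by decide) chkAll clAll
    1 1 9 (by norm_num [Cfsg.Agent.Lib.Helper3.G24.deg]) (by norm_num [Cfsg.Agent.Lib.Helper3.G24.deg]) (by decide +kernel) (by decide +kernel)

theorem ub {M : Type*} [Group M] (w : ℕ → M) (h0 : w 0 = 1) (hinv : ∀ l, w (invL Cfsg.Agent.Lib.Helper3.G24.INV l) = (w l)⁻¹)
    (hBR : ∀ r ∈ BR, (r.map w).prod = 1)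
    (hdlr : ∀ r ∈ dl.map (fun p => p.1 ++ [p.2]), (r.map w).prod = 1) (N : ℕ) (hN : Bd w hl N) :
    Bd w gens (1024 * N) :=
  level_bd w Cfsg.Agent.Lib.Helper3.G24.INV h0 hinv gens hl dl BR (by decide +kernel) hdlr hBR (by decide +kernel) (by decide +kernel)
    rt (by decide +kernel) isH (fun l h => of_decide_eq_true h) fc sc nc cc 23 32 1024 79228162514264337593543950336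
    (by norm_num) (by norm_num) (by decide +kernel) (by decide) chkAll clAll N hN

end Cfsg.Agent.Lib.Helper3.G24.L2
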