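import Cfsg.Agent.Lib.Helper3.G24.L3D
import Cfsg.Agent.Lib.Helper3.G24.Net

set_option autoImplicit false
set_option maxRecDepth 100000

namespace Cfsg.Agent.Lib.Helper3.G24.L3

open Cfsg.Agent.Lib.Helper11 Cfsg.Agent.Lib.Helper3

set_option maxHeartbeats 0
set_option Elab.async false

noncomputable def fc (i : ℕ) : ℕ := (fc0_0 i)
noncomputable def sc (i : ℕ) : ℕ := (sc0_0 i)
noncomputable def nc (i : ℕ) : ℕ := (nc0_0 i)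
noncomputable def cc (i : ℕ) : ℕ := (cc0_0 i)

def isH (l : ℕ) : Bool := decide (l ∈ [])
def gens : List ℕ := [8, 10]
def hl : List ℕ := []
def dl : List (List ℕ × ℕ) := [([8], 9), ([10], 11)]
def BR_0 : List (List ℕ) := [[], [8, 8, 8], [10, 10, 10, 10, 10, 10, 10, 10, 10, 10, 10, 10, 10, 10, 10], [11, 11, 11, 11, 11, 11, 11, 11, 11, 11, 11, 11, 11, 11, 11], [8, 10, 8, 10, 8, 10], [8, 11, 8, 11, 8, 11, 8, 11, 8, 11, 8, 11, 8, 11, 8, 11, 8, 11, 8, 11, 8, 11, 8, 11, 8, 11, 8, 11, 8, 11], [9, 10, 9, 10, 9, 10, 9, 10, 9, 10, 9, 10, 9, 10, 9, 10, 9, 10, 9, 10, 9, 10, 9, 10, 9, 10, 9, 10, 9, 10], [9, 11, 9, 11, 9, 11], [8, 8, 11, 8, 8, 11, 8, 8, 11], [8, 11, 11, 8, 11, 11, 8, 11, 11, 8, 11, 11, 8, 11, 11, 8, 11, 11], [9, 9, 10, 9, 9, 10, 9, 9, 10], [9, 10, 10, 9, 10, 10, 9, 10, 10, 9, 10, 10, 9, 10, 10, 9, 10,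 10], [8, 8, 10, 10, 8, 8, 10, 10, 8, 8, 10, 10, 8, 8, 10, 10, 8, 8, 10, 10, 8, 8, 10, 10], [8, 10, 8, 11, 8, 10, 8, 11], [8, 10, 9, 11, 8, 10, 9, 11, 8, 10, 9, 11], [8, 10, 10, 10, 8, 10, 10, 10], [8, 11, 9, 10, 8, 11, 9, 10, 8, 11, 9, 10], [8, 11, 11, 11, 8, 11, 11, 11, 8, 11, 11, 11, 8, 11, 11, 11, 8, 11, 11, 11], [9, 9, 11, 11, 9, 9, 11, 11, 9, 9, 11, 11, 9, 9, 11, 11, 9, 9, 11, 11, 9, 9, 11, 11], [9, 10, 9, 11, 9, 10, 9, 11], [9, 10, 10, 10, 9, 10, 10, 10, 9, 10, 10, 10, 9, 10, 10, 10, 9, 10, 10, 10], [9, 11, 11, 11, 9, 11, 11, 11]]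
def BR : List (List ℕ) := BR_0
set_option maxRecDepth 10000000 in
noncomputable def rt : RT := (.node 38 (.node 19 (.node 9 (.node 4 (.node 2 (.node 1 (.leaf 0 0 []) (.leaf 1 1 [8, 8, 8])) (.node 3 (.leaf 4 3 [10, 8, 10, 8, 10, 8]) (.leaf 13 4 [8, 10, 8, 11, 8, 10, 8, 11]))) (.node 6 (.node 5 (.leaf 13 6 [8, 11, 8, 10, 8, 11, 8, 10]) (.leaf 14 6 [9, 11, 8, 10, 9, 11, 8, 10, 9, 11, 8, 10])) (.node 7 (.leaf 15 4 [8, 10, 10, 10, 8, 10, 10, 10]) (.node 8 (.leaf 16 6 [9, 10, 8, 11, 9, 10, 8, 11, 9, 10, 8, 11]) (.leaf 7 3 [11, 9, 11, 9, 11, 9]))))) (.node 14 (.node 11 (.node 10 (.leaf 19 4 [9, 10, 9, 11, 9, 10, 9, 11]) (.leaf 19 6 [9, 11, 9, 10, 9, 11, 9, 10])) (.node 12 (.leaf 21 4 [9, 11, 11, 11, 9, 11, 11, 11]) (.node 13 (.leaf 15 5 [10, 10, 10, 8, 10, 10, 10, 8]) (.leaf 15 7 [10, 8, 10, 10, 10, 8, 10, 10]))))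 (.node 16 (.node 15 (.leaf 21 7 [11, 9, 11, 11, 11, 9, 11, 11]) (.leaf 13 5 [10, 8, 11, 8, 10, 8, 11, 8])) (.node 17 (.leaf 10 3 [9, 9, 10, 9, 9, 10, 9, 9, 10]) (.node 18 (.leaf 8 3 [8, 8, 11, 8, 8, 11, 8, 8, 11]) (.leaf 19 7 [11, 9, 10, 9, 11, 9, 10, 9])))))) (.node 28 (.node 23 (.node 21 (.node 20 (.leaf 13 3 [11, 8, 10, 8, 11, 8, 10, 8]) (.leaf 19 3 [11, 9, 10, 9, 11, 9, 10, 9])) (.node 22 (.leaf 19 5 [10, 9, 11, 9, 10, 9, 11, 9]) (.leaf 8 6 [8, 8, 11, 8, 8, 11, 8, 8, 11]))) (.node 25 (.node 24 (.leaf 21 5 [11, 11, 11, 9, 11, 11, 11, 9]) (.leaf 8 7 [8, 11, 8, 8, 11, 8, 8, 11, 8])) (.node 26 (.leaf 14 2 [9, 11, 8, 10, 9, 11, 8, 10, 9, 11, 8, 10]) (.node 27 (.leaf 14 9 [10, 9, 11, 8, 10, 9, 11, 8, 10, 9, 11, 8]) (.leaf 8 4 [8, 11, 8, 8, 11, 8, 8, 11, 8]))))) (.node 33 (.node 30 (.node 29 (.leaf 16 4 [8,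 11, 9, 10, 8, 11, 9, 10, 8, 11, 9, 10]) (.leaf 21 3 [11, 9, 11, 11, 11, 9, 11, 11])) (.node 31 (.leaf 10 7 [9, 10, 9, 9, 10, 9, 9, 10, 9]) (.node 32 (.leaf 14 8 [8, 10, 9, 11, 8, 10, 9, 11, 8, 10, 9, 11]) (.leaf 10 6 [9, 9, 10, 9, 9, 10, 9, 9, 10])))) (.node 35 (.node 34 (.leaf 14 7 [11, 8, 10, 9, 11, 8, 10, 9, 11, 8, 10, 9]) (.leaf 15 3 [10, 8, 10, 10, 10, 8, 10, 10])) (.node 36 (.leaf 7 4 [9, 11, 9, 11, 9, 11]) (.node 37 (.leaf 17 16 [8, 11, 11, 11, 8, 11, 11, 11, 8, 11, 11, 11, 8, 11, 11, 11, 8, 11, 11, 11]) (.leaf 14 10 [9, 11, 8, 10, 9, 11, 8, 10, 9, 11, 8, 10]))))))) (.node 57 (.node 47 (.node 42 (.node 40 (.node 39 (.leaf 2 12 [10, 10, 10, 10, 10, 10, 10, 10, 10, 10, 10, 10, 10, 10, 10]) (.leaf 15 0 [8, 10, 10, 10, 8, 10, 10, 10])) (.node 41 (.leaf 16 11 [10, 8, 11, 9, 10, 8, 11, 9, 10, 8, 11, 9])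 (.leaf 10 4 [9, 10, 9, 9, 10, 9, 9, 10, 9]))) (.node 44 (.node 43 (.leaf 12 6 [10, 10, 8, 8, 10, 10, 8, 8, 10, 10, 8, 8, 10, 10, 8, 8, 10, 10, 8, 8, 10, 10, 8, 8]) (.leaf 9 6 [8, 11, 11, 8, 11, 11, 8, 11, 11, 8, 11, 11, 8, 11, 11, 8, 11, 11])) (.node 45 (.leaf 14 11 [11, 8, 10, 9, 11, 8, 10, 9, 11, 8, 10, 9]) (.node 46 (.leaf 19 0 [9, 10, 9, 11, 9, 10, 9, 11]) (.leaf 12 16 [8, 8, 10, 10, 8, 8, 10, 10, 8, 8, 10, 10, 8, 8, 10, 10, 8, 8, 10, 10, 8, 8, 10, 10]))))) (.node 52 (.node 49 (.node 48 (.leaf 11 4 [10, 10, 9, 10, 10, 9, 10, 10, 9, 10, 10, 9, 10, 10, 9, 10, 10, 9]) (.leaf 7 2 [9, 11, 9, 11, 9, 11])) (.node 50 (.leaf 2 4 [10, 10, 10, 10, 10, 10, 10, 10, 10, 10, 10, 10, 10, 10, 10]) (.node 51 (.leaf 11 11 [10, 9, 10, 10, 9, 10, 10, 9, 10, 10, 9, 10, 10, 9, 10, 10, 9, 10]) (.leaf 20 16 [9, 10, 10, 10, 9,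 10, 10, 10, 9, 10, 10, 10, 9, 10, 10, 10, 9, 10, 10, 10])))) (.node 54 (.node 53 (.leaf 12 3 [10, 8, 8, 10, 10, 8, 8, 10, 10, 8, 8, 10, 10, 8, 8, 10, 10, 8, 8, 10, 10, 8, 8, 10]) (.leaf 13 7 [11, 8, 10, 8, 11, 8, 10, 8])) (.node 55 (.leaf 16 8 [8, 11, 9, 10, 8, 11, 9, 10, 8, 11, 9, 10]) (.node 56 (.leaf 17 10 [11, 11, 8, 11, 11, 11, 8, 11, 11, 11, 8, 11, 11, 11, 8, 11, 11, 11, 8, 11]) (.leaf 3 6 [11, 11, 11, 11, 11, 11, 11, 11, 11, 11, 11, 11, 11, 11, 11])))))) (.node 66 (.node 61 (.node 59 (.node 58 (.leaf 17 5 [11, 11, 11, 8, 11, 11, 11, 8, 11, 11, 11, 8, 11, 11, 11, 8, 11, 11, 11, 8]) (.leaf 18 5 [9, 11, 11, 9, 9, 11, 11, 9, 9, 11, 11, 9, 9, 11, 11, 9, 9, 11, 11, 9, 9, 11, 11, 9])) (.node 60 (.leaf 11 6 [9, 10, 10, 9, 10, 10, 9, 10, 10, 9, 10, 10, 9, 10, 10, 9, 10, 10]) (.leaf 5 9 [11, 8, 11, 8, 11, 8,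 11, 8, 11, 8, 11, 8, 11, 8, 11, 8, 11, 8, 11, 8, 11, 8, 11, 8, 11, 8, 11, 8, 11, 8]))) (.node 63 (.node 62 (.leaf 8 5 [11, 8, 8, 11, 8, 8, 11, 8, 8]) (.leaf 6 14 [9, 10, 9, 10, 9, 10, 9, 10, 9, 10, 9, 10, 9, 10, 9, 10, 9, 10, 9, 10, 9, 10, 9, 10, 9, 10, 9, 10, 9, 10])) (.node 64 (.leaf 11 2 [10, 9, 10, 10, 9, 10, 10, 9, 10, 10, 9, 10, 10, 9, 10, 10, 9, 10]) (.node 65 (.leaf 18 17 [9, 11, 11, 9, 9, 11, 11, 9, 9, 11, 11, 9, 9, 11, 11, 9, 9, 11, 11, 9, 9, 11, 11, 9]) (.leaf 20 11 [10, 9, 10, 10, 10, 9, 10, 10, 10, 9, 10, 10, 10, 9, 10, 10, 10, 9, 10, 10]))))) (.node 71 (.node 68 (.node 67 (.leaf 20 7 [10, 9, 10, 10, 10, 9, 10, 10, 10, 9, 10, 10, 10, 9, 10, 10, 10, 9, 10, 10]) (.leaf 12 18 [10, 10, 8, 8, 10, 10, 8, 8, 10, 10, 8, 8, 10, 10, 8, 8, 10, 10, 8, 8, 10, 10, 8, 8])) (.node 69 (.leaf 5 4 [8, 11, 8, 11,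 8, 11, 8, 11, 8, 11, 8, 11, 8, 11, 8, 11, 8, 11, 8, 11, 8, 11, 8, 11, 8, 11, 8, 11, 8, 11]) (.node 70 (.leaf 17 4 [8, 11, 11, 11, 8, 11, 11, 11, 8, 11, 11, 11, 8, 11, 11, 11, 8, 11, 11, 11]) (.leaf 20 5 [10, 10, 10, 9, 10, 10, 10, 9, 10, 10, 10, 9, 10, 10, 10, 9, 10, 10, 10, 9])))) (.node 73 (.node 72 (.leaf 20 6 [10, 10, 9, 10, 10, 10, 9, 10, 10, 10, 9, 10, 10, 10, 9, 10, 10, 10, 9, 10]) (.leaf 17 11 [11, 8, 11, 11, 11, 8, 11, 11, 11, 8, 11, 11, 11, 8, 11, 11, 11, 8, 11, 11])) (.node 74 (.leaf 5 27 [11, 8, 11, 8, 11, 8, 11, 8, 11, 8, 11, 8, 11, 8, 11, 8, 11, 8, 11, 8, 11, 8, 11, 8, 11, 8, 11, 8, 11, 8]) (.node 75 (.leaf 21 2 [11, 11, 9, 11, 11, 11, 9, 11]) (.leaf 12 21 [8, 10, 10, 8, 8, 10, 10, 8, 8, 10, 10, 8, 8, 10, 10, 8, 8, 10, 10, 8, 8, 10, 10, 8]))))))))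

theorem b0 : allR (guardB 3 (blk fc sc rt.get Cfsg.Agent.Lib.Helper3.G24.INV isH)) 2 0 = true := by decide +kernel
theorem c0 : allR (guardB 6 (cblk fc nc cc 768 180 79228162514264337593543950336 gens)) 3 0 = true := by decide +kernel

theorem chkAll : ∀ j < 3, blk fc sc rt.get Cfsg.Agent.Lib.Helper3.G24.INV isH j = true :=
  guardB_spec (D := 2) b0 (by norm_num)

theorem clAll : ∀ jb < 6, cblk fc nc cc (256 * 3) 180 79228162514264337593543950336 gens jb = true :=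
  guardB_spec (D := 3) c0 (by norm_num)

theorem hid_0 : BR_0.all (wordId (ntOf Cfsg.Agent.Lib.Helper3.G24.ntl) 11) = true := by decide +kernel
theorem hid : BR.all (wordId (ntOf Cfsg.Agent.Lib.Helper3.G24.ntl) 11) = true := by
  simp only [BR, List.all_append, hid_0, Bool.and_self]

theorem card_eq : Nat.card (lgrp (vL Cfsg.Agent.Lib.Helper3.G24.ntl Cfsg.Agent.Lib.Helper3.G24.deg) gens) = 180 * Nat.card (lgrp (vL Cfsg.Agent.Lib.Helper3.G24.ntl Cfsg.Agent.Lib.Helper3.G24.deg) hl) :=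
  Cfsg.Agent.Lib.Helper3.G24.setup.level gens hl dl BR (by decide +kernel) (by decide +kernel) hid (by decide +kernel)
    (by decide +kernel) rt (by decide +kernel) isH (fun l h => of_decide_eq_true h) fc sc nc cc 3 6 180 79228162514264337593543950336
    (by norm_num) (by norm_num) (by decide +kernel) (by decide) chkAll clAll
    2 2 7 (by norm_num [Cfsg.Agent.Lib.Helper3.G24.deg]) (by norm_num [Cfsg.Agent.Lib.Helper3.G24.deg]) (by decide +kernel) (by decide +kernel)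

theorem ub {M : Type*} [Group M] (w : ℕ → M) (h0 : w 0 = 1) (hinv : ∀ l, w (invL Cfsg.Agent.Lib.Helper3.G24.INV l) = (w l)⁻¹)
    (hBR : ∀ r ∈ BR, (r.map w).prod = 1)
    (hdlr : ∀ r ∈ dl.map (fun p => p.1 ++ [p.2]), (r.map w).prod = 1) (N : ℕ) (hN : Bd w hl N) :
    Bd w gens (180 * N) :=
  level_bd w Cfsg.Agent.Lib.Helper3.G24.INV h0 hinv gens hl dl BR (by decide +kernel) hdlr hBR (by decide +kernel) (by decide +kernel)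
    rt (by decide +kernel) isH (fun l h => of_decide_eq_true h) fc sc nc cc 3 6 180 79228162514264337593543950336
    (by norm_num) (by norm_num) (by decide +kernel) (by decide) chkAll clAll N hN

end Cfsg.Agent.Lib.Helper3.G24.L3
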